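import Cfsg.Agent.Lib.Helper28.O73C.Comp

/-! Project O73C (S5514): the basic checks, part 0 (generated, helper28). -/

set_option autoImplicit false
set_option maxRecDepth 100000

namespace Cfsg.Agent.Lib.Helper28.O73C

theorem h28_basic_0 : basicAll 0 729 = true := by decide +kernel

theorem h28_basic_1 : basicAll 729 729 = true := by decide +kernel

theorem h28_basic_2 : basicAll 1458 729 = true := by decide +kernel

theorem h28_basic_3 : basicAll 2187 729 = true := by decide +kernel

theorem h28_basic_4 : basicAll 2916 729 = true := by decide +kernel

theorem h28_basic_5 : basicAll 3645 729 = true := by decide +kernel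

theorem h28_basic_6 : basicAll 4374 729 = true := by decide +kernel

theorem h28_basic_7 : basicAll 5103 729 = true := by decide +kernel

theorem h28_basic_8 : basicAll 5832 729 = true := by decide +kernel

end Cfsg.Agent.Lib.Helper28.O73C
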