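import Cfsg.Agent.Lib.Helper28.O73C.Comp

/-! Project O73C (S5514): the basic checks, part 1 (generated, helper28). -/

set_option autoImplicit false
set_option maxRecDepth 100000

namespace Cfsg.Agent.Lib.Helper28.O73C

theorem h28_basic_9 : basicAll 6561 729 = true := by decide +kernel

theorem h28_basic_10 : basicAll 7290 729 = true := by decide +kernel

theorem h28_basic_11 : basicAll 8019 729 = true := by decide +kernel

theorem h28_basic_12 : basicAll 8748 729 = true := by decide +kernel

theorem h28_basic_13 : basicAll 9477 729 = true := by decide +kernel

theorem h28_basic_14 : basicAll 10206 729 = true := by decide +kernel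

theorem h28_basic_15 : basicAll 10935 729 = true := by decide +kernel

theorem h28_basic_16 : basicAll 11664 729 = true := by decide +kernel

theorem h28_basic_17 : basicAll 12393 729 = true := by decide +kernel

end Cfsg.Agent.Lib.Helper28.O73C
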