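import Cfsg.Agent.Lib.Helper28.O73C.Comp

/-! Project O73C (S5514): the basic checks, part 2 (generated, helper28). -/

set_option autoImplicit false
set_option maxRecDepth 100000

namespace Cfsg.Agent.Lib.Helper28.O73C

theorem h28_basic_18 : basicAll 13122 729 = true := by decide +kernel

theorem h28_basic_19 : basicAll 13851 729 = true := by decide +kernel

theorem h28_basic_20 : basicAll 14580 729 = true := by decide +kernel

theorem h28_basic_21 : basicAll 15309 729 = true := by decide +kernel

theorem h28_basic_22 : basicAll 16038 729 = true := by decide +kernel

theorem h28_basic_23 : basicAll 16767 729 = true := by decide +kernel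

theorem h28_basic_24 : basicAll 17496 729 = true := by decide +kernel

theorem h28_basic_25 : basicAll 18225 729 = true := by decide +kernel

theorem h28_basic_26 : basicAll 18954 729 = true := by decide +kernel

end Cfsg.Agent.Lib.Helper28.O73C
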