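import Cfsg.Agent.Lib.Helper28.O73C.Comp

/-! Project O73C (S5514): certificates for the parameters 0 to 728 (generated, helper28). -/

set_option autoImplicit false
set_option maxRecDepth 100000

namespace Cfsg.Agent.Lib.Helper28.O73C

/-- certificates, chunk 0 -/
def h28_certs_0 : List Cert :=
  [.one,
  .cj 0 [2,5,26,6],
  .cj 0 [20,23,26,6],
  .cj 0 [2,5,28,7],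
  .cj 0 [2,5,26,7,6],
  .cj 0 [20,23,10,9,6],
  .cj 0 [26,14,17,6],
  .cj 0 [2,5,10,9,6],
  .cj 0 [20,23,26,7,6],
  .cj 0 [36,14,17],
  .cj 6 [2,5],
  .cj 6 [20,23],
  .cj 0 [36,14,17,6],
  .cj 6 [2,5,1],
  .cj 6 [20,23,9],
  .cj 0 [14,17,8,6],
  .cj 6 [9,2,5],
  .cj 6 [20,23,1],
  .cj 0 [14,17],
  .cj 6 [36,20,23,1],
  .cj 6 [36,2,5,1],
  .cj 0 [24,14,17],
  .cj 6 [36,20,23,9],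
  .cj 6 [36,2,5],
  .cj 0 [14,17,6],
  .cj 6 [36,20,23],
  .cj 6 [36,9,2,5],
  .cj 2 [28,7],
  .cj 2 [16,28,7],
  .cj 2 [34,28,7],
  .cj 2 [17,28,7],
  .cj 2 [17,16,28,7],
  .cj 2 [11,17,28,7],
  .cj 2 [35,28,7],
  .cj 2 [9,16,28,7],
  .cj 2 [27,34,28,7],
  .cj 3 [14,17,10,25,6,10],
  .cj 6 [19,13,2,5],
  .cj 6 [20,23,17,6],
  .cj 3 [32,35,10,25,10],
  .cj 6 [13,2,6,5],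
  .cj 6 [31,20,23,6],
  .cj 3 [14,17,10,25,10],
  .cj 6 [19,2,17,5],
  .cj 6 [20,1,23,17],
  .cj 4 [32,35,10,25,6,10],
  .cj 6 [36,20,35,1,23],
  .cj 6 [36,31,2,6,5],
  .cj 4 [32,35,10,25,10],
  .cj 6 [36,20,13,23,6],
  .cj 6 [36,31,19,2,5],
  .cj 4 [14,17,10,25,10],
  .cj 6 [36,20,35,23,6],
  .cj 6 [36,2,35,19,5],
  .cj 2 [10,25],
  .cj 2 [34,10,25],
  .cj 2 [16,10,25],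
  .cj 2 [35,10,25],
  .cj 2 [27,34,10,25],
  .cj 2 [9,16,10,25],
  .cj 2 [17,10,25],
  .cj 2 [11,17,10,25],
  .cj 2 [17,16,10,25],
  .cj 4 [32,35,28,13,11,7],
  .cj 6 [31,19,2,5],
  .cj 6 [20,35,23,6],
  .cj 4 [14,17,28,13,7],
  .cj 6 [31,2,6,5],
  .cj 6 [20,13,23,6],
  .cj 4 [32,35,28,13,7],
  .cj 6 [2,35,19,5],
  .cj 6 [20,35,1,23],
  .cj 3 [14,17,7,28,11,7],
  .cj 6 [36,20,1,23,17],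
  .cj 6 [36,13,2,6,5],
  .cj 3 [14,17,7,28,7],
  .cj 6 [36,31,20,23,6],
  .cj 6 [36,19,13,2,5],
  .cj 3 [32,35,7,28,7],
  .cj 6 [36,20,23,17,6],
  .cj 6 [36,19,2,17,5],
  .cj 2 [29,9],
  .o9 4,
  .o9 4,
  .cj 4 [11,31,27,34,10],
  .o9 4,
  .o9 4,
  .cj 3 [11,27,13,16,10],
  .o9 4,
  .o9 4,
  .cj 2 [17,29,9],
  .o9 4,
  .o9 4,
  .cj 4 [32,35,11,27,11],
  .o9 4,
  .o9 4,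
  .cj 3 [32,35,11,27,11],
  .o9 4,
  .o9 4,
  .cj 2 [35,29,9],
  .o9 4,
  .o9 4,
  .cj 4 [14,17,11,27,11],
  .o9 4,
  .o9 4,
  .cj 3 [14,17,11,27,11],
  .o9 4,
  .o9 4,
  .cj 2 [28,8,7],
  .o9 4,
  .o9 4,
  .cj 4 [32,35,10,8,25,10],
  .o9 4,
  .o9 4,
  .cj 3 [11,27,25,13,16,10],
  .o9 4,
  .o9 4,
  .cj 3 [32,35,10,27,25,11],
  .o9 4,
  .o9 4,
  .cj 2 [17,28,8,7],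
  .o9 4,
  .o9 4,
  .cj 4 [14,17,10,8,25,10],
  .o9 4,
  .o9 4,
  .cj 4 [14,17,10,27,25,11],
  .o9 4,
  .o9 4,
  .cj 3 [32,35,10,8,25,10],
  .o9 4,
  .o9 4,
  .cj 2 [35,28,8,7],
  .o9 4,
  .o9 4,
  .cj 2 [10,24,9],
  .o9 4,
  .o9 4,
  .cj 4 [29,13,9,16,10,7],
  .o9 4,
  .o9 4,
  .cj 3 [29,31,9,34,10,7],
  .o9 4,
  .o9 4,
  .cj 4 [32,35,11,27,11,7],
  .o9 4,
  .o9 4,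
  .cj 3 [32,35,11,27,11,7],
  .o9 4,
  .o9 4,
  .cj 2 [17,10,24,9],
  .o9 4,
  .o9 4,
  .cj 3 [14,17,11,27,11,7],
  .o9 4,
  .o9 4,
  .cj 2 [35,10,24,9],
  .o9 4,
  .o9 4,
  .cj 4 [14,17,11,27,11,7],
  .o9 4,
  .o9 4,
  .cj 2 [11,27],
  .o9 4,
  .o9 4,
  .cj 3 [29,13,9,16,10],
  .o9 4,
  .o9 4,
  .cj 4 [29,31,9,34,10],
  .o9 4,
  .o9 4,
  .cj 2 [35,11,27],
  .o9 4,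
  .o9 4,
  .cj 3 [14,17,29,12,9],
  .o9 4,
  .o9 4,
  .cj 4 [14,17,9,29,9],
  .o9 4,
  .o9 4,
  .cj 2 [17,11,27],
  .o9 4,
  .o9 4,
  .cj 3 [32,35,29,12,9],
  .o9 4,
  .o9 4,
  .cj 4 [32,35,9,29,9],
  .o9 4,
  .o9 4,
  .cj 2 [11,26,7],
  .o9 4,
  .o9 4,
  .cj 3 [32,35,10,25,10,9],
  .o9 4,
  .o9 4,
  .cj 4 [14,17,10,25,10,9],
  .o9 4,
  .o9 4,
  .cj 3 [14,17,10,24,12,9],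
  .o9 4,
  .o9 4,
  .cj 4 [32,35,10,25,10,9],
  .o9 4,
  .o9 4,
  .cj 2 [35,11,26,7],
  .o9 4,
  .o9 4,
  .cj 4 [32,35,9,29,24,9],
  .o9 4,
  .o9 4,
  .cj 2 [17,11,26,7],
  .o9 4,
  .o9 4,
  .cj 3 [14,17,10,25,10,9],
  .o9 4,
  .o9 4,
  .cj 2 [10,8,25],
  .o9 4,
  .o9 4,
  .cj 3 [14,17,7,28,8,7],
  .o9 4,
  .o9 4,
  .cj 4 [32,35,28,13,8,7],
  .o9 4,
  .o9 4,
  .cj 4 [14,17,9,29,8,7],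
  .o9 4,
  .o9 4,
  .cj 2 [35,10,8,25],
  .o9 4,
  .o9 4,
  .cj 3 [14,17,28,12,8,7],
  .o9 4,
  .o9 4,
  .cj 3 [32,35,28,12,8,7],
  .o9 4,
  .o9 4,
  .cj 4 [14,17,28,13,8,7],
  .o9 4,
  .o9 4,
  .cj 2 [17,10,8,25],
  .o9 4,
  .o9 4,
  .cj 2 [],
  .cj 3 [36,13,16,10],
  .cj 4 [36,31,34,10],
  .o9 4,
  .o9 4,
  .o9 4,
  .o9 4,
  .o9 4,
  .o9 4,
  .o9 5,
  .o9 0,
  .o9 0,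
  .o9 4,
  .o9 0,
  .o9 0,
  .o9 4,
  .o9 0,
  .o9 0,
  .o9 5,
  .o9 0,
  .o9 0,
  .o9 4,
  .o9 0,
  .o9 0,
  .o9 4,
  .o9 0,
  .o9 0,
  .cj 2 [7],
  .cj 3 [13,16,28,25],
  .cj 4 [31,34,28,25],
  .o9 4,
  .o9 4,
  .o9 4,
  .o9 4,
  .o9 4,
  .o9 4,
  .o9 4,
  .o9 0,
  .o9 0,
  .o9 4,
  .o9 0,
  .o9 0,
  .o9 4,
  .o9 0,
  .o9 0,
  .o9 4,
  .o9 0,
  .o9 0,
  .o9 4,
  .o9 0,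
  .o9 0,
  .o9 4,
  .o9 0,
  .o9 0,
  .cj 2 [25],
  .cj 3 [31,34,10,7],
  .cj 4 [13,16,10,7],
  .o9 4,
  .o9 4,
  .o9 4,
  .o9 4,
  .o9 4,
  .o9 4,
  .o9 4,
  .o9 0,
  .o9 0,
  .o9 4,
  .o9 0,
  .o9 0,
  .o9 4,
  .o9 0,
  .o9 0,
  .o9 4,
  .o9 0,
  .o9 0,
  .o9 4,
  .o9 0,
  .o9 0,
  .o9 4,
  .o9 0,
  .o9 0,
  .cj 2 [9],
  .o9 4,
  .o9 4,
  .o9 4,
  .o9 4,
  .cj 4 [36,31,9,34,10],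
  .o9 4,
  .cj 3 [36,13,9,16,10],
  .o9 4,
  .o9 5,
  .o9 0,
  .o9 0,
  .o9 4,
  .o9 0,
  .o9 0,
  .o9 4,
  .o9 0,
  .o9 0,
  .o9 5,
  .o9 0,
  .o9 0,
  .o9 4,
  .o9 0,
  .o9 0,
  .o9 4,
  .o9 0,
  .o9 0,
  .cj 2 [8,7],
  .o9 4,
  .o9 4,
  .o9 4,
  .o9 4,
  .cj 4 [31,9,34,28,25],
  .o9 4,
  .cj 3 [13,9,16,28,25],
  .o9 4,
  .o9 4,
  .o9 0,
  .o9 0,
  .o9 4,
  .o9 0,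
  .o9 0,
  .o9 4,
  .o9 0,
  .o9 0,
  .o9 4,
  .o9 0,
  .o9 0,
  .o9 4,
  .o9 0,
  .o9 0,
  .o9 4,
  .o9 0,
  .o9 0,
  .cj 2 [24,9],
  .o9 4,
  .o9 4,
  .o9 4,
  .o9 4,
  .cj 4 [13,9,16,10,7],
  .o9 4,
  .cj 3 [31,9,34,10,7],
  .o9 4,
  .o9 4,
  .o9 0,
  .o9 0,
  .o9 4,
  .o9 0,
  .o9 0,
  .o9 4,
  .o9 0,
  .o9 0,
  .o9 4,
  .o9 0,
  .o9 0,
  .o9 4,
  .o9 0,
  .o9 0,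
  .o9 4,
  .o9 0,
  .o9 0,
  .cj 2 [27],
  .o9 4,
  .o9 4,
  .o9 4,
  .cj 3 [11,13,9,16,10],
  .o9 4,
  .o9 4,
  .o9 4,
  .cj 4 [11,31,9,34,10],
  .o9 5,
  .o9 0,
  .o9 0,
  .o9 4,
  .o9 0,
  .o9 0,
  .o9 4,
  .o9 0,
  .o9 0,
  .o9 5,
  .o9 0,
  .o9 0,
  .o9 4,
  .o9 0,
  .o9 0,
  .o9 4,
  .o9 0,
  .o9 0,
  .cj 2 [26,7],
  .o9 4,
  .o9 4,
  .o9 4,
  .cj 3 [27,13,16,28,25],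
  .o9 4,
  .o9 4,
  .o9 4,
  .cj 4 [31,27,34,28,25],
  .o9 4,
  .o9 0,
  .o9 0,
  .o9 4,
  .o9 0,
  .o9 0,
  .o9 4,
  .o9 0,
  .o9 0,
  .o9 4,
  .o9 0,
  .o9 0,
  .o9 4,
  .o9 0,
  .o9 0,
  .o9 4,
  .o9 0,
  .o9 0,
  .cj 2 [8,25],
  .o9 4,
  .o9 4,
  .o9 4,
  .cj 3 [31,27,34,10,7],
  .o9 4,
  .o9 4,
  .o9 4,
  .cj 4 [27,13,16,10,7],
  .o9 4,
  .o9 0,
  .o9 0,
  .o9 4,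
  .o9 0,
  .o9 0,
  .o9 4,
  .o9 0,
  .o9 0,
  .o9 4,
  .o9 0,
  .o9 0,
  .o9 4,
  .o9 0,
  .o9 0,
  .o9 4,
  .o9 0,
  .o9 0,
  .cj 2 [36],
  .cj 4 [31,34,10],
  .cj 3 [13,16,10],
  .o9 4,
  .o9 4,
  .o9 4,
  .o9 4,
  .o9 4,
  .o9 4,
  .o9 5,
  .o9 0,
  .o9 0,
  .o9 4,
  .o9 0,
  .o9 0,
  .o9 4,
  .o9 0,
  .o9 0,
  .o9 5,
  .o9 0,
  .o9 0,
  .o9 4,
  .o9 0,
  .o9 0,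
  .o9 4,
  .o9 0,
  .o9 0,
  .cj 2 [10,7],
  .cj 4 [31,34,25,10],
  .cj 3 [25,13,16,10],
  .o9 4,
  .o9 4,
  .o9 4,
  .o9 4,
  .o9 4,
  .o9 4,
  .o9 4,
  .o9 0,
  .o9 0,
  .o9 4,
  .o9 0,
  .o9 0,
  .o9 4,
  .o9 0,
  .o9 0,
  .o9 4,
  .o9 0,
  .o9 0,
  .o9 4,
  .o9 0,
  .o9 0,
  .o9 4,
  .o9 0,
  .o9 0,
  .cj 2 [36,7],
  .cj 4 [13,16,13,7],
  .cj 3 [13,16,13,7],
  .o9 4,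
  .o9 4,
  .o9 4,
  .o9 4,
  .o9 4,
  .o9 4,
  .o9 4,
  .o9 0,
  .o9 0,
  .o9 4,
  .o9 0,
  .o9 0,
  .o9 4,
  .o9 0,
  .o9 0,
  .o9 4,
  .o9 0,
  .o9 0,
  .o9 4,
  .o9 0,
  .o9 0,
  .o9 4,
  .o9 0,
  .o9 0,
  .cj 2 [11,9],
  .o9 4,
  .o9 4,
  .o9 4,
  .cj 4 [31,27,34,10],
  .o9 4,
  .o9 4,
  .o9 4,
  .cj 3 [27,13,16,10],
  .o9 5,
  .o9 0,
  .o9 0,
  .o9 4,
  .o9 0,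
  .o9 0,
  .o9 4,
  .o9 0,
  .o9 0,
  .o9 5,
  .o9 0,
  .o9 0,
  .o9 4,
  .o9 0,
  .o9 0,
  .o9 4,
  .o9 0,
  .o9 0,
  .cj 2 [10,8,7],
  .o9 4,
  .o9 4,
  .o9 4,
  .cj 4 [31,27,34,25,10],
  .o9 4,
  .o9 4,
  .o9 4,
  .cj 3 [27,25,13,16,10],
  .o9 4,
  .o9 0,
  .o9 0,
  .o9 4,
  .o9 0,
  .o9 0,
  .o9 4,
  .o9 0,
  .o9 0,
  .o9 4,
  .o9 0,
  .o9 0,
  .o9 4,
  .o9 0,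
  .o9 0,
  .o9 4,
  .o9 0,
  .o9 0,
  .cj 2 [36,26,7],
  .o9 4,
  .o9 4,
  .o9 4,
  .cj 4 [27,13,16,13,7],
  .o9 4,
  .o9 4,
  .o9 4,
  .cj 3 [27,13,16,13,7],
  .o9 4,
  .o9 0,
  .o9 0,
  .o9 4,
  .o9 0,
  .o9 0,
  .o9 4,
  .o9 0,
  .o9 0,
  .o9 4,
  .o9 0,
  .o9 0,
  .o9 4,
  .o9 0,
  .o9 0,
  .o9 4,
  .o9 0,
  .o9 0,
  .cj 2 [36,9],
  .o9 4,
  .o9 4,
  .o9 4,
  .o9 4,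
  .cj 3 [13,9,16,10],
  .o9 4,
  .cj 4 [31,9,34,10],
  .o9 4,
  .o9 5,
  .o9 0,
  .o9 0,
  .o9 4,
  .o9 0,
  .o9 0,
  .o9 4,
  .o9 0,
  .o9 0,
  .o9 5,
  .o9 0,
  .o9 0,
  .o9 4,
  .o9 0,
  .o9 0,
  .o9 4,
  .o9 0,
  .o9 0,
  .cj 2 [9,10,7],
  .o9 4,
  .o9 4,
  .o9 4,
  .o9 4,
  .cj 3 [24,13,9,16,10],
  .o9 4,
  .cj 4 [14,9,34,25,10],
  .o9 4,
  .o9 4,
  .o9 0,
  .o9 0,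
  .o9 4,
  .o9 0,
  .o9 0,
  .o9 4,
  .o9 0,
  .o9 0,
  .o9 4,
  .o9 0,
  .o9 0,
  .o9 4,
  .o9 0,
  .o9 0,
  .o9 4,
  .o9 0,
  .o9 0,
  .cj 2 [36,8,7],
  .o9 4,
  .o9 4,
  .o9 4,
  .o9 4,
  .cj 3 [13,9,16,13,7],
  .o9 4,
  .cj 4 [13,9,16,13,7],
  .o9 4,
  .o9 4,
  .o9 0,
  .o9 0,
  .o9 4,
  .o9 0,
  .o9 0,
  .o9 4,
  .o9 0,
  .o9 0,
  .o9 4,
  .o9 0,
  .o9 0,
  .o9 4,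
  .o9 0,
  .o9 0,
  .o9 4,
  .o9 0,
  .o9 0]

theorem h28_len_0 : h28_certs_0.length = 729 := by decide +kernel

theorem h28_chk_0 : chkAll 0 h28_certs_0 = true := by decide +kernel

end Cfsg.Agent.Lib.Helper28.O73C
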