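import Cfsg.Agent.Lib.Helper28.O73C.Comp

/-! Project O73C (S5514): certificates for the parameters 729 to 1457 (generated, helper28). -/

set_option autoImplicit false
set_option maxRecDepth 100000

namespace Cfsg.Agent.Lib.Helper28.O73C

/-- certificates, chunk 1 -/
def h28_certs_1 : List Cert :=
  [.cj 0 [10,25],
  .cj 2 [34,28,13,7],
  .cj 1 [2,5,26,2,6],
  .cj 0 [23,10,25],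
  .cj 2 [34,17,28,13,7],
  .cj 1 [11,26,2,6],
  .cj 0 [5,10,25],
  .cj 2 [34,5,28,13,7],
  .cj 1 [29,8,24,7],
  .cj 0 [4,10,25],
  .cj 6 [19,2,5],
  .cj 6 [20,19,23],
  .cj 0 [6,4,10,25],
  .cj 6 [2,6,5],
  .cj 6 [20,24,23,1],
  .cj 0 [5,4,10,25],
  .cj 6 [2,6,5,1],
  .cj 6 [20,24,23],
  .cj 0 [14,1,17],
  .cj 6 [36,20,1,23,1],
  .cj 6 [36,2,1,5,1],
  .cj 0 [23,14,1,17],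
  .cj 6 [36,20,23,6],
  .cj 6 [36,2,1,5],
  .cj 0 [14,17,9,6],
  .cj 6 [36,20,1,23],
  .cj 6 [36,2,24,5],
  .cj 2 [28,13,7],
  .cj 1 [11,13,23,26,6,1],
  .cj 0 [16,10,25],
  .cj 2 [17,28,13,7],
  .cj 1 [13,29,26,6,1],
  .cj 0 [9,16,10,25],
  .cj 2 [5,28,13,7],
  .cj 1 [13,11,8,24,1],
  .cj 0 [16,5,10,25],
  .cj 3 [32,35,10,25,11],
  .cj 6 [13,2,1,5],
  .cj 6 [31,20,23],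
  .cj 3 [32,35,10,25],
  .cj 6 [2,24,17,5],
  .cj 6 [20,23,17,1],
  .cj 3 [14,17,10,25],
  .cj 6 [2,17,1,5],
  .cj 6 [20,23,17],
  .cj 4 [36,32,35,28,11,7],
  .cj 6 [36,20,24,13,23],
  .cj 6 [36,31,2,5,1],
  .cj 4 [36,32,35,28,7],
  .cj 6 [36,20,35,24,23],
  .cj 6 [36,31,2,5],
  .cj 4 [36,14,17,28,7],
  .cj 6 [36,20,19,13,23],
  .cj 6 [36,2,35,5],
  .cj 2 [31,10,25],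
  .cj 1 [11,9,16,26,6,1],
  .cj 0 [34,10,25],
  .cj 2 [23,31,10,25],
  .cj 1 [20,16,26,6,1],
  .cj 0 [34,23,10,25],
  .cj 2 [20,17,10,25],
  .cj 1 [31,11,8,24,1],
  .cj 0 [34,5,10,25],
  .cj 4 [32,35,9,28,11,7],
  .cj 6 [31,2,1,5],
  .cj 6 [20,13,23],
  .cj 4 [14,1,17,28,7],
  .cj 6 [2,35,24,5],
  .cj 6 [20,35,23,1],
  .cj 4 [32,35,25,28,7],
  .cj 6 [2,35,1,5],
  .cj 6 [20,35,23],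
  .cj 3 [14,17,28,11,7],
  .cj 6 [36,20,19,23,17],
  .cj 6 [36,13,2,5,1],
  .cj 3 [14,17,28,7],
  .cj 6 [36,20,24,23,17],
  .cj 6 [36,13,2,5],
  .cj 3 [32,35,28,7],
  .cj 6 [36,31,20,19,23],
  .cj 6 [36,2,17,5],
  .cj 2 [30,29,9],
  .o9 4,
  .o9 4,
  .cj 4 [36,14,17,29,10,9],
  .o9 4,
  .o9 4,
  .cj 3 [14,11,27,16,10],
  .o9 4,
  .o9 4,
  .cj 2 [19,17,29,9],
  .o9 4,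
  .o9 4,
  .cj 4 [36,32,35,29,9],
  .o9 4,
  .o9 4,
  .cj 3 [32,35,11,27],
  .o9 4,
  .o9 4,
  .cj 2 [22,30,29,9],
  .o9 4,
  .o9 4,
  .cj 4 [36,14,17,29,9],
  .o9 4,
  .o9 4,
  .cj 3 [14,17,11,27],
  .o9 4,
  .o9 4,
  .cj 2 [28,13,8,7],
  .o9 4,
  .o9 4,
  .cj 4 [36,32,35,28,8,7],
  .o9 4,
  .o9 4,
  .cj 3 [14,17,10,8,25],
  .o9 4,
  .o9 4,
  .cj 3 [32,35,11,8,25],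
  .o9 4,
  .o9 4,
  .cj 2 [17,28,13,8,7],
  .o9 4,
  .o9 4,
  .cj 4 [36,14,17,28,8,7],
  .o9 4,
  .o9 4,
  .cj 4 [36,14,17,29,8,7],
  .o9 4,
  .o9 4,
  .cj 3 [32,35,10,8,25],
  .o9 4,
  .o9 4,
  .cj 2 [35,28,13,8,7],
  .o9 4,
  .o9 4,
  .cj 2 [10,25,14,9],
  .o9 4,
  .o9 4,
  .cj 4 [32,35,28,27,14,7],
  .o9 4,
  .o9 4,
  .cj 3 [32,35,28,26,7],
  .o9 4,
  .o9 4,
  .cj 4 [32,35,11,27,14,7],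
  .o9 4,
  .o9 4,
  .cj 3 [32,35,11,26,7],
  .o9 4,
  .o9 4,
  .cj 2 [17,10,25,14,9],
  .o9 4,
  .o9 4,
  .cj 3 [14,17,11,26,7],
  .o9 4,
  .o9 4,
  .cj 2 [35,10,25,14,9],
  .o9 4,
  .o9 4,
  .cj 4 [14,17,11,27,14,7],
  .o9 4,
  .o9 4,
  .cj 2 [11,27,12],
  .o9 4,
  .o9 4,
  .cj 3 [32,35,29,10,9],
  .o9 4,
  .o9 4,
  .cj 4 [14,17,29,12,10,9],
  .o9 4,
  .o9 4,
  .cj 2 [4,11,27,12],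
  .o9 4,
  .o9 4,
  .cj 3 [14,17,29,9],
  .o9 4,
  .o9 4,
  .cj 4 [14,17,29,12,9],
  .o9 4,
  .o9 4,
  .cj 2 [17,11,27,12],
  .o9 4,
  .o9 4,
  .cj 3 [32,35,29,9],
  .o9 4,
  .o9 4,
  .cj 4 [32,35,29,12,9],
  .o9 4,
  .o9 4,
  .cj 2 [11,27,12,7],
  .o9 4,
  .o9 4,
  .cj 3 [32,35,10,24,9],
  .o9 4,
  .o9 4,
  .cj 4 [36,14,17,28,26,7],
  .o9 4,
  .o9 4,
  .cj 3 [14,17,29,24,9],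
  .o9 4,
  .o9 4,
  .cj 4 [36,14,17,11,26,7],
  .o9 4,
  .o9 4,
  .cj 2 [35,11,27,12,7],
  .o9 4,
  .o9 4,
  .cj 4 [36,32,35,11,26,7],
  .o9 4,
  .o9 4,
  .cj 2 [17,11,27,12,7],
  .o9 4,
  .o9 4,
  .cj 3 [14,17,10,24,9],
  .o9 4,
  .o9 4,
  .cj 2 [11,27,25,12],
  .o9 4,
  .o9 4,
  .cj 3 [14,17,28,8,7],
  .o9 4,
  .o9 4,
  .cj 4 [14,17,28,12,8,7],
  .o9 4,
  .o9 4,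
  .cj 4 [32,35,28,12,8,7],
  .o9 4,
  .o9 4,
  .cj 2 [35,11,27,25,12],
  .o9 4,
  .o9 4,
  .cj 3 [32,35,28,8,7],
  .o9 4,
  .o9 4,
  .cj 3 [32,35,29,8,7],
  .o9 4,
  .o9 4,
  .cj 4 [32,35,29,12,8,7],
  .o9 4,
  .o9 4,
  .cj 2 [17,11,27,25,12],
  .o9 4,
  .o9 4,
  .cj 3 [],
  .cj 5 [9,29,6,26,2,6],
  .cj 6 [13,9,29,35,6,8],
  .o9 4,
  .o9 4,
  .o9 4,
  .o9 4,
  .o9 4,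
  .o9 4,
  .o9 5,
  .o9 0,
  .o9 0,
  .o9 4,
  .o9 0,
  .o9 0,
  .o9 4,
  .o9 0,
  .o9 0,
  .o9 5,
  .o9 0,
  .o9 0,
  .o9 4,
  .o9 0,
  .o9 0,
  .o9 4,
  .o9 0,
  .o9 0,
  .cj 3 [7],
  .cj 5 [9,29,26,2,6],
  .cj 6 [9,29,17,32,8,1],
  .o9 4,
  .o9 4,
  .o9 4,
  .o9 4,
  .o9 4,
  .o9 4,
  .o9 4,
  .o9 0,
  .o9 0,
  .o9 4,
  .o9 0,
  .o9 0,
  .o9 4,
  .o9 0,
  .o9 0,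
  .o9 4,
  .o9 0,
  .o9 0,
  .o9 4,
  .o9 0,
  .o9 0,
  .o9 4,
  .o9 0,
  .o9 0,
  .cj 3 [25],
  .cj 5 [36,27,11,26,6,1],
  .cj 6 [36,27,11,17,32,8],
  .o9 4,
  .o9 4,
  .o9 4,
  .o9 4,
  .o9 4,
  .o9 4,
  .o9 4,
  .o9 0,
  .o9 0,
  .o9 4,
  .o9 0,
  .o9 0,
  .o9 4,
  .o9 0,
  .o9 0,
  .o9 4,
  .o9 0,
  .o9 0,
  .o9 4,
  .o9 0,
  .o9 0,
  .o9 4,
  .o9 0,
  .o9 0,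
  .cj 3 [9],
  .o9 4,
  .o9 4,
  .o9 4,
  .o9 4,
  .cj 6 [31,11,35,26,24],
  .o9 4,
  .cj 5 [11,8,24,13,8],
  .o9 4,
  .o9 5,
  .o9 0,
  .o9 0,
  .o9 4,
  .o9 0,
  .o9 0,
  .o9 4,
  .o9 0,
  .o9 0,
  .o9 5,
  .o9 0,
  .o9 0,
  .o9 4,
  .o9 0,
  .o9 0,
  .o9 4,
  .o9 0,
  .o9 0,
  .cj 3 [8,7],
  .o9 4,
  .o9 4,
  .o9 4,
  .o9 4,
  .cj 6 [27,29,17,32,8,1],
  .o9 4,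
  .cj 5 [11,8,24,13],
  .o9 4,
  .o9 4,
  .o9 0,
  .o9 0,
  .o9 4,
  .o9 0,
  .o9 0,
  .o9 4,
  .o9 0,
  .o9 0,
  .o9 4,
  .o9 0,
  .o9 0,
  .o9 4,
  .o9 0,
  .o9 0,
  .o9 4,
  .o9 0,
  .o9 0,
  .cj 3 [24,9],
  .o9 4,
  .o9 4,
  .o9 4,
  .o9 4,
  .cj 6 [36,11,17,32,8],
  .o9 4,
  .cj 5 [36,11,26,6,1],
  .o9 4,
  .o9 4,
  .o9 0,
  .o9 0,
  .o9 4,
  .o9 0,
  .o9 0,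
  .o9 4,
  .o9 0,
  .o9 0,
  .o9 4,
  .o9 0,
  .o9 0,
  .o9 4,
  .o9 0,
  .o9 0,
  .o9 4,
  .o9 0,
  .o9 0,
  .cj 3 [27],
  .o9 4,
  .o9 4,
  .o9 4,
  .cj 5 [29,6,26,2,6],
  .o9 4,
  .o9 4,
  .o9 4,
  .cj 6 [13,29,35,6,8],
  .o9 5,
  .o9 0,
  .o9 0,
  .o9 4,
  .o9 0,
  .o9 0,
  .o9 4,
  .o9 0,
  .o9 0,
  .o9 5,
  .o9 0,
  .o9 0,
  .o9 4,
  .o9 0,
  .o9 0,
  .o9 4,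
  .o9 0,
  .o9 0,
  .cj 3 [26,7],
  .o9 4,
  .o9 4,
  .o9 4,
  .cj 5 [29,26,2,6],
  .o9 4,
  .o9 4,
  .o9 4,
  .cj 6 [29,17,32,8,1],
  .o9 4,
  .o9 0,
  .o9 0,
  .o9 4,
  .o9 0,
  .o9 0,
  .o9 4,
  .o9 0,
  .o9 0,
  .o9 4,
  .o9 0,
  .o9 0,
  .o9 4,
  .o9 0,
  .o9 0,
  .o9 4,
  .o9 0,
  .o9 0,
  .cj 3 [8,25],
  .o9 4,
  .o9 4,
  .o9 4,
  .cj 5 [36,29,8,24,1],
  .o9 4,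
  .o9 4,
  .o9 4,
  .cj 6 [14,7,29,35,8],
  .o9 4,
  .o9 0,
  .o9 0,
  .o9 4,
  .o9 0,
  .o9 0,
  .o9 4,
  .o9 0,
  .o9 0,
  .o9 4,
  .o9 0,
  .o9 0,
  .o9 4,
  .o9 0,
  .o9 0,
  .o9 4,
  .o9 0,
  .o9 0,
  .cj 4 [36],
  .cj 5 [31,9,29,17],
  .cj 6 [31,9,29,17,6,8],
  .o9 4,
  .o9 4,
  .o9 4,
  .o9 4,
  .o9 4,
  .o9 4,
  .o9 5,
  .o9 0,
  .o9 0,
  .o9 4,
  .o9 0,
  .o9 0,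
  .o9 4,
  .o9 0,
  .o9 0,
  .o9 5,
  .o9 0,
  .o9 0,
  .o9 4,
  .o9 0,
  .o9 0,
  .o9 4,
  .o9 0,
  .o9 0,
  .cj 4 [36,25],
  .cj 5 [31,25,9,29,17],
  .cj 6 [36,27,11,35,14,8],
  .o9 4,
  .o9 4,
  .o9 4,
  .o9 4,
  .o9 4,
  .o9 4,
  .o9 4,
  .o9 0,
  .o9 0,
  .o9 4,
  .o9 0,
  .o9 0,
  .o9 4,
  .o9 0,
  .o9 0,
  .o9 4,
  .o9 0,
  .o9 0,
  .o9 4,
  .o9 0,
  .o9 0,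
  .o9 4,
  .o9 0,
  .o9 0,
  .cj 4 [36,7],
  .cj 5 [31,9,7,29,17],
  .cj 6 [9,29,35,14,8,1],
  .o9 4,
  .o9 4,
  .o9 4,
  .o9 4,
  .o9 4,
  .o9 4,
  .o9 4,
  .o9 0,
  .o9 0,
  .o9 4,
  .o9 0,
  .o9 0,
  .o9 4,
  .o9 0,
  .o9 0,
  .o9 4,
  .o9 0,
  .o9 0,
  .o9 4,
  .o9 0,
  .o9 0,
  .o9 4,
  .o9 0,
  .o9 0,
  .cj 4 [36,27],
  .o9 4,
  .o9 4,
  .o9 4,
  .cj 5 [31,29,17],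
  .o9 4,
  .o9 4,
  .o9 4,
  .cj 6 [31,29,17,6,8],
  .o9 5,
  .o9 0,
  .o9 0,
  .o9 4,
  .o9 0,
  .o9 0,
  .o9 4,
  .o9 0,
  .o9 0,
  .o9 5,
  .o9 0,
  .o9 0,
  .o9 4,
  .o9 0,
  .o9 0,
  .o9 4,
  .o9 0,
  .o9 0,
  .cj 4 [36,8,25],
  .o9 4,
  .o9 4,
  .o9 4,
  .cj 5 [31,25,29,17],
  .o9 4,
  .o9 4,
  .o9 4,
  .cj 6 [32,7,29,17,8],
  .o9 4,
  .o9 0,
  .o9 0,
  .o9 4,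
  .o9 0,
  .o9 0,
  .o9 4,
  .o9 0,
  .o9 0,
  .o9 4,
  .o9 0,
  .o9 0,
  .o9 4,
  .o9 0,
  .o9 0,
  .o9 4,
  .o9 0,
  .o9 0,
  .cj 4 [36,26,7],
  .o9 4,
  .o9 4,
  .o9 4,
  .cj 5 [31,7,29,17],
  .o9 4,
  .o9 4,
  .o9 4,
  .cj 6 [29,35,14,8,1],
  .o9 4,
  .o9 0,
  .o9 0,
  .o9 4,
  .o9 0,
  .o9 0,
  .o9 4,
  .o9 0,
  .o9 0,
  .o9 4,
  .o9 0,
  .o9 0,
  .o9 4,
  .o9 0,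
  .o9 0,
  .o9 4,
  .o9 0,
  .o9 0,
  .cj 4 [36,9],
  .o9 4,
  .o9 4,
  .o9 4,
  .o9 4,
  .cj 6 [13,11,26,24,17],
  .o9 4,
  .cj 5 [31,11,35],
  .o9 4,
  .o9 5,
  .o9 0,
  .o9 0,
  .o9 4,
  .o9 0,
  .o9 0,
  .o9 4,
  .o9 0,
  .o9 0,
  .o9 5,
  .o9 0,
  .o9 0,
  .o9 4,
  .o9 0,
  .o9 0,
  .o9 4,
  .o9 0,
  .o9 0,
  .cj 4 [36,24,9],
  .o9 4,
  .o9 4,
  .o9 4,
  .o9 4,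
  .cj 6 [36,11,35,14,8],
  .o9 4,
  .cj 5 [14,25,11,35],
  .o9 4,
  .o9 4,
  .o9 0,
  .o9 0,
  .o9 4,
  .o9 0,
  .o9 0,
  .o9 4,
  .o9 0,
  .o9 0,
  .o9 4,
  .o9 0,
  .o9 0,
  .o9 4,
  .o9 0,
  .o9 0,
  .o9 4,
  .o9 0,
  .o9 0,
  .cj 4 [36,8,7],
  .o9 4,
  .o9 4,
  .o9 4,
  .o9 4,
  .cj 6 [27,29,35,14,8,1],
  .o9 4,
  .cj 5 [31,7,11,35],
  .o9 4,
  .o9 4,
  .o9 0,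
  .o9 0,
  .o9 4,
  .o9 0,
  .o9 0,
  .o9 4,
  .o9 0,
  .o9 0,
  .o9 4,
  .o9 0,
  .o9 0,
  .o9 4,
  .o9 0,
  .o9 0,
  .o9 4,
  .o9 0,
  .o9 0]

theorem h28_len_1 : h28_certs_1.length = 729 := by decide +kernel

theorem h28_chk_1 : chkAll 729 h28_certs_1 = true := by decide +kernel

end Cfsg.Agent.Lib.Helper28.O73C
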