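import Cfsg.Agent.Lib.Helper28.O73C.Comp

/-! Project O73C (S5514): certificates for the parameters 1458 to 2186 (generated, helper28). -/

set_option autoImplicit false
set_option maxRecDepth 100000

namespace Cfsg.Agent.Lib.Helper28.O73C

/-- certificates, chunk 2 -/
def h28_certs_2 : List Cert :=
  [.cj 0 [28,7],
  .cj 1 [20,23,26,6,1],
  .cj 2 [16,31,28,7],
  .cj 0 [5,28,7],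
  .cj 1 [29,26,6,1],
  .cj 2 [13,11,17,28,7],
  .cj 0 [23,28,7],
  .cj 1 [11,8,24,1],
  .cj 2 [23,16,31,28,7],
  .cj 0 [22,28,7],
  .cj 6 [2,1,5],
  .cj 6 [20,1,23],
  .cj 0 [8,5,28,7],
  .cj 6 [2,1,5,1],
  .cj 6 [20,23,6],
  .cj 0 [23,22,28,7],
  .cj 6 [2,24,5],
  .cj 6 [20,1,23,1],
  .cj 0 [14,17,7],
  .cj 6 [36,20,24,23],
  .cj 6 [36,2,6,5],
  .cj 0 [14,17,11,7],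
  .cj 6 [36,20,24,23,1],
  .cj 6 [36,19,2,5],
  .cj 0 [14,17,7,6],
  .cj 6 [36,20,19,23],
  .cj 6 [36,2,6,5,1],
  .cj 2 [31,28,7],
  .cj 0 [34,28,7],
  .cj 1 [23,11,26,14,6,1],
  .cj 2 [20,17,28,7],
  .cj 0 [34,5,28,7],
  .cj 1 [11,26,14,6,1],
  .cj 2 [23,31,28,7],
  .cj 0 [34,23,28,7],
  .cj 1 [32,5,26,6,1],
  .cj 3 [36,14,17,28,11,7],
  .cj 6 [13,2,5],
  .cj 6 [31,20,19,23],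
  .cj 3 [36,32,35,28,7],
  .cj 6 [13,2,5,1],
  .cj 6 [20,24,23,17],
  .cj 3 [36,14,17,28,7],
  .cj 6 [2,17,5],
  .cj 6 [20,19,23,17],
  .cj 4 [14,17,10,25,11],
  .cj 6 [36,20,35,23],
  .cj 6 [36,2,35,24,5],
  .cj 4 [32,35,10,25],
  .cj 6 [36,20,35,23,1],
  .cj 6 [36,31,2,1,5],
  .cj 4 [14,17,10,25],
  .cj 6 [36,20,13,23],
  .cj 6 [36,2,35,1,5],
  .cj 2 [10,25,13],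
  .cj 0 [16,28,7],
  .cj 1 [2,5,26,17,6,1],
  .cj 2 [5,10,25,13],
  .cj 0 [16,5,28,7],
  .cj 1 [32,11,26,6,1],
  .cj 2 [17,10,25,13],
  .cj 0 [9,16,28,7],
  .cj 1 [29,26,17,6,1],
  .cj 4 [32,35,28,11,7],
  .cj 6 [31,2,5],
  .cj 6 [20,19,13,23],
  .cj 4 [14,17,28,7],
  .cj 6 [31,2,5,1],
  .cj 6 [20,35,24,23],
  .cj 4 [32,35,28,7],
  .cj 6 [2,35,5],
  .cj 6 [20,24,13,23],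
  .cj 3 [14,17,28,13,11,7],
  .cj 6 [36,20,23,17],
  .cj 6 [36,2,24,17,5],
  .cj 3 [14,17,28,13,7],
  .cj 6 [36,20,23,17,1],
  .cj 6 [36,13,2,1,5],
  .cj 3 [32,35,28,13,7],
  .cj 6 [36,31,20,23],
  .cj 6 [36,2,17,1,5],
  .cj 2 [29,12,9],
  .o9 4,
  .o9 4,
  .cj 4 [32,35,11,27,10],
  .o9 4,
  .o9 4,
  .cj 3 [36,32,35,29,10,9],
  .o9 4,
  .o9 4,
  .cj 2 [17,29,12,9],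
  .o9 4,
  .o9 4,
  .cj 4 [32,35,11,27],
  .o9 4,
  .o9 4,
  .cj 3 [36,32,35,29,9],
  .o9 4,
  .o9 4,
  .cj 2 [4,29,12,9],
  .o9 4,
  .o9 4,
  .cj 4 [14,17,11,27],
  .o9 4,
  .o9 4,
  .cj 3 [36,14,17,29,9],
  .o9 4,
  .o9 4,
  .cj 2 [29,12,8,7],
  .o9 4,
  .o9 4,
  .cj 4 [32,35,10,8,25],
  .o9 4,
  .o9 4,
  .cj 3 [36,14,17,28,8,7],
  .o9 4,
  .o9 4,
  .cj 3 [36,32,35,29,8,7],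
  .o9 4,
  .o9 4,
  .cj 2 [17,29,12,8,7],
  .o9 4,
  .o9 4,
  .cj 4 [14,17,10,8,25],
  .o9 4,
  .o9 4,
  .cj 4 [14,17,11,8,25],
  .o9 4,
  .o9 4,
  .cj 3 [36,32,35,28,8,7],
  .o9 4,
  .o9 4,
  .cj 2 [35,29,12,8,7],
  .o9 4,
  .o9 4,
  .cj 2 [29,24,12,9],
  .o9 4,
  .o9 4,
  .cj 4 [14,17,28,26,7],
  .o9 4,
  .o9 4,
  .cj 3 [14,17,28,27,12,7],
  .o9 4,
  .o9 4,
  .cj 4 [32,35,11,26,7],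
  .o9 4,
  .o9 4,
  .cj 3 [32,35,11,27,12,7],
  .o9 4,
  .o9 4,
  .cj 2 [17,29,24,12,9],
  .o9 4,
  .o9 4,
  .cj 3 [14,17,11,27,12,7],
  .o9 4,
  .o9 4,
  .cj 2 [35,29,24,12,9],
  .o9 4,
  .o9 4,
  .cj 4 [14,17,11,26,7],
  .o9 4,
  .o9 4,
  .cj 2 [30,11,27],
  .o9 4,
  .o9 4,
  .cj 3 [32,35,7,29,10,9],
  .o9 4,
  .o9 4,
  .cj 4 [14,17,29,10,9],
  .o9 4,
  .o9 4,
  .cj 2 [22,30,11,27],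
  .o9 4,
  .o9 4,
  .cj 3 [14,2,17,29,9],
  .o9 4,
  .o9 4,
  .cj 4 [14,17,29,9],
  .o9 4,
  .o9 4,
  .cj 2 [19,17,11,27],
  .o9 4,
  .o9 4,
  .cj 3 [32,35,27,29,9],
  .o9 4,
  .o9 4,
  .cj 4 [32,35,29,9],
  .o9 4,
  .o9 4,
  .cj 2 [11,27,14,7],
  .o9 4,
  .o9 4,
  .cj 3 [36,32,35,28,26,7],
  .o9 4,
  .o9 4,
  .cj 4 [14,17,10,24,9],
  .o9 4,
  .o9 4,
  .cj 3 [36,14,17,11,26,7],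
  .o9 4,
  .o9 4,
  .cj 4 [32,35,10,24,9],
  .o9 4,
  .o9 4,
  .cj 2 [35,11,27,14,7],
  .o9 4,
  .o9 4,
  .cj 4 [32,35,29,24,9],
  .o9 4,
  .o9 4,
  .cj 2 [17,11,27,14,7],
  .o9 4,
  .o9 4,
  .cj 3 [36,32,35,11,26,7],
  .o9 4,
  .o9 4,
  .cj 2 [10,8,25,13],
  .o9 4,
  .o9 4,
  .cj 3 [14,17,28,13,8,7],
  .o9 4,
  .o9 4,
  .cj 4 [32,35,28,8,7],
  .o9 4,
  .o9 4,
  .cj 4 [14,17,29,8,7],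
  .o9 4,
  .o9 4,
  .cj 2 [35,10,8,25,13],
  .o9 4,
  .o9 4,
  .cj 3 [32,35,28,13,8,7],
  .o9 4,
  .o9 4,
  .cj 3 [14,17,29,13,8,7],
  .o9 4,
  .o9 4,
  .cj 4 [14,17,28,8,7],
  .o9 4,
  .o9 4,
  .cj 2 [17,10,8,25,13],
  .o9 4,
  .o9 4,
  .cj 4 [],
  .cj 6 [27,11,35,14,6,8],
  .cj 5 [27,13,11,17],
  .o9 4,
  .o9 4,
  .o9 4,
  .o9 4,
  .o9 4,
  .o9 4,
  .o9 5,
  .o9 0,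
  .o9 0,
  .o9 4,
  .o9 0,
  .o9 0,
  .o9 4,
  .o9 0,
  .o9 0,
  .o9 5,
  .o9 0,
  .o9 0,
  .o9 4,
  .o9 0,
  .o9 0,
  .o9 4,
  .o9 0,
  .o9 0,
  .cj 4 [7],
  .cj 6 [27,11,35,24,14,8],
  .cj 5 [27,13,7,11,17],
  .o9 4,
  .o9 4,
  .o9 4,
  .o9 4,
  .o9 4,
  .o9 4,
  .o9 4,
  .o9 0,
  .o9 0,
  .o9 4,
  .o9 0,
  .o9 0,
  .o9 4,
  .o9 0,
  .o9 0,
  .o9 4,
  .o9 0,
  .o9 0,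
  .o9 4,
  .o9 0,
  .o9 0,
  .o9 4,
  .o9 0,
  .o9 0,
  .cj 4 [25],
  .cj 6 [27,11,35,14,8],
  .cj 5 [27,24,13,11,17],
  .o9 4,
  .o9 4,
  .o9 4,
  .o9 4,
  .o9 4,
  .o9 4,
  .o9 4,
  .o9 0,
  .o9 0,
  .o9 4,
  .o9 0,
  .o9 0,
  .o9 4,
  .o9 0,
  .o9 0,
  .o9 4,
  .o9 0,
  .o9 0,
  .o9 4,
  .o9 0,
  .o9 0,
  .o9 4,
  .o9 0,
  .o9 0,
  .cj 4 [9],
  .o9 4,
  .o9 4,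
  .o9 4,
  .o9 4,
  .cj 5 [13,11,17],
  .o9 4,
  .cj 6 [11,35,14,6,8],
  .o9 4,
  .o9 5,
  .o9 0,
  .o9 0,
  .o9 4,
  .o9 0,
  .o9 0,
  .o9 4,
  .o9 0,
  .o9 0,
  .o9 5,
  .o9 0,
  .o9 0,
  .o9 4,
  .o9 0,
  .o9 0,
  .o9 4,
  .o9 0,
  .o9 0,
  .cj 4 [8,7],
  .o9 4,
  .o9 4,
  .o9 4,
  .o9 4,
  .cj 5 [13,7,11,17],
  .o9 4,
  .cj 6 [11,35,24,14,8],
  .o9 4,
  .o9 4,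
  .o9 0,
  .o9 0,
  .o9 4,
  .o9 0,
  .o9 0,
  .o9 4,
  .o9 0,
  .o9 0,
  .o9 4,
  .o9 0,
  .o9 0,
  .o9 4,
  .o9 0,
  .o9 0,
  .o9 4,
  .o9 0,
  .o9 0,
  .cj 4 [24,9],
  .o9 4,
  .o9 4,
  .o9 4,
  .o9 4,
  .cj 5 [24,13,11,17],
  .o9 4,
  .cj 6 [11,35,14,8],
  .o9 4,
  .o9 4,
  .o9 0,
  .o9 0,
  .o9 4,
  .o9 0,
  .o9 0,
  .o9 4,
  .o9 0,
  .o9 0,
  .o9 4,
  .o9 0,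
  .o9 0,
  .o9 4,
  .o9 0,
  .o9 0,
  .o9 4,
  .o9 0,
  .o9 0,
  .cj 4 [27],
  .o9 4,
  .o9 4,
  .o9 4,
  .cj 6 [29,35,26,24,14],
  .o9 4,
  .o9 4,
  .o9 4,
  .cj 5 [13,29,35],
  .o9 5,
  .o9 0,
  .o9 0,
  .o9 4,
  .o9 0,
  .o9 0,
  .o9 4,
  .o9 0,
  .o9 0,
  .o9 5,
  .o9 0,
  .o9 0,
  .o9 4,
  .o9 0,
  .o9 0,
  .o9 4,
  .o9 0,
  .o9 0,
  .cj 4 [26,7],
  .o9 4,
  .o9 4,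
  .o9 4,
  .cj 6 [36,29,35,14,8,1],
  .o9 4,
  .o9 4,
  .o9 4,
  .cj 5 [13,7,29,35],
  .o9 4,
  .o9 0,
  .o9 0,
  .o9 4,
  .o9 0,
  .o9 0,
  .o9 4,
  .o9 0,
  .o9 0,
  .o9 4,
  .o9 0,
  .o9 0,
  .o9 4,
  .o9 0,
  .o9 0,
  .o9 4,
  .o9 0,
  .o9 0,
  .cj 4 [8,25],
  .o9 4,
  .o9 4,
  .o9 4,
  .cj 6 [9,11,35,14,8],
  .o9 4,
  .o9 4,
  .o9 4,
  .cj 5 [6,13,29,35],
  .o9 4,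
  .o9 0,
  .o9 0,
  .o9 4,
  .o9 0,
  .o9 0,
  .o9 4,
  .o9 0,
  .o9 0,
  .o9 4,
  .o9 0,
  .o9 0,
  .o9 4,
  .o9 0,
  .o9 0,
  .o9 4,
  .o9 0,
  .o9 0,
  .cj 3 [36],
  .cj 6 [27,11,17,32,6,8],
  .cj 5 [27,11,6,26,6,1],
  .o9 4,
  .o9 4,
  .o9 4,
  .o9 4,
  .o9 4,
  .o9 4,
  .o9 5,
  .o9 0,
  .o9 0,
  .o9 4,
  .o9 0,
  .o9 0,
  .o9 4,
  .o9 0,
  .o9 0,
  .o9 5,
  .o9 0,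
  .o9 0,
  .o9 4,
  .o9 0,
  .o9 0,
  .o9 4,
  .o9 0,
  .o9 0,
  .cj 3 [36,25],
  .cj 6 [27,11,17,32,8],
  .cj 5 [27,11,26,6,1],
  .o9 4,
  .o9 4,
  .o9 4,
  .o9 4,
  .o9 4,
  .o9 4,
  .o9 4,
  .o9 0,
  .o9 0,
  .o9 4,
  .o9 0,
  .o9 0,
  .o9 4,
  .o9 0,
  .o9 0,
  .o9 4,
  .o9 0,
  .o9 0,
  .o9 4,
  .o9 0,
  .o9 0,
  .o9 4,
  .o9 0,
  .o9 0,
  .cj 3 [36,7],
  .cj 6 [27,11,17,32,24,8],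
  .cj 5 [27,24,11,26,6,1],
  .o9 4,
  .o9 4,
  .o9 4,
  .o9 4,
  .o9 4,
  .o9 4,
  .o9 4,
  .o9 0,
  .o9 0,
  .o9 4,
  .o9 0,
  .o9 0,
  .o9 4,
  .o9 0,
  .o9 0,
  .o9 4,
  .o9 0,
  .o9 0,
  .o9 4,
  .o9 0,
  .o9 0,
  .o9 4,
  .o9 0,
  .o9 0,
  .cj 3 [36,27],
  .o9 4,
  .o9 4,
  .o9 4,
  .cj 6 [29,17,32,26,24],
  .o9 4,
  .o9 4,
  .o9 4,
  .cj 5 [29,8,24,8,1],
  .o9 5,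
  .o9 0,
  .o9 0,
  .o9 4,
  .o9 0,
  .o9 0,
  .o9 4,
  .o9 0,
  .o9 0,
  .o9 5,
  .o9 0,
  .o9 0,
  .o9 4,
  .o9 0,
  .o9 0,
  .o9 4,
  .o9 0,
  .o9 0,
  .cj 3 [36,8,25],
  .o9 4,
  .o9 4,
  .o9 4,
  .cj 6 [9,11,17,32,8],
  .o9 4,
  .o9 4,
  .o9 4,
  .cj 5 [29,8,24,1],
  .o9 4,
  .o9 0,
  .o9 0,
  .o9 4,
  .o9 0,
  .o9 0,
  .o9 4,
  .o9 0,
  .o9 0,
  .o9 4,
  .o9 0,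
  .o9 0,
  .o9 4,
  .o9 0,
  .o9 0,
  .o9 4,
  .o9 0,
  .o9 0,
  .cj 3 [36,26,7],
  .o9 4,
  .o9 4,
  .o9 4,
  .cj 6 [36,29,17,32,8,1],
  .o9 4,
  .o9 4,
  .o9 4,
  .cj 5 [29,6,8,24,1],
  .o9 4,
  .o9 0,
  .o9 0,
  .o9 4,
  .o9 0,
  .o9 0,
  .o9 4,
  .o9 0,
  .o9 0,
  .o9 4,
  .o9 0,
  .o9 0,
  .o9 4,
  .o9 0,
  .o9 0,
  .o9 4,
  .o9 0,
  .o9 0,
  .cj 3 [36,9],
  .o9 4,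
  .o9 4,
  .o9 4,
  .o9 4,
  .cj 5 [11,6,26,6,1],
  .o9 4,
  .cj 6 [11,17,32,6,8],
  .o9 4,
  .o9 5,
  .o9 0,
  .o9 0,
  .o9 4,
  .o9 0,
  .o9 0,
  .o9 4,
  .o9 0,
  .o9 0,
  .o9 5,
  .o9 0,
  .o9 0,
  .o9 4,
  .o9 0,
  .o9 0,
  .o9 4,
  .o9 0,
  .o9 0,
  .cj 3 [36,24,9],
  .o9 4,
  .o9 4,
  .o9 4,
  .o9 4,
  .cj 5 [11,26,6,1],
  .o9 4,
  .cj 6 [11,17,32,8],
  .o9 4,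
  .o9 4,
  .o9 0,
  .o9 0,
  .o9 4,
  .o9 0,
  .o9 0,
  .o9 4,
  .o9 0,
  .o9 0,
  .o9 4,
  .o9 0,
  .o9 0,
  .o9 4,
  .o9 0,
  .o9 0,
  .o9 4,
  .o9 0,
  .o9 0,
  .cj 3 [36,8,7],
  .o9 4,
  .o9 4,
  .o9 4,
  .o9 4,
  .cj 5 [24,11,26,6,1],
  .o9 4,
  .cj 6 [11,17,32,24,8],
  .o9 4,
  .o9 4,
  .o9 0,
  .o9 0,
  .o9 4,
  .o9 0,
  .o9 0,
  .o9 4,
  .o9 0,
  .o9 0,
  .o9 4,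
  .o9 0,
  .o9 0,
  .o9 4,
  .o9 0,
  .o9 0,
  .o9 4,
  .o9 0,
  .o9 0]

theorem h28_len_2 : h28_certs_2.length = 729 := by decide +kernel

theorem h28_chk_2 : chkAll 1458 h28_certs_2 = true := by decide +kernel

end Cfsg.Agent.Lib.Helper28.O73C
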