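import Cfsg.Agent.Lib.Helper28.O73C.Comp

/-! Project O73C (S5514): certificates for the parameters 2187 to 2915 (generated, helper28). -/

set_option autoImplicit false
set_option maxRecDepth 100000

namespace Cfsg.Agent.Lib.Helper28.O73C

/-- certificates, chunk 3 -/
def h28_certs_3 : List Cert :=
  [.cj 0 [26,6],
  .cj 0 [5,26,6],
  .cj 0 [23,26,6],
  .cj 2 [35,28,14,7],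
  .cj 2 [35,5,28,14,7],
  .cj 2 [35,23,28,14,7],
  .cj 1 [8,24],
  .cj 1 [5,8,24],
  .cj 1 [23,8,24],
  .cj 6 [],
  .cj 6 [5],
  .cj 6 [23],
  .cj 6 [6],
  .cj 6 [6,5],
  .cj 6 [23,6],
  .cj 6 [24],
  .cj 6 [24,5],
  .cj 6 [24,23],
  .cj 6 [36,5,20,5,1],
  .cj 6 [36,2,23,1],
  .cj 6 [36,20,5,1],
  .cj 6 [36,5,20,19,5],
  .cj 6 [36,2,23,6],
  .cj 6 [36,20,19,5],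
  .cj 6 [36,5,20,24,5],
  .cj 6 [36,19,2,23],
  .cj 6 [36,20,24,5],
  .cj 2 [28,14,7],
  .cj 2 [5,28,14,7],
  .cj 2 [23,28,14,7],
  .cj 1 [26,14,6],
  .cj 1 [5,26,14,6],
  .cj 1 [11,26,14,6],
  .cj 0 [26,17,6],
  .cj 0 [5,26,17,6],
  .cj 0 [23,26,17,6],
  .cj 6 [17,6],
  .cj 6 [17,6,5],
  .cj 6 [23,17,6],
  .cj 6 [24,17],
  .cj 6 [24,17,5],
  .cj 6 [24,23,17],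
  .cj 6 [17],
  .cj 6 [17,5],
  .cj 6 [23,17],
  .cj 6 [36,32,35,26,6],
  .cj 6 [36,17,2,23,6],
  .cj 6 [36,31,20,6,5],
  .cj 6 [32,35,8,24,1],
  .cj 6 [36,13,6,2,23],
  .cj 6 [36,31,20,1,5],
  .cj 6 [36,5,20,35,5],
  .cj 6 [36,13,2,23],
  .cj 6 [36,20,35,5],
  .cj 2 [32,10,25],
  .cj 2 [5,32,10,25],
  .cj 2 [2,16,10,25],
  .cj 1 [32,26,6],
  .cj 1 [32,23,26,6],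
  .cj 1 [32,5,26,6],
  .cj 0 [35,26,6],
  .cj 0 [35,5,26,6],
  .cj 0 [35,23,26,6],
  .cj 6 [35,6],
  .cj 6 [35,6,5],
  .cj 6 [35,23,6],
  .cj 6 [35,24],
  .cj 6 [35,24,5],
  .cj 6 [35,24,23],
  .cj 6 [35],
  .cj 6 [35,5],
  .cj 6 [35,23],
  .cj 6 [36,26,14,17,6],
  .cj 6 [36,35,2,23,6],
  .cj 6 [36,20,13,6,5],
  .cj 6 [8,24,14,17,1],
  .cj 6 [36,2,24,23,17],
  .cj 6 [36,20,13,1,5],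
  .cj 6 [36,5,20,17,5],
  .cj 6 [36,31,2,23],
  .cj 6 [36,20,17,5],
  .cj 4 [9,29,9],
  .o9 4,
  .o9 4,
  .cj 5 [35,14],
  .o9 4,
  .o9 4,
  .cj 6 [35,14,2,6,8],
  .o9 4,
  .o9 4,
  .cj 6 [14,8],
  .o9 4,
  .o9 4,
  .cj 4 [17,29,24,9],
  .o9 4,
  .o9 4,
  .cj 5 [24,14,1],
  .o9 4,
  .o9 4,
  .cj 6 [24,17,14,8,1],
  .o9 4,
  .o9 4,
  .cj 4 [35,29,12,8,7],
  .o9 4,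
  .o9 4,
  .cj 5 [36,32,6,1],
  .o9 4,
  .o9 4,
  .cj 4 [9,29,8,7],
  .o9 4,
  .o9 4,
  .cj 5 [35,14,6],
  .o9 4,
  .o9 4,
  .cj 6 [35,24,14,9,8],
  .o9 4,
  .o9 4,
  .cj 5 [14,1],
  .o9 4,
  .o9 4,
  .cj 6 [14,6,8],
  .o9 4,
  .o9 4,
  .cj 4 [17,29,9],
  .o9 4,
  .o9 4,
  .cj 4 [36,35,11,26,7],
  .o9 4,
  .o9 4,
  .cj 5 [36,32,24,1],
  .o9 4,
  .o9 4,
  .cj 6 [17,14,8,1],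
  .o9 4,
  .o9 4,
  .cj 4 [9,29,24,9],
  .o9 4,
  .o9 4,
  .cj 5 [35,24,14],
  .o9 4,
  .o9 4,
  .cj 6 [35,14,9,8],
  .o9 4,
  .o9 4,
  .cj 4 [17,29,8,7],
  .o9 4,
  .o9 4,
  .cj 5 [14,6,1],
  .o9 4,
  .o9 4,
  .cj 6 [24,14,8],
  .o9 4,
  .o9 4,
  .cj 5 [36,32,1],
  .o9 4,
  .o9 4,
  .cj 6 [17,14,6,8,1],
  .o9 4,
  .o9 4,
  .cj 4 [35,29,12,9],
  .o9 4,
  .o9 4,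
  .cj 3 [11,27,11],
  .o9 4,
  .o9 4,
  .cj 5 [6,26,6],
  .o9 4,
  .o9 4,
  .cj 6 [17,32,2,6,8],
  .o9 4,
  .o9 4,
  .cj 6 [32,8],
  .o9 4,
  .o9 4,
  .cj 3 [35,11,27,12,7],
  .o9 4,
  .o9 4,
  .cj 5 [35,26,6,1],
  .o9 4,
  .o9 4,
  .cj 6 [35,32,24,8,1],
  .o9 4,
  .o9 4,
  .cj 3 [17,11,8,25],
  .o9 4,
  .o9 4,
  .cj 5 [36,8,24,17,1],
  .o9 4,
  .o9 4,
  .cj 3 [11,27,11,7],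
  .o9 4,
  .o9 4,
  .cj 5 [26,6],
  .o9 4,
  .o9 4,
  .cj 6 [17,32,9,8],
  .o9 4,
  .o9 4,
  .cj 3 [36,35,29,8,7],
  .o9 4,
  .o9 4,
  .cj 5 [35,24,26,6,1],
  .o9 4,
  .o9 4,
  .cj 6 [32,24,8],
  .o9 4,
  .o9 4,
  .cj 5 [6,26,17,2,6],
  .o9 4,
  .o9 4,
  .cj 6 [35,32,6,8,1],
  .o9 4,
  .o9 4,
  .cj 3 [17,11,27],
  .o9 4,
  .o9 4,
  .cj 3 [10,27,25,11],
  .o9 4,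
  .o9 4,
  .cj 5 [24,26,6],
  .o9 4,
  .o9 4,
  .cj 6 [17,32,24,9,8],
  .o9 4,
  .o9 4,
  .cj 5 [35,6,26,6,1],
  .o9 4,
  .o9 4,
  .cj 6 [32,6,8],
  .o9 4,
  .o9 4,
  .cj 3 [36,35,29,9],
  .o9 4,
  .o9 4,
  .cj 3 [17,11,26,7],
  .o9 4,
  .o9 4,
  .cj 5 [26,17,2,6],
  .o9 4,
  .o9 4,
  .cj 6 [35,32,8,1],
  .o9 4,
  .o9 4,
  .cj 2 [30],
  .cj 3 [36,13,16,6,10],
  .cj 4 [36,31,34,11,10],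
  .o9 4,
  .o9 4,
  .o9 4,
  .o9 4,
  .o9 4,
  .o9 4,
  .o9 5,
  .o9 0,
  .o9 0,
  .o9 4,
  .o9 0,
  .o9 0,
  .o9 4,
  .o9 0,
  .o9 0,
  .o9 5,
  .o9 0,
  .o9 0,
  .o9 4,
  .o9 0,
  .o9 0,
  .o9 4,
  .o9 0,
  .o9 0,
  .cj 2 [14,7],
  .cj 3 [13,16,28,25,11],
  .cj 4 [31,34,12,28,25],
  .o9 4,
  .o9 4,
  .o9 4,
  .o9 4,
  .o9 4,
  .o9 4,
  .o9 4,
  .o9 0,
  .o9 0,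
  .o9 4,
  .o9 0,
  .o9 0,
  .o9 4,
  .o9 0,
  .o9 0,
  .o9 4,
  .o9 0,
  .o9 0,
  .o9 4,
  .o9 0,
  .o9 0,
  .o9 4,
  .o9 0,
  .o9 0,
  .cj 2 [30,25],
  .cj 3 [31,34,11,10,7],
  .cj 4 [13,16,6,10,7],
  .o9 4,
  .o9 4,
  .o9 4,
  .o9 4,
  .o9 4,
  .o9 4,
  .o9 4,
  .o9 0,
  .o9 0,
  .o9 4,
  .o9 0,
  .o9 0,
  .o9 4,
  .o9 0,
  .o9 0,
  .o9 4,
  .o9 0,
  .o9 0,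
  .o9 4,
  .o9 0,
  .o9 0,
  .o9 4,
  .o9 0,
  .o9 0,
  .cj 4 [30,9],
  .o9 4,
  .o9 4,
  .o9 4,
  .o9 4,
  .cj 5 [11,35,14],
  .o9 4,
  .cj 6 [13,11,17,6,8],
  .o9 4,
  .o9 5,
  .o9 0,
  .o9 0,
  .o9 4,
  .o9 0,
  .o9 0,
  .o9 4,
  .o9 0,
  .o9 0,
  .o9 5,
  .o9 0,
  .o9 0,
  .o9 4,
  .o9 0,
  .o9 0,
  .o9 4,
  .o9 0,
  .o9 0,
  .cj 4 [30,8,7],
  .o9 4,
  .o9 4,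
  .o9 4,
  .o9 4,
  .cj 5 [11,35,14,6],
  .o9 4,
  .cj 6 [32,25,11,17,8],
  .o9 4,
  .o9 4,
  .o9 0,
  .o9 0,
  .o9 4,
  .o9 0,
  .o9 0,
  .o9 4,
  .o9 0,
  .o9 0,
  .o9 4,
  .o9 0,
  .o9 0,
  .o9 4,
  .o9 0,
  .o9 0,
  .o9 4,
  .o9 0,
  .o9 0,
  .cj 4 [30,24,9],
  .o9 4,
  .o9 4,
  .o9 4,
  .o9 4,
  .cj 5 [11,35,24,14],
  .o9 4,
  .cj 6 [11,35,14,9,8],
  .o9 4,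
  .o9 4,
  .o9 0,
  .o9 0,
  .o9 4,
  .o9 0,
  .o9 0,
  .o9 4,
  .o9 0,
  .o9 0,
  .o9 4,
  .o9 0,
  .o9 0,
  .o9 4,
  .o9 0,
  .o9 0,
  .o9 4,
  .o9 0,
  .o9 0,
  .cj 3 [27,11],
  .o9 4,
  .o9 4,
  .o9 4,
  .cj 5 [29,6,26,6],
  .o9 4,
  .o9 4,
  .o9 4,
  .cj 6 [14,25,29,35,8],
  .o9 5,
  .o9 0,
  .o9 0,
  .o9 4,
  .o9 0,
  .o9 0,
  .o9 4,
  .o9 0,
  .o9 0,
  .o9 5,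
  .o9 0,
  .o9 0,
  .o9 4,
  .o9 0,
  .o9 0,
  .o9 4,
  .o9 0,
  .o9 0,
  .cj 3 [27,11,7],
  .o9 4,
  .o9 4,
  .o9 4,
  .cj 5 [29,26,6],
  .o9 4,
  .o9 4,
  .o9 4,
  .cj 6 [29,17,32,9,8],
  .o9 4,
  .o9 0,
  .o9 0,
  .o9 4,
  .o9 0,
  .o9 0,
  .o9 4,
  .o9 0,
  .o9 0,
  .o9 4,
  .o9 0,
  .o9 0,
  .o9 4,
  .o9 0,
  .o9 0,
  .o9 4,
  .o9 0,
  .o9 0,
  .cj 3 [27,25,11],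
  .o9 4,
  .o9 4,
  .o9 4,
  .cj 5 [29,24,26,6],
  .o9 4,
  .o9 4,
  .o9 4,
  .cj 6 [13,29,35,24,8],
  .o9 4,
  .o9 0,
  .o9 0,
  .o9 4,
  .o9 0,
  .o9 0,
  .o9 4,
  .o9 0,
  .o9 0,
  .o9 4,
  .o9 0,
  .o9 0,
  .o9 4,
  .o9 0,
  .o9 0,
  .o9 4,
  .o9 0,
  .o9 0,
  .cj 2 [36,12],
  .cj 4 [31,34,6,10],
  .cj 3 [13,16,11,10],
  .o9 4,
  .o9 4,
  .o9 4,
  .o9 4,
  .o9 4,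
  .o9 4,
  .o9 5,
  .o9 0,
  .o9 0,
  .o9 4,
  .o9 0,
  .o9 0,
  .o9 4,
  .o9 0,
  .o9 0,
  .o9 5,
  .o9 0,
  .o9 0,
  .o9 4,
  .o9 0,
  .o9 0,
  .o9 4,
  .o9 0,
  .o9 0,
  .cj 2 [12,10,7],
  .cj 4 [31,34,25,6,10],
  .cj 3 [25,13,16,11,10],
  .o9 4,
  .o9 4,
  .o9 4,
  .o9 4,
  .o9 4,
  .o9 4,
  .o9 4,
  .o9 0,
  .o9 0,
  .o9 4,
  .o9 0,
  .o9 0,
  .o9 4,
  .o9 0,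
  .o9 0,
  .o9 4,
  .o9 0,
  .o9 0,
  .o9 4,
  .o9 0,
  .o9 0,
  .o9 4,
  .o9 0,
  .o9 0,
  .cj 2 [36,12,7],
  .cj 4 [13,16,14,13,7],
  .cj 3 [13,16,13,11,7],
  .o9 4,
  .o9 4,
  .o9 4,
  .o9 4,
  .o9 4,
  .o9 4,
  .o9 4,
  .o9 0,
  .o9 0,
  .o9 4,
  .o9 0,
  .o9 0,
  .o9 4,
  .o9 0,
  .o9 0,
  .o9 4,
  .o9 0,
  .o9 0,
  .o9 4,
  .o9 0,
  .o9 0,
  .o9 4,
  .o9 0,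
  .o9 0,
  .cj 4 [30,11,9],
  .o9 4,
  .o9 4,
  .o9 4,
  .cj 5 [29,35,14],
  .o9 4,
  .o9 4,
  .o9 4,
  .cj 6 [32,25,29,17,8],
  .o9 5,
  .o9 0,
  .o9 0,
  .o9 4,
  .o9 0,
  .o9 0,
  .o9 4,
  .o9 0,
  .o9 0,
  .o9 5,
  .o9 0,
  .o9 0,
  .o9 4,
  .o9 0,
  .o9 0,
  .o9 4,
  .o9 0,
  .o9 0,
  .cj 4 [30,11,8,7],
  .o9 4,
  .o9 4,
  .o9 4,
  .cj 5 [29,35,14,6],
  .o9 4,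
  .o9 4,
  .o9 4,
  .cj 6 [31,29,24,17,8],
  .o9 4,
  .o9 0,
  .o9 0,
  .o9 4,
  .o9 0,
  .o9 0,
  .o9 4,
  .o9 0,
  .o9 0,
  .o9 4,
  .o9 0,
  .o9 0,
  .o9 4,
  .o9 0,
  .o9 0,
  .o9 4,
  .o9 0,
  .o9 0,
  .cj 4 [36,27,11,7],
  .o9 4,
  .o9 4,
  .o9 4,
  .cj 5 [29,35,24,14],
  .o9 4,
  .o9 4,
  .o9 4,
  .cj 6 [29,35,14,9,8],
  .o9 4,
  .o9 0,
  .o9 0,
  .o9 4,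
  .o9 0,
  .o9 0,
  .o9 4,
  .o9 0,
  .o9 0,
  .o9 4,
  .o9 0,
  .o9 0,
  .o9 4,
  .o9 0,
  .o9 0,
  .o9 4,
  .o9 0,
  .o9 0,
  .cj 3 [27,11,9],
  .o9 4,
  .o9 4,
  .o9 4,
  .o9 4,
  .cj 5 [11,6,26,6],
  .o9 4,
  .cj 6 [31,11,35,6,8],
  .o9 4,
  .o9 5,
  .o9 0,
  .o9 0,
  .o9 4,
  .o9 0,
  .o9 0,
  .o9 4,
  .o9 0,
  .o9 0,
  .o9 5,
  .o9 0,
  .o9 0,
  .o9 4,
  .o9 0,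
  .o9 0,
  .o9 4,
  .o9 0,
  .o9 0,
  .cj 3 [27,11,8,7],
  .o9 4,
  .o9 4,
  .o9 4,
  .o9 4,
  .cj 5 [11,26,6],
  .o9 4,
  .cj 6 [11,17,32,9,8],
  .o9 4,
  .o9 4,
  .o9 0,
  .o9 0,
  .o9 4,
  .o9 0,
  .o9 0,
  .o9 4,
  .o9 0,
  .o9 0,
  .o9 4,
  .o9 0,
  .o9 0,
  .o9 4,
  .o9 0,
  .o9 0,
  .o9 4,
  .o9 0,
  .o9 0,
  .cj 3 [36,12,8,7],
  .o9 4,
  .o9 4,
  .o9 4,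
  .o9 4,
  .cj 5 [24,11,26,6],
  .o9 4,
  .cj 6 [14,25,11,35,8],
  .o9 4,
  .o9 4,
  .o9 0,
  .o9 0,
  .o9 4,
  .o9 0,
  .o9 0,
  .o9 4,
  .o9 0,
  .o9 0,
  .o9 4,
  .o9 0,
  .o9 0,
  .o9 4,
  .o9 0,
  .o9 0,
  .o9 4,
  .o9 0,
  .o9 0]

theorem h28_len_3 : h28_certs_3.length = 729 := by decide +kernel

theorem h28_chk_3 : chkAll 2187 h28_certs_3 = true := by decide +kernel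

end Cfsg.Agent.Lib.Helper28.O73C
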