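import Cfsg.Agent.Lib.Helper28.O73C.Comp

/-! Project O73C (S5514): certificates for the parameters 2916 to 3644 (generated, helper28). -/

set_option autoImplicit false
set_option maxRecDepth 100000

namespace Cfsg.Agent.Lib.Helper28.O73C

/-- certificates, chunk 4 -/
def h28_certs_4 : List Cert :=
  [.cj 0 [10,9,6],
  .cj 2 [34,28,11,13,7],
  .cj 1 [23,8,24,7],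
  .cj 2 [35,28,11,13,7],
  .cj 1 [29,26,2,6],
  .cj 0 [23,10,9,6],
  .cj 1 [8,24,7],
  .cj 0 [5,10,9,6],
  .cj 2 [14,5,28,13,12,7],
  .cj 6 [9],
  .cj 6 [19,5],
  .cj 6 [19,23],
  .cj 6 [2,6],
  .cj 6 [1,5,1],
  .cj 6 [23,9],
  .cj 6 [24,9],
  .cj 6 [9,5],
  .cj 6 [1,23,1],
  .cj 6 [36,5,20,5],
  .cj 6 [36,24,2,23],
  .cj 6 [36,6,20,5],
  .cj 6 [36,24,5,20,5],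
  .cj 6 [36,6,2,23],
  .cj 6 [36,20,5],
  .cj 6 [36,6,5,20,5],
  .cj 6 [36,2,23],
  .cj 6 [36,24,20,5],
  .cj 2 [28,11,13,7],
  .cj 1 [13,5,8,24,1],
  .cj 0 [16,10,9,6],
  .cj 1 [26,14,2,6],
  .cj 0 [13,5,26,7,6],
  .cj 2 [23,28,11,13,7],
  .cj 0 [17,10,9,6],
  .cj 2 [5,28,11,13,7],
  .cj 1 [16,8,24,7],
  .cj 6 [17,2,6],
  .cj 6 [13,1,5],
  .cj 6 [31,23],
  .cj 6 [24,17,9],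
  .cj 6 [13,5,1],
  .cj 6 [31,23,6],
  .cj 6 [17,9],
  .cj 6 [19,17,5],
  .cj 6 [19,23,17],
  .cj 6 [32,35,6,8,24],
  .cj 6 [36,17,6,2,23],
  .cj 6 [36,17,20,5],
  .cj 6 [32,35,8,24],
  .cj 6 [36,17,2,23],
  .cj 6 [36,20,35,6,5],
  .cj 6 [36,17,5,20,5],
  .cj 6 [36,2,35,23,6],
  .cj 6 [36,20,35,1,5],
  .cj 2 [11,31,10,25],
  .cj 1 [31,5,8,24,1],
  .cj 0 [34,10,9,6],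
  .cj 1 [32,26,2,6],
  .cj 0 [31,5,26,7,6],
  .cj 2 [9,2,16,10,25],
  .cj 0 [35,10,9,6],
  .cj 2 [20,11,17,10,25],
  .cj 1 [34,8,24,7],
  .cj 6 [35,2,6],
  .cj 6 [31,1,5],
  .cj 6 [13,23],
  .cj 6 [35,24,9],
  .cj 6 [31,5,1],
  .cj 6 [13,23,6],
  .cj 6 [35,9],
  .cj 6 [35,19,5],
  .cj 6 [24,13,23],
  .cj 6 [6,8,24,14,17],
  .cj 6 [5,8,24,14,17],
  .cj 6 [36,35,20,5],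
  .cj 6 [8,24,14,17],
  .cj 6 [36,35,2,23],
  .cj 6 [36,20,17,6,5],
  .cj 6 [36,35,5,20,5],
  .cj 6 [36,2,23,17,6],
  .cj 6 [36,20,17,1,5],
  .cj 4 [29,12,9],
  .o9 4,
  .o9 4,
  .cj 5 [35,14,13],
  .o9 4,
  .o9 4,
  .cj 6 [35,14,6,8,1],
  .o9 4,
  .o9 4,
  .cj 6 [14,9,8],
  .o9 4,
  .o9 4,
  .cj 4 [17,9,29,24,9],
  .o9 4,
  .o9 4,
  .cj 5 [24,14],
  .o9 4,
  .o9 4,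
  .cj 6 [24,17,14,8],
  .o9 4,
  .o9 4,
  .cj 4 [35,29,8,7],
  .o9 4,
  .o9 4,
  .cj 5 [17,14,6,1],
  .o9 4,
  .o9 4,
  .cj 4 [29,12,8,7],
  .o9 4,
  .o9 4,
  .cj 5 [35,14,2,6],
  .o9 4,
  .o9 4,
  .cj 6 [35,24,14,8,1],
  .o9 4,
  .o9 4,
  .cj 5 [14],
  .o9 4,
  .o9 4,
  .cj 6 [14,2,6,8],
  .o9 4,
  .o9 4,
  .cj 4 [17,9,29,9],
  .o9 4,
  .o9 4,
  .cj 4 [35,29,24,9],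
  .o9 4,
  .o9 4,
  .cj 5 [24,17,14,1],
  .o9 4,
  .o9 4,
  .cj 6 [17,14,8],
  .o9 4,
  .o9 4,
  .cj 4 [36,11,26,7],
  .o9 4,
  .o9 4,
  .cj 5 [35,24,14,13],
  .o9 4,
  .o9 4,
  .cj 6 [35,14,8,1],
  .o9 4,
  .o9 4,
  .cj 4 [17,9,29,8,7],
  .o9 4,
  .o9 4,
  .cj 5 [14,6],
  .o9 4,
  .o9 4,
  .cj 6 [24,14,9,8],
  .o9 4,
  .o9 4,
  .cj 5 [17,14,1],
  .o9 4,
  .o9 4,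
  .cj 6 [17,14,6,8],
  .o9 4,
  .o9 4,
  .cj 4 [35,29,9],
  .o9 4,
  .o9 4,
  .cj 3 [11,27],
  .o9 4,
  .o9 4,
  .cj 5 [6,26,2,6],
  .o9 4,
  .o9 4,
  .cj 6 [17,32,6,8,1],
  .o9 4,
  .o9 4,
  .cj 6 [32,9,8],
  .o9 4,
  .o9 4,
  .cj 3 [35,11,27,11,7],
  .o9 4,
  .o9 4,
  .cj 5 [35,26,6],
  .o9 4,
  .o9 4,
  .cj 6 [35,32,24,8],
  .o9 4,
  .o9 4,
  .cj 3 [36,17,29,8,7],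
  .o9 4,
  .o9 4,
  .cj 5 [24,26,17,6,1],
  .o9 4,
  .o9 4,
  .cj 3 [11,26,7],
  .o9 4,
  .o9 4,
  .cj 5 [26,2,6],
  .o9 4,
  .o9 4,
  .cj 6 [17,32,8,1],
  .o9 4,
  .o9 4,
  .cj 3 [35,10,27,25,11],
  .o9 4,
  .o9 4,
  .cj 5 [35,24,26,6],
  .o9 4,
  .o9 4,
  .cj 6 [32,24,9,8],
  .o9 4,
  .o9 4,
  .cj 5 [6,26,17,6,1],
  .o9 4,
  .o9 4,
  .cj 6 [35,32,6,8],
  .o9 4,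
  .o9 4,
  .cj 3 [36,17,29,9],
  .o9 4,
  .o9 4,
  .cj 3 [11,8,25],
  .o9 4,
  .o9 4,
  .cj 5 [36,8,24,1],
  .o9 4,
  .o9 4,
  .cj 6 [17,32,24,8,1],
  .o9 4,
  .o9 4,
  .cj 5 [35,6,26,6],
  .o9 4,
  .o9 4,
  .cj 6 [32,2,6,8],
  .o9 4,
  .o9 4,
  .cj 3 [35,11,27,11],
  .o9 4,
  .o9 4,
  .cj 3 [17,11,27,12,7],
  .o9 4,
  .o9 4,
  .cj 5 [26,17,6,1],
  .o9 4,
  .o9 4,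
  .cj 6 [35,32,8],
  .o9 4,
  .o9 4,
  .cj 3 [11],
  .cj 5 [9,29,6,26,6],
  .cj 6 [9,14,25,29,35,8],
  .o9 4,
  .o9 4,
  .o9 4,
  .o9 4,
  .o9 4,
  .o9 4,
  .o9 5,
  .o9 0,
  .o9 0,
  .o9 4,
  .o9 0,
  .o9 0,
  .o9 4,
  .o9 0,
  .o9 0,
  .o9 5,
  .o9 0,
  .o9 0,
  .o9 4,
  .o9 0,
  .o9 0,
  .o9 4,
  .o9 0,
  .o9 0,
  .cj 3 [11,7],
  .cj 5 [9,29,26,6],
  .cj 6 [9,29,17,32,9,8],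
  .o9 4,
  .o9 4,
  .o9 4,
  .o9 4,
  .o9 4,
  .o9 4,
  .o9 4,
  .o9 0,
  .o9 0,
  .o9 4,
  .o9 0,
  .o9 0,
  .o9 4,
  .o9 0,
  .o9 0,
  .o9 4,
  .o9 0,
  .o9 0,
  .o9 4,
  .o9 0,
  .o9 0,
  .o9 4,
  .o9 0,
  .o9 0,
  .cj 3 [25,11],
  .cj 5 [9,29,24,26,6],
  .cj 6 [13,9,29,35,24,8],
  .o9 4,
  .o9 4,
  .o9 4,
  .o9 4,
  .o9 4,
  .o9 4,
  .o9 4,
  .o9 0,
  .o9 0,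
  .o9 4,
  .o9 0,
  .o9 0,
  .o9 4,
  .o9 0,
  .o9 0,
  .o9 4,
  .o9 0,
  .o9 0,
  .o9 4,
  .o9 0,
  .o9 0,
  .o9 4,
  .o9 0,
  .o9 0,
  .cj 2 [30,9],
  .o9 4,
  .o9 4,
  .o9 4,
  .o9 4,
  .cj 4 [36,14,9,34,10],
  .o9 4,
  .cj 3 [29,14,27,16,10],
  .o9 4,
  .o9 5,
  .o9 0,
  .o9 0,
  .o9 4,
  .o9 0,
  .o9 0,
  .o9 4,
  .o9 0,
  .o9 0,
  .o9 5,
  .o9 0,
  .o9 0,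
  .o9 4,
  .o9 0,
  .o9 0,
  .o9 4,
  .o9 0,
  .o9 0,
  .cj 2 [30,8,7],
  .o9 4,
  .o9 4,
  .o9 4,
  .o9 4,
  .cj 4 [36,14,6,9,34,10],
  .o9 4,
  .cj 3 [32,9,16,28,25],
  .o9 4,
  .o9 4,
  .o9 0,
  .o9 0,
  .o9 4,
  .o9 0,
  .o9 0,
  .o9 4,
  .o9 0,
  .o9 0,
  .o9 4,
  .o9 0,
  .o9 0,
  .o9 4,
  .o9 0,
  .o9 0,
  .o9 4,
  .o9 0,
  .o9 0,
  .cj 2 [30,24,9],
  .o9 4,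
  .o9 4,
  .o9 4,
  .o9 4,
  .cj 4 [13,9,16,6,10,7],
  .o9 4,
  .cj 3 [14,9,34,10,7],
  .o9 4,
  .o9 4,
  .o9 0,
  .o9 0,
  .o9 4,
  .o9 0,
  .o9 0,
  .o9 4,
  .o9 0,
  .o9 0,
  .o9 4,
  .o9 0,
  .o9 0,
  .o9 4,
  .o9 0,
  .o9 0,
  .o9 4,
  .o9 0,
  .o9 0,
  .cj 4 [30,27],
  .o9 4,
  .o9 4,
  .o9 4,
  .cj 6 [29,35,26,24,14,1],
  .o9 4,
  .o9 4,
  .o9 4,
  .cj 5 [13,29,35,1],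
  .o9 5,
  .o9 0,
  .o9 0,
  .o9 4,
  .o9 0,
  .o9 0,
  .o9 4,
  .o9 0,
  .o9 0,
  .o9 5,
  .o9 0,
  .o9 0,
  .o9 4,
  .o9 0,
  .o9 0,
  .o9 4,
  .o9 0,
  .o9 0,
  .cj 4 [27,14,7],
  .o9 4,
  .o9 4,
  .o9 4,
  .cj 6 [36,29,35,14,8],
  .o9 4,
  .o9 4,
  .o9 4,
  .cj 5 [13,7,29,35,1],
  .o9 4,
  .o9 0,
  .o9 0,
  .o9 4,
  .o9 0,
  .o9 0,
  .o9 4,
  .o9 0,
  .o9 0,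
  .o9 4,
  .o9 0,
  .o9 0,
  .o9 4,
  .o9 0,
  .o9 0,
  .o9 4,
  .o9 0,
  .o9 0,
  .cj 4 [30,8,25],
  .o9 4,
  .o9 4,
  .o9 4,
  .cj 6 [9,11,35,14,9,8],
  .o9 4,
  .o9 4,
  .o9 4,
  .cj 5 [13,29,35,6],
  .o9 4,
  .o9 0,
  .o9 0,
  .o9 4,
  .o9 0,
  .o9 0,
  .o9 4,
  .o9 0,
  .o9 0,
  .o9 4,
  .o9 0,
  .o9 0,
  .o9 4,
  .o9 0,
  .o9 0,
  .o9 4,
  .o9 0,
  .o9 0,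
  .cj 4 [36,11],
  .cj 5 [9,29,35,14],
  .cj 6 [9,32,25,29,17,8],
  .o9 4,
  .o9 4,
  .o9 4,
  .o9 4,
  .o9 4,
  .o9 4,
  .o9 5,
  .o9 0,
  .o9 0,
  .o9 4,
  .o9 0,
  .o9 0,
  .o9 4,
  .o9 0,
  .o9 0,
  .o9 5,
  .o9 0,
  .o9 0,
  .o9 4,
  .o9 0,
  .o9 0,
  .o9 4,
  .o9 0,
  .o9 0,
  .cj 4 [36,25,11],
  .cj 5 [9,29,35,14,6],
  .cj 6 [31,9,29,24,17,8],
  .o9 4,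
  .o9 4,
  .o9 4,
  .o9 4,
  .o9 4,
  .o9 4,
  .o9 4,
  .o9 0,
  .o9 0,
  .o9 4,
  .o9 0,
  .o9 0,
  .o9 4,
  .o9 0,
  .o9 0,
  .o9 4,
  .o9 0,
  .o9 0,
  .o9 4,
  .o9 0,
  .o9 0,
  .o9 4,
  .o9 0,
  .o9 0,
  .cj 4 [36,11,7],
  .cj 5 [31,27,11,35,6],
  .cj 6 [9,29,35,14,9,8],
  .o9 4,
  .o9 4,
  .o9 4,
  .o9 4,
  .o9 4,
  .o9 4,
  .o9 4,
  .o9 0,
  .o9 0,
  .o9 4,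
  .o9 0,
  .o9 0,
  .o9 4,
  .o9 0,
  .o9 0,
  .o9 4,
  .o9 0,
  .o9 0,
  .o9 4,
  .o9 0,
  .o9 0,
  .o9 4,
  .o9 0,
  .o9 0,
  .cj 3 [11,9],
  .o9 4,
  .o9 4,
  .o9 4,
  .cj 6 [29,17,32,26,24,1],
  .o9 4,
  .o9 4,
  .o9 4,
  .cj 5 [9,11,6,26,6],
  .o9 5,
  .o9 0,
  .o9 0,
  .o9 4,
  .o9 0,
  .o9 0,
  .o9 4,
  .o9 0,
  .o9 0,
  .o9 5,
  .o9 0,
  .o9 0,
  .o9 4,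
  .o9 0,
  .o9 0,
  .o9 4,
  .o9 0,
  .o9 0,
  .cj 3 [11,8,7],
  .o9 4,
  .o9 4,
  .o9 4,
  .cj 6 [9,11,17,32,9,8],
  .o9 4,
  .o9 4,
  .o9 4,
  .cj 5 [9,11,26,6],
  .o9 4,
  .o9 0,
  .o9 0,
  .o9 4,
  .o9 0,
  .o9 0,
  .o9 4,
  .o9 0,
  .o9 0,
  .o9 4,
  .o9 0,
  .o9 0,
  .o9 4,
  .o9 0,
  .o9 0,
  .o9 4,
  .o9 0,
  .o9 0,
  .cj 3 [7,11,9],
  .o9 4,
  .o9 4,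
  .o9 4,
  .cj 6 [36,29,17,32,8],
  .o9 4,
  .o9 4,
  .o9 4,
  .cj 5 [36,29,26,6,1],
  .o9 4,
  .o9 0,
  .o9 0,
  .o9 4,
  .o9 0,
  .o9 0,
  .o9 4,
  .o9 0,
  .o9 0,
  .o9 4,
  .o9 0,
  .o9 0,
  .o9 4,
  .o9 0,
  .o9 0,
  .o9 4,
  .o9 0,
  .o9 0,
  .cj 2 [36,12,9],
  .o9 4,
  .o9 4,
  .o9 4,
  .o9 4,
  .cj 3 [32,9,16,10],
  .o9 4,
  .cj 4 [31,9,34,6,10],
  .o9 4,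
  .o9 5,
  .o9 0,
  .o9 0,
  .o9 4,
  .o9 0,
  .o9 0,
  .o9 4,
  .o9 0,
  .o9 0,
  .o9 5,
  .o9 0,
  .o9 0,
  .o9 4,
  .o9 0,
  .o9 0,
  .o9 4,
  .o9 0,
  .o9 0,
  .cj 2 [12,9,10,7],
  .o9 4,
  .o9 4,
  .o9 4,
  .o9 4,
  .cj 3 [13,24,9,16,10],
  .o9 4,
  .cj 4 [13,24,9,16,13],
  .o9 4,
  .o9 4,
  .o9 0,
  .o9 0,
  .o9 4,
  .o9 0,
  .o9 0,
  .o9 4,
  .o9 0,
  .o9 0,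
  .o9 4,
  .o9 0,
  .o9 0,
  .o9 4,
  .o9 0,
  .o9 0,
  .o9 4,
  .o9 0,
  .o9 0,
  .cj 2 [36,12,8,7],
  .o9 4,
  .o9 4,
  .o9 4,
  .o9 4,
  .cj 3 [32,6,9,16,10],
  .o9 4,
  .cj 4 [14,9,34,31,7],
  .o9 4,
  .o9 4,
  .o9 0,
  .o9 0,
  .o9 4,
  .o9 0,
  .o9 0,
  .o9 4,
  .o9 0,
  .o9 0,
  .o9 4,
  .o9 0,
  .o9 0,
  .o9 4,
  .o9 0,
  .o9 0,
  .o9 4,
  .o9 0,
  .o9 0]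

theorem h28_len_4 : h28_certs_4.length = 729 := by decide +kernel

theorem h28_chk_4 : chkAll 2916 h28_certs_4 = true := by decide +kernel

end Cfsg.Agent.Lib.Helper28.O73C
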