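import Cfsg.Agent.Lib.Helper28.O73C.Comp

/-! Project O73C (S5514): certificates for the parameters 3645 to 4373 (generated, helper28). -/

set_option autoImplicit false
set_option maxRecDepth 100000

namespace Cfsg.Agent.Lib.Helper28.O73C

/-- certificates, chunk 5 -/
def h28_certs_5 : List Cert :=
  [.cj 0 [26,7,6],
  .cj 1 [5,8,24,1],
  .cj 2 [13,23,28,14,7],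
  .cj 2 [35,27,28,14,7],
  .cj 0 [5,26,7,6],
  .cj 1 [11,26,6,1],
  .cj 1 [8,24,1],
  .cj 2 [11,17,9,28,12,7],
  .cj 0 [23,26,7,6],
  .cj 6 [1],
  .cj 6 [1,5],
  .cj 6 [1,23],
  .cj 6 [6,1],
  .cj 6 [5,1],
  .cj 6 [24,23,1],
  .cj 6 [24,1],
  .cj 6 [6,5,1],
  .cj 6 [23,1],
  .cj 6 [36,5,20,9,5],
  .cj 6 [36,2,24,23],
  .cj 6 [36,20,6,5],
  .cj 6 [36,5,20,6,5],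
  .cj 6 [36,2,23,9],
  .cj 6 [36,20,1,5],
  .cj 6 [36,5,20,1,5],
  .cj 6 [36,2,1,23],
  .cj 6 [36,20,9,5],
  .cj 2 [27,28,14,7],
  .cj 0 [34,26,7,6],
  .cj 1 [23,26,14,6,1],
  .cj 1 [26,14,6,1],
  .cj 2 [27,5,28,14,7],
  .cj 0 [23,26,17,7,6],
  .cj 0 [26,17,7,6],
  .cj 1 [34,8,24,1],
  .cj 2 [27,23,28,14,7],
  .cj 6 [17,6,1],
  .cj 6 [13,5],
  .cj 6 [31,19,23],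
  .cj 6 [24,17,1],
  .cj 6 [13,6,5],
  .cj 6 [23,17,1],
  .cj 6 [17,1],
  .cj 6 [17,1,5],
  .cj 6 [1,23,17],
  .cj 6 [36,17,5,20,6,5],
  .cj 6 [36,2,35,23],
  .cj 6 [36,17,20,1,5],
  .cj 6 [32,35,8,24,9],
  .cj 6 [36,13,2,23,6],
  .cj 6 [36,31,20,5],
  .cj 6 [36,5,31,20,5],
  .cj 6 [36,19,13,2,23],
  .cj 6 [36,17,20,6,5],
  .cj 2 [10,25,24,13],
  .cj 0 [16,26,7,6],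
  .cj 1 [35,11,26,6,1],
  .cj 1 [32,26,6,1],
  .cj 2 [5,10,25,24,13],
  .cj 0 [16,5,26,7,6],
  .cj 0 [35,26,7,6],
  .cj 1 [16,8,24,1],
  .cj 2 [23,10,25,24,13],
  .cj 6 [35,6,1],
  .cj 6 [31,5],
  .cj 6 [19,13,23],
  .cj 6 [35,24,1],
  .cj 6 [31,6,5],
  .cj 6 [35,23,1],
  .cj 6 [35,1],
  .cj 6 [35,1,5],
  .cj 6 [35,1,23],
  .cj 6 [36,35,5,20,6,5],
  .cj 6 [36,2,23,17],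
  .cj 6 [36,35,20,1,5],
  .cj 6 [8,24,14,17,9],
  .cj 6 [36,31,2,23,6],
  .cj 6 [36,20,13,5],
  .cj 6 [36,5,20,13,5],
  .cj 6 [36,6,2,23,17],
  .cj 6 [36,35,20,6,5],
  .cj 4 [29,9],
  .o9 4,
  .o9 4,
  .cj 5 [35,14,1],
  .o9 4,
  .o9 4,
  .cj 6 [35,14,6,8],
  .o9 4,
  .o9 4,
  .cj 6 [14,8,1],
  .o9 4,
  .o9 4,
  .cj 4 [36,17,11,26,7],
  .o9 4,
  .o9 4,
  .cj 5 [24,14,13],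
  .o9 4,
  .o9 4,
  .cj 6 [24,17,14,9,8],
  .o9 4,
  .o9 4,
  .cj 4 [35,9,29,8,7],
  .o9 4,
  .o9 4,
  .cj 5 [17,14,6],
  .o9 4,
  .o9 4,
  .cj 4 [29,8,7],
  .o9 4,
  .o9 4,
  .cj 5 [35,14,6,1],
  .o9 4,
  .o9 4,
  .cj 6 [35,24,14,8],
  .o9 4,
  .o9 4,
  .cj 5 [14,13],
  .o9 4,
  .o9 4,
  .cj 6 [14,6,8,1],
  .o9 4,
  .o9 4,
  .cj 4 [17,29,12,9],
  .o9 4,
  .o9 4,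
  .cj 4 [35,9,29,24,9],
  .o9 4,
  .o9 4,
  .cj 5 [24,17,14],
  .o9 4,
  .o9 4,
  .cj 6 [17,14,9,8],
  .o9 4,
  .o9 4,
  .cj 4 [29,24,9],
  .o9 4,
  .o9 4,
  .cj 5 [35,24,14,1],
  .o9 4,
  .o9 4,
  .cj 6 [35,14,8],
  .o9 4,
  .o9 4,
  .cj 4 [17,29,12,8,7],
  .o9 4,
  .o9 4,
  .cj 5 [14,2,6],
  .o9 4,
  .o9 4,
  .cj 6 [24,14,8,1],
  .o9 4,
  .o9 4,
  .cj 5 [17,14],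
  .o9 4,
  .o9 4,
  .cj 6 [17,14,2,6,8],
  .o9 4,
  .o9 4,
  .cj 4 [35,9,29,9],
  .o9 4,
  .o9 4,
  .cj 3 [36,29,9],
  .o9 4,
  .o9 4,
  .cj 5 [6,26,6,1],
  .o9 4,
  .o9 4,
  .cj 6 [17,32,6,8],
  .o9 4,
  .o9 4,
  .cj 6 [32,8,1],
  .o9 4,
  .o9 4,
  .cj 3 [35,11,26,7],
  .o9 4,
  .o9 4,
  .cj 5 [35,26,2,6],
  .o9 4,
  .o9 4,
  .cj 6 [35,32,24,9,8],
  .o9 4,
  .o9 4,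
  .cj 3 [17,10,27,25,11],
  .o9 4,
  .o9 4,
  .cj 5 [24,26,17,6],
  .o9 4,
  .o9 4,
  .cj 3 [11,27,12,7],
  .o9 4,
  .o9 4,
  .cj 5 [26,6,1],
  .o9 4,
  .o9 4,
  .cj 6 [17,32,8],
  .o9 4,
  .o9 4,
  .cj 3 [35,11,8,25],
  .o9 4,
  .o9 4,
  .cj 5 [36,35,8,24,1],
  .o9 4,
  .o9 4,
  .cj 6 [32,24,8,1],
  .o9 4,
  .o9 4,
  .cj 5 [6,26,17,6],
  .o9 4,
  .o9 4,
  .cj 6 [35,32,2,6,8],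
  .o9 4,
  .o9 4,
  .cj 3 [17,11,27,11],
  .o9 4,
  .o9 4,
  .cj 3 [36,29,8,7],
  .o9 4,
  .o9 4,
  .cj 5 [24,26,6,1],
  .o9 4,
  .o9 4,
  .cj 6 [17,32,24,8],
  .o9 4,
  .o9 4,
  .cj 5 [35,6,26,2,6],
  .o9 4,
  .o9 4,
  .cj 6 [32,6,8,1],
  .o9 4,
  .o9 4,
  .cj 3 [35,11,27],
  .o9 4,
  .o9 4,
  .cj 3 [17,11,27,11,7],
  .o9 4,
  .o9 4,
  .cj 5 [26,17,6],
  .o9 4,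
  .o9 4,
  .cj 6 [35,32,9,8],
  .o9 4,
  .o9 4,
  .cj 4 [29],
  .cj 6 [27,13,11,17,6,8],
  .cj 5 [27,11,35,14],
  .o9 4,
  .o9 4,
  .o9 4,
  .o9 4,
  .o9 4,
  .o9 4,
  .o9 5,
  .o9 0,
  .o9 0,
  .o9 4,
  .o9 0,
  .o9 0,
  .o9 4,
  .o9 0,
  .o9 0,
  .o9 5,
  .o9 0,
  .o9 0,
  .o9 4,
  .o9 0,
  .o9 0,
  .o9 4,
  .o9 0,
  .o9 0,
  .cj 4 [14,7],
  .cj 6 [36,9,29,35,14,8],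
  .cj 5 [27,11,35,14,6],
  .o9 4,
  .o9 4,
  .o9 4,
  .o9 4,
  .o9 4,
  .o9 4,
  .o9 4,
  .o9 0,
  .o9 0,
  .o9 4,
  .o9 0,
  .o9 0,
  .o9 4,
  .o9 0,
  .o9 0,
  .o9 4,
  .o9 0,
  .o9 0,
  .o9 4,
  .o9 0,
  .o9 0,
  .o9 4,
  .o9 0,
  .o9 0,
  .cj 4 [29,25],
  .cj 6 [27,11,35,14,9,8],
  .cj 5 [13,9,29,35,6],
  .o9 4,
  .o9 4,
  .o9 4,
  .o9 4,
  .o9 4,
  .o9 4,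
  .o9 4,
  .o9 0,
  .o9 0,
  .o9 4,
  .o9 0,
  .o9 0,
  .o9 4,
  .o9 0,
  .o9 0,
  .o9 4,
  .o9 0,
  .o9 0,
  .o9 4,
  .o9 0,
  .o9 0,
  .o9 4,
  .o9 0,
  .o9 0,
  .cj 3 [30,9],
  .o9 4,
  .o9 4,
  .o9 4,
  .o9 4,
  .cj 6 [11,17,32,26,24],
  .o9 4,
  .cj 5 [11,8,24,8,1],
  .o9 4,
  .o9 5,
  .o9 0,
  .o9 0,
  .o9 4,
  .o9 0,
  .o9 0,
  .o9 4,
  .o9 0,
  .o9 0,
  .o9 5,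
  .o9 0,
  .o9 0,
  .o9 4,
  .o9 0,
  .o9 0,
  .o9 4,
  .o9 0,
  .o9 0,
  .cj 3 [30,8,7],
  .o9 4,
  .o9 4,
  .o9 4,
  .o9 4,
  .cj 6 [27,29,17,32,9,8],
  .o9 4,
  .cj 5 [11,8,24,1],
  .o9 4,
  .o9 4,
  .o9 0,
  .o9 0,
  .o9 4,
  .o9 0,
  .o9 0,
  .o9 4,
  .o9 0,
  .o9 0,
  .o9 4,
  .o9 0,
  .o9 0,
  .o9 4,
  .o9 0,
  .o9 0,
  .o9 4,
  .o9 0,
  .o9 0,
  .cj 3 [30,24,9],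
  .o9 4,
  .o9 4,
  .o9 4,
  .o9 4,
  .cj 6 [36,11,17,32,8,1],
  .o9 4,
  .cj 5 [11,6,8,24,1],
  .o9 4,
  .o9 4,
  .o9 0,
  .o9 0,
  .o9 4,
  .o9 0,
  .o9 0,
  .o9 4,
  .o9 0,
  .o9 0,
  .o9 4,
  .o9 0,
  .o9 0,
  .o9 4,
  .o9 0,
  .o9 0,
  .o9 4,
  .o9 0,
  .o9 0,
  .cj 2 [30,27],
  .o9 4,
  .o9 4,
  .o9 4,
  .cj 3 [31,11,9,16,10],
  .o9 4,
  .o9 4,
  .o9 4,
  .cj 4 [14,11,9,34,10],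
  .o9 5,
  .o9 0,
  .o9 0,
  .o9 4,
  .o9 0,
  .o9 0,
  .o9 4,
  .o9 0,
  .o9 0,
  .o9 5,
  .o9 0,
  .o9 0,
  .o9 4,
  .o9 0,
  .o9 0,
  .o9 4,
  .o9 0,
  .o9 0,
  .cj 2 [27,14,7],
  .o9 4,
  .o9 4,
  .o9 4,
  .cj 3 [31,7,11,9,16,10],
  .o9 4,
  .o9 4,
  .o9 4,
  .cj 4 [32,27,34,28,25],
  .o9 4,
  .o9 0,
  .o9 0,
  .o9 4,
  .o9 0,
  .o9 0,
  .o9 4,
  .o9 0,
  .o9 0,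
  .o9 4,
  .o9 0,
  .o9 0,
  .o9 4,
  .o9 0,
  .o9 0,
  .o9 4,
  .o9 0,
  .o9 0,
  .cj 2 [30,8,25],
  .o9 4,
  .o9 4,
  .o9 4,
  .cj 3 [32,27,34,6,10,7],
  .o9 4,
  .o9 4,
  .o9 4,
  .cj 4 [14,27,16,10,7],
  .o9 4,
  .o9 0,
  .o9 0,
  .o9 4,
  .o9 0,
  .o9 0,
  .o9 4,
  .o9 0,
  .o9 0,
  .o9 4,
  .o9 0,
  .o9 0,
  .o9 4,
  .o9 0,
  .o9 0,
  .o9 4,
  .o9 0,
  .o9 0,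
  .cj 3 [36,12],
  .cj 6 [31,27,11,35,6,8],
  .cj 5 [27,11,6,26,6],
  .o9 4,
  .o9 4,
  .o9 4,
  .o9 4,
  .o9 4,
  .o9 4,
  .o9 5,
  .o9 0,
  .o9 0,
  .o9 4,
  .o9 0,
  .o9 0,
  .o9 4,
  .o9 0,
  .o9 0,
  .o9 5,
  .o9 0,
  .o9 0,
  .o9 4,
  .o9 0,
  .o9 0,
  .o9 4,
  .o9 0,
  .o9 0,
  .cj 3 [36,25,12],
  .cj 6 [27,11,17,32,9,8],
  .cj 5 [27,11,26,6],
  .o9 4,
  .o9 4,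
  .o9 4,
  .o9 4,
  .o9 4,
  .o9 4,
  .o9 4,
  .o9 0,
  .o9 0,
  .o9 4,
  .o9 0,
  .o9 0,
  .o9 4,
  .o9 0,
  .o9 0,
  .o9 4,
  .o9 0,
  .o9 0,
  .o9 4,
  .o9 0,
  .o9 0,
  .o9 4,
  .o9 0,
  .o9 0,
  .cj 3 [36,12,7],
  .cj 6 [36,9,29,17,32,8],
  .cj 5 [27,24,11,26,6],
  .o9 4,
  .o9 4,
  .o9 4,
  .o9 4,
  .o9 4,
  .o9 4,
  .o9 4,
  .o9 0,
  .o9 0,
  .o9 4,
  .o9 0,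
  .o9 0,
  .o9 4,
  .o9 0,
  .o9 0,
  .o9 4,
  .o9 0,
  .o9 0,
  .o9 4,
  .o9 0,
  .o9 0,
  .o9 4,
  .o9 0,
  .o9 0,
  .cj 2 [12,11,9],
  .o9 4,
  .o9 4,
  .o9 4,
  .cj 4 [32,27,34,10],
  .o9 4,
  .o9 4,
  .o9 4,
  .cj 3 [14,27,16,6,10],
  .o9 5,
  .o9 0,
  .o9 0,
  .o9 4,
  .o9 0,
  .o9 0,
  .o9 4,
  .o9 0,
  .o9 0,
  .o9 5,
  .o9 0,
  .o9 0,
  .o9 4,
  .o9 0,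
  .o9 0,
  .o9 4,
  .o9 0,
  .o9 0,
  .cj 2 [12,10,8,7],
  .o9 4,
  .o9 4,
  .o9 4,
  .cj 4 [31,6,27,34,10],
  .o9 4,
  .o9 4,
  .o9 4,
  .cj 3 [32,27,34,31,25],
  .o9 4,
  .o9 0,
  .o9 0,
  .o9 4,
  .o9 0,
  .o9 0,
  .o9 4,
  .o9 0,
  .o9 0,
  .o9 4,
  .o9 0,
  .o9 0,
  .o9 4,
  .o9 0,
  .o9 0,
  .o9 4,
  .o9 0,
  .o9 0,
  .cj 2 [36,27,12,7],
  .o9 4,
  .o9 4,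
  .o9 4,
  .cj 4 [32,24,27,34,10],
  .o9 4,
  .o9 4,
  .o9 4,
  .cj 3 [14,27,16,13,7],
  .o9 4,
  .o9 0,
  .o9 0,
  .o9 4,
  .o9 0,
  .o9 0,
  .o9 4,
  .o9 0,
  .o9 0,
  .o9 4,
  .o9 0,
  .o9 0,
  .o9 4,
  .o9 0,
  .o9 0,
  .o9 4,
  .o9 0,
  .o9 0,
  .cj 4 [29,27],
  .o9 4,
  .o9 4,
  .o9 4,
  .o9 4,
  .cj 6 [11,35,26,24,14],
  .o9 4,
  .cj 5 [11,17,32,1],
  .o9 4,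
  .o9 5,
  .o9 0,
  .o9 0,
  .o9 4,
  .o9 0,
  .o9 0,
  .o9 4,
  .o9 0,
  .o9 0,
  .o9 5,
  .o9 0,
  .o9 0,
  .o9 4,
  .o9 0,
  .o9 0,
  .o9 4,
  .o9 0,
  .o9 0,
  .cj 4 [29,26,7],
  .o9 4,
  .o9 4,
  .o9 4,
  .o9 4,
  .cj 6 [36,11,35,14,8,1],
  .o9 4,
  .cj 5 [11,17,32,24,1],
  .o9 4,
  .o9 4,
  .o9 0,
  .o9 0,
  .o9 4,
  .o9 0,
  .o9 0,
  .o9 4,
  .o9 0,
  .o9 0,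
  .o9 4,
  .o9 0,
  .o9 0,
  .o9 4,
  .o9 0,
  .o9 0,
  .o9 4,
  .o9 0,
  .o9 0,
  .cj 4 [29,8,25],
  .o9 4,
  .o9 4,
  .o9 4,
  .o9 4,
  .cj 6 [27,29,35,14,9,8],
  .o9 4,
  .cj 5 [31,11,35,6],
  .o9 4,
  .o9 4,
  .o9 0,
  .o9 0,
  .o9 4,
  .o9 0,
  .o9 0,
  .o9 4,
  .o9 0,
  .o9 0,
  .o9 4,
  .o9 0,
  .o9 0,
  .o9 4,
  .o9 0,
  .o9 0,
  .o9 4,
  .o9 0,
  .o9 0]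

theorem h28_len_5 : h28_certs_5.length = 729 := by decide +kernel

theorem h28_chk_5 : chkAll 3645 h28_certs_5 = true := by decide +kernel

end Cfsg.Agent.Lib.Helper28.O73C
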