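import Cfsg.Agent.Lib.Helper28.O73C.Comp

/-! Project O73C (S5514): certificates for the parameters 4374 to 5102 (generated, helper28). -/

set_option autoImplicit false
set_option maxRecDepth 100000

namespace Cfsg.Agent.Lib.Helper28.O73C

/-- certificates, chunk 6 -/
def h28_certs_6 : List Cert :=
  [.cj 0 [8,24],
  .cj 0 [23,8,24],
  .cj 0 [5,8,24],
  .cj 1 [26,6],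
  .cj 1 [23,26,6],
  .cj 1 [5,26,6],
  .cj 2 [17,28,12,7],
  .cj 2 [17,16,28,12,7],
  .cj 2 [17,5,28,12,7],
  .cj 6 [5,20,5],
  .cj 6 [20,5],
  .cj 6 [2,23],
  .cj 6 [6,5,20,5],
  .cj 6 [6,20,5],
  .cj 6 [6,2,23],
  .cj 6 [24,5,20,5],
  .cj 6 [24,20,5],
  .cj 6 [24,2,23],
  .cj 6 [36,1],
  .cj 6 [36,23,1],
  .cj 6 [36,5,1],
  .cj 6 [36,24,1],
  .cj 6 [36,24,23,1],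
  .cj 6 [36,1,5],
  .cj 6 [36,6,1],
  .cj 6 [36,1,23],
  .cj 6 [36,6,5,1],
  .cj 2 [28,12,7],
  .cj 2 [16,28,12,7],
  .cj 2 [5,28,12,7],
  .cj 0 [35,8,24],
  .cj 0 [35,23,8,24],
  .cj 0 [35,5,8,24],
  .cj 1 [35,26,6],
  .cj 1 [35,23,26,6],
  .cj 1 [35,5,26,6],
  .cj 6 [26,14,17,6,1],
  .cj 6 [20,17,6,5],
  .cj 6 [2,23,17,6],
  .cj 6 [35,5,20,5],
  .cj 6 [35,20,5],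
  .cj 6 [35,2,23],
  .cj 6 [5,20,17,1,5],
  .cj 6 [20,17,1,5],
  .cj 6 [19,2,23,17],
  .cj 6 [36,35,6,1],
  .cj 6 [36,35,1,23],
  .cj 6 [36,31,6,5],
  .cj 6 [36,35,1],
  .cj 6 [36,35,23,1],
  .cj 6 [36,31,5],
  .cj 6 [36,35,24,1],
  .cj 6 [36,19,13,23],
  .cj 6 [36,35,1,5],
  .cj 2 [10,25,12],
  .cj 2 [23,10,25,12],
  .cj 2 [5,10,25,12],
  .cj 0 [8,24,17],
  .cj 0 [23,8,24,17],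
  .cj 0 [5,8,24,17],
  .cj 1 [26,17,6],
  .cj 1 [11,26,17,6],
  .cj 1 [5,26,17,6],
  .cj 6 [32,35,26,6,1],
  .cj 6 [20,35,6,5],
  .cj 6 [2,35,23,6],
  .cj 6 [17,5,20,5],
  .cj 6 [17,20,5],
  .cj 6 [17,2,23],
  .cj 6 [5,20,35,1,5],
  .cj 6 [20,35,1,5],
  .cj 6 [17,6,2,23],
  .cj 6 [36,17,6,1],
  .cj 6 [36,1,23,17],
  .cj 6 [36,13,6,5],
  .cj 6 [36,17,1],
  .cj 6 [36,23,17,1],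
  .cj 6 [36,13,5],
  .cj 6 [36,24,17,1],
  .cj 6 [36,31,19,23],
  .cj 6 [36,17,1,5],
  .cj 3 [29,12,9],
  .o9 4,
  .o9 4,
  .cj 6 [17,32,26,24,9],
  .o9 4,
  .o9 4,
  .cj 5 [8,24,8],
  .o9 4,
  .o9 4,
  .cj 6 [26,14,5,20,5],
  .o9 4,
  .o9 4,
  .cj 5 [8,24,17,13],
  .o9 4,
  .o9 4,
  .cj 3 [17,29,8,7],
  .o9 4,
  .o9 4,
  .cj 6 [36,32,8,1],
  .o9 4,
  .o9 4,
  .cj 5 [26,14,17,6,1],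
  .o9 4,
  .o9 4,
  .cj 3 [36,35,11,26,7],
  .o9 4,
  .o9 4,
  .cj 3 [28,12,8,7],
  .o9 4,
  .o9 4,
  .cj 6 [32,26,5,31,20,5],
  .o9 4,
  .o9 4,
  .cj 5 [8,24],
  .o9 4,
  .o9 4,
  .cj 3 [17,29,24,9],
  .o9 4,
  .o9 4,
  .cj 6 [36,35,32,8],
  .o9 4,
  .o9 4,
  .cj 5 [36,26,17,6,1],
  .o9 4,
  .o9 4,
  .cj 5 [35,8,24,8,1],
  .o9 4,
  .o9 4,
  .cj 3 [35,27,29,9],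
  .o9 4,
  .o9 4,
  .cj 6 [32,26,24],
  .o9 4,
  .o9 4,
  .cj 3 [10,24,12,9],
  .o9 4,
  .o9 4,
  .cj 6 [36,17,32,9,8],
  .o9 4,
  .o9 4,
  .cj 5 [36,26,6],
  .o9 4,
  .o9 4,
  .cj 5 [8,24,17,13,8],
  .o9 4,
  .o9 4,
  .cj 3 [17,29,9],
  .o9 4,
  .o9 4,
  .cj 6 [35,32,26,24,1],
  .o9 4,
  .o9 4,
  .cj 3 [35,13,29,8,7],
  .o9 4,
  .o9 4,
  .cj 6 [32,6,26,24],
  .o9 4,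
  .o9 4,
  .cj 5 [35,8,24,1],
  .o9 4,
  .o9 4,
  .cj 4 [11,27,11],
  .o9 4,
  .o9 4,
  .cj 6 [35,26,24,14,9],
  .o9 4,
  .o9 4,
  .cj 5 [17,32],
  .o9 4,
  .o9 4,
  .cj 6 [32,26,5,20,5],
  .o9 4,
  .o9 4,
  .cj 5 [32,2,6],
  .o9 4,
  .o9 4,
  .cj 4 [36,35,29,8,7],
  .o9 4,
  .o9 4,
  .cj 6 [36,14,8,1],
  .o9 4,
  .o9 4,
  .cj 5 [35,32,24,1],
  .o9 4,
  .o9 4,
  .cj 4 [17,11,26,7],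
  .o9 4,
  .o9 4,
  .cj 4 [11,27,11,7],
  .o9 4,
  .o9 4,
  .cj 6 [36,35,14,9,8],
  .o9 4,
  .o9 4,
  .cj 5 [17,32,24],
  .o9 4,
  .o9 4,
  .cj 5 [32,13],
  .o9 4,
  .o9 4,
  .cj 4 [36,35,29,9],
  .o9 4,
  .o9 4,
  .cj 6 [26,24,17,14,1],
  .o9 4,
  .o9 4,
  .cj 4 [17,11,8,25],
  .o9 4,
  .o9 4,
  .cj 6 [6,26,24,14],
  .o9 4,
  .o9 4,
  .cj 5 [35,32,6,1],
  .o9 4,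
  .o9 4,
  .cj 4 [10,27,25,11],
  .o9 4,
  .o9 4,
  .cj 6 [26,14,5,20,13,5],
  .o9 4,
  .o9 4,
  .cj 5 [17,32,6],
  .o9 4,
  .o9 4,
  .cj 4 [35,11,27,14,7],
  .o9 4,
  .o9 4,
  .cj 6 [36,17,14,8],
  .o9 4,
  .o9 4,
  .cj 5 [32,24,13],
  .o9 4,
  .o9 4,
  .cj 5 [35,32,1],
  .o9 4,
  .o9 4,
  .cj 4 [17,11,27],
  .o9 4,
  .o9 4,
  .cj 6 [26,24,14],
  .o9 4,
  .o9 4,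
  .cj 2 [12],
  .cj 3 [36,13,16,11,10],
  .cj 4 [36,31,34,6,10],
  .o9 4,
  .o9 4,
  .o9 4,
  .o9 4,
  .o9 4,
  .o9 4,
  .o9 5,
  .o9 0,
  .o9 0,
  .o9 4,
  .o9 0,
  .o9 0,
  .o9 4,
  .o9 0,
  .o9 0,
  .o9 5,
  .o9 0,
  .o9 0,
  .o9 4,
  .o9 0,
  .o9 0,
  .o9 4,
  .o9 0,
  .o9 0,
  .cj 2 [12,7],
  .cj 3 [13,16,28,25,12],
  .cj 4 [31,34,28,25,11],
  .o9 4,
  .o9 4,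
  .o9 4,
  .o9 4,
  .o9 4,
  .o9 4,
  .o9 4,
  .o9 0,
  .o9 0,
  .o9 4,
  .o9 0,
  .o9 0,
  .o9 4,
  .o9 0,
  .o9 0,
  .o9 4,
  .o9 0,
  .o9 0,
  .o9 4,
  .o9 0,
  .o9 0,
  .o9 4,
  .o9 0,
  .o9 0,
  .cj 2 [25,12],
  .cj 3 [31,34,6,10,7],
  .cj 4 [13,16,11,10,7],
  .o9 4,
  .o9 4,
  .o9 4,
  .o9 4,
  .o9 4,
  .o9 4,
  .o9 4,
  .o9 0,
  .o9 0,
  .o9 4,
  .o9 0,
  .o9 0,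
  .o9 4,
  .o9 0,
  .o9 0,
  .o9 4,
  .o9 0,
  .o9 0,
  .o9 4,
  .o9 0,
  .o9 0,
  .o9 4,
  .o9 0,
  .o9 0,
  .cj 3 [12,9],
  .o9 4,
  .o9 4,
  .o9 4,
  .o9 4,
  .cj 6 [31,11,35,26,24,1],
  .o9 4,
  .cj 5 [11,8,24,8],
  .o9 4,
  .o9 5,
  .o9 0,
  .o9 0,
  .o9 4,
  .o9 0,
  .o9 0,
  .o9 4,
  .o9 0,
  .o9 0,
  .o9 5,
  .o9 0,
  .o9 0,
  .o9 4,
  .o9 0,
  .o9 0,
  .o9 4,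
  .o9 0,
  .o9 0,
  .cj 3 [12,8,7],
  .o9 4,
  .o9 4,
  .o9 4,
  .o9 4,
  .cj 6 [27,29,17,32,8],
  .o9 4,
  .cj 5 [11,8,24],
  .o9 4,
  .o9 4,
  .o9 0,
  .o9 0,
  .o9 4,
  .o9 0,
  .o9 0,
  .o9 4,
  .o9 0,
  .o9 0,
  .o9 4,
  .o9 0,
  .o9 0,
  .o9 4,
  .o9 0,
  .o9 0,
  .o9 4,
  .o9 0,
  .o9 0,
  .cj 3 [24,12,9],
  .o9 4,
  .o9 4,
  .o9 4,
  .o9 4,
  .cj 6 [36,11,17,32,9,8],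
  .o9 4,
  .cj 5 [36,11,26,6],
  .o9 4,
  .o9 4,
  .o9 0,
  .o9 0,
  .o9 4,
  .o9 0,
  .o9 0,
  .o9 4,
  .o9 0,
  .o9 0,
  .o9 4,
  .o9 0,
  .o9 0,
  .o9 4,
  .o9 0,
  .o9 0,
  .o9 4,
  .o9 0,
  .o9 0,
  .cj 4 [27,11],
  .o9 4,
  .o9 4,
  .o9 4,
  .cj 6 [31,29,26,24,17],
  .o9 4,
  .o9 4,
  .o9 4,
  .cj 5 [29,17,32],
  .o9 5,
  .o9 0,
  .o9 0,
  .o9 4,
  .o9 0,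
  .o9 0,
  .o9 4,
  .o9 0,
  .o9 0,
  .o9 5,
  .o9 0,
  .o9 0,
  .o9 4,
  .o9 0,
  .o9 0,
  .o9 4,
  .o9 0,
  .o9 0,
  .cj 4 [27,11,7],
  .o9 4,
  .o9 4,
  .o9 4,
  .cj 6 [36,29,35,14,9,8],
  .o9 4,
  .o9 4,
  .o9 4,
  .cj 5 [29,17,32,24],
  .o9 4,
  .o9 0,
  .o9 0,
  .o9 4,
  .o9 0,
  .o9 0,
  .o9 4,
  .o9 0,
  .o9 0,
  .o9 4,
  .o9 0,
  .o9 0,
  .o9 4,
  .o9 0,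
  .o9 0,
  .o9 4,
  .o9 0,
  .o9 0,
  .cj 4 [27,25,11],
  .o9 4,
  .o9 4,
  .o9 4,
  .cj 6 [9,11,35,14,8,1],
  .o9 4,
  .o9 4,
  .o9 4,
  .cj 5 [29,17,32,6],
  .o9 4,
  .o9 0,
  .o9 0,
  .o9 4,
  .o9 0,
  .o9 0,
  .o9 4,
  .o9 0,
  .o9 0,
  .o9 4,
  .o9 0,
  .o9 0,
  .o9 4,
  .o9 0,
  .o9 0,
  .o9 4,
  .o9 0,
  .o9 0,
  .cj 2 [15,12],
  .cj 4 [31,34,11,10],
  .cj 3 [13,16,6,10],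
  .o9 4,
  .o9 4,
  .o9 4,
  .o9 4,
  .o9 4,
  .o9 4,
  .o9 5,
  .o9 0,
  .o9 0,
  .o9 4,
  .o9 0,
  .o9 0,
  .o9 4,
  .o9 0,
  .o9 0,
  .o9 5,
  .o9 0,
  .o9 0,
  .o9 4,
  .o9 0,
  .o9 0,
  .o9 4,
  .o9 0,
  .o9 0,
  .cj 2 [30,10,7],
  .cj 4 [31,34,25,11,10],
  .cj 3 [25,13,16,6,10],
  .o9 4,
  .o9 4,
  .o9 4,
  .o9 4,
  .o9 4,
  .o9 4,
  .o9 4,
  .o9 0,
  .o9 0,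
  .o9 4,
  .o9 0,
  .o9 0,
  .o9 4,
  .o9 0,
  .o9 0,
  .o9 4,
  .o9 0,
  .o9 0,
  .o9 4,
  .o9 0,
  .o9 0,
  .o9 4,
  .o9 0,
  .o9 0,
  .cj 2 [36,14,7],
  .cj 4 [13,16,13,11,7],
  .cj 3 [13,16,13,12,7],
  .o9 4,
  .o9 4,
  .o9 4,
  .o9 4,
  .o9 4,
  .o9 4,
  .o9 4,
  .o9 0,
  .o9 0,
  .o9 4,
  .o9 0,
  .o9 0,
  .o9 4,
  .o9 0,
  .o9 0,
  .o9 4,
  .o9 0,
  .o9 0,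
  .o9 4,
  .o9 0,
  .o9 0,
  .o9 4,
  .o9 0,
  .o9 0,
  .cj 3 [12,11,9],
  .o9 4,
  .o9 4,
  .o9 4,
  .cj 6 [13,29,35,26,24],
  .o9 4,
  .o9 4,
  .o9 4,
  .cj 5 [29,8,24,8],
  .o9 5,
  .o9 0,
  .o9 0,
  .o9 4,
  .o9 0,
  .o9 0,
  .o9 4,
  .o9 0,
  .o9 0,
  .o9 5,
  .o9 0,
  .o9 0,
  .o9 4,
  .o9 0,
  .o9 0,
  .o9 4,
  .o9 0,
  .o9 0,
  .cj 3 [12,11,8,7],
  .o9 4,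
  .o9 4,
  .o9 4,
  .cj 6 [9,11,17,32,8,1],
  .o9 4,
  .o9 4,
  .o9 4,
  .cj 5 [29,8,24],
  .o9 4,
  .o9 0,
  .o9 0,
  .o9 4,
  .o9 0,
  .o9 0,
  .o9 4,
  .o9 0,
  .o9 0,
  .o9 4,
  .o9 0,
  .o9 0,
  .o9 4,
  .o9 0,
  .o9 0,
  .o9 4,
  .o9 0,
  .o9 0,
  .cj 3 [36,27,11,7],
  .o9 4,
  .o9 4,
  .o9 4,
  .cj 6 [36,29,17,32,9,8],
  .o9 4,
  .o9 4,
  .o9 4,
  .cj 5 [36,29,26,6],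
  .o9 4,
  .o9 0,
  .o9 0,
  .o9 4,
  .o9 0,
  .o9 0,
  .o9 4,
  .o9 0,
  .o9 0,
  .o9 4,
  .o9 0,
  .o9 0,
  .o9 4,
  .o9 0,
  .o9 0,
  .o9 4,
  .o9 0,
  .o9 0,
  .cj 4 [27,11,9],
  .o9 4,
  .o9 4,
  .o9 4,
  .o9 4,
  .cj 6 [13,11,26,24,17,1],
  .o9 4,
  .cj 5 [11,17,32],
  .o9 4,
  .o9 5,
  .o9 0,
  .o9 0,
  .o9 4,
  .o9 0,
  .o9 0,
  .o9 4,
  .o9 0,
  .o9 0,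
  .o9 5,
  .o9 0,
  .o9 0,
  .o9 4,
  .o9 0,
  .o9 0,
  .o9 4,
  .o9 0,
  .o9 0,
  .cj 4 [27,11,8,7],
  .o9 4,
  .o9 4,
  .o9 4,
  .o9 4,
  .cj 6 [36,11,35,14,9,8],
  .o9 4,
  .cj 5 [11,17,32,24],
  .o9 4,
  .o9 4,
  .o9 0,
  .o9 0,
  .o9 4,
  .o9 0,
  .o9 0,
  .o9 4,
  .o9 0,
  .o9 0,
  .o9 4,
  .o9 0,
  .o9 0,
  .o9 4,
  .o9 0,
  .o9 0,
  .o9 4,
  .o9 0,
  .o9 0,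
  .cj 4 [36,30,8,7],
  .o9 4,
  .o9 4,
  .o9 4,
  .o9 4,
  .cj 6 [27,29,35,14,8],
  .o9 4,
  .cj 5 [11,17,32,6],
  .o9 4,
  .o9 4,
  .o9 0,
  .o9 0,
  .o9 4,
  .o9 0,
  .o9 0,
  .o9 4,
  .o9 0,
  .o9 0,
  .o9 4,
  .o9 0,
  .o9 0,
  .o9 4,
  .o9 0,
  .o9 0,
  .o9 4,
  .o9 0,
  .o9 0]

theorem h28_len_6 : h28_certs_6.length = 729 := by decide +kernel

theorem h28_chk_6 : chkAll 4374 h28_certs_6 = true := by decide +kernel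

end Cfsg.Agent.Lib.Helper28.O73C
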