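import Cfsg.Agent.Lib.Helper28.O73C.Comp

/-! Project O73C (S5514): certificates for the parameters 5103 to 5831 (generated, helper28). -/

set_option autoImplicit false
set_option maxRecDepth 100000

namespace Cfsg.Agent.Lib.Helper28.O73C

/-- certificates, chunk 7 -/
def h28_certs_7 : List Cert :=
  [.cj 0 [27,8,24],
  .cj 2 [34,28,13,12,7],
  .cj 1 [5,26,2,6],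
  .cj 1 [26,2,6],
  .cj 0 [27,23,8,24],
  .cj 2 [17,5,28,13,12,7],
  .cj 2 [17,28,13,12,7],
  .cj 1 [23,26,2,6],
  .cj 0 [27,5,8,24],
  .cj 6 [5,20,5,1],
  .cj 6 [20,19,5],
  .cj 6 [19,2,23],
  .cj 6 [5,20,24,5],
  .cj 6 [20,5,1],
  .cj 6 [2,23,6],
  .cj 6 [5,20,19,5],
  .cj 6 [20,24,5],
  .cj 6 [2,23,1],
  .cj 6 [36,9],
  .cj 6 [36,1,23,1],
  .cj 6 [36,1,5,1],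
  .cj 6 [36,24,9],
  .cj 6 [36,23,9],
  .cj 6 [36,19,5],
  .cj 6 [36,2,6],
  .cj 6 [36,19,23],
  .cj 6 [36,9,5],
  .cj 2 [28,13,12,7],
  .cj 1 [13,23,26,6,1],
  .cj 0 [31,5,8,24],
  .cj 0 [35,27,8,24],
  .cj 2 [23,28,13,12,7],
  .cj 1 [16,26,2,6],
  .cj 1 [35,26,2,6],
  .cj 0 [32,5,10,9,6],
  .cj 2 [5,28,13,12,7],
  .cj 6 [26,14,17,6],
  .cj 6 [20,13,1,5],
  .cj 6 [31,2,23],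
  .cj 6 [5,20,17,5],
  .cj 6 [20,13,6,5],
  .cj 6 [2,24,23,17],
  .cj 6 [5,20,13,1,5],
  .cj 6 [20,17,5],
  .cj 6 [35,2,23,6],
  .cj 6 [36,35,2,6],
  .cj 6 [36,24,13,23],
  .cj 6 [36,31,5,1],
  .cj 6 [36,35,9],
  .cj 6 [36,13,23,6],
  .cj 6 [36,31,1,5],
  .cj 6 [36,35,24,9],
  .cj 6 [36,13,23],
  .cj 6 [36,35,19,5],
  .cj 2 [27,10,25,12],
  .cj 1 [9,16,26,6,1],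
  .cj 0 [13,5,8,24],
  .cj 0 [8,24,1,17],
  .cj 2 [27,23,10,25,12],
  .cj 1 [34,26,2,6],
  .cj 1 [26,17,2,6],
  .cj 0 [14,5,10,9,6],
  .cj 2 [27,5,10,25,12],
  .cj 6 [32,35,26,6],
  .cj 6 [31,20,1,5],
  .cj 6 [13,2,23],
  .cj 6 [5,20,35,5],
  .cj 6 [31,20,6,5],
  .cj 6 [13,6,2,23],
  .cj 6 [5,31,20,1,5],
  .cj 6 [20,35,5],
  .cj 6 [17,2,23,6],
  .cj 6 [36,17,2,6],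
  .cj 6 [36,19,23,17],
  .cj 6 [36,13,5,1],
  .cj 6 [36,17,9],
  .cj 6 [36,31,23,6],
  .cj 6 [36,13,1,5],
  .cj 6 [36,24,17,9],
  .cj 6 [36,31,23],
  .cj 6 [36,19,17,5],
  .cj 3 [29,9],
  .o9 4,
  .o9 4,
  .cj 6 [17,32,26,24,1],
  .o9 4,
  .o9 4,
  .cj 5 [8,24,13,8],
  .o9 4,
  .o9 4,
  .cj 6 [35,32,6,26,24],
  .o9 4,
  .o9 4,
  .cj 5 [8,24,17,1],
  .o9 4,
  .o9 4,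
  .cj 3 [17,13,29,8,7],
  .o9 4,
  .o9 4,
  .cj 6 [36,32,9,8],
  .o9 4,
  .o9 4,
  .cj 5 [26,14,17,6],
  .o9 4,
  .o9 4,
  .cj 3 [35,10,24,12,9],
  .o9 4,
  .o9 4,
  .cj 3 [29,8,7],
  .o9 4,
  .o9 4,
  .cj 6 [36,17,32,24,8],
  .o9 4,
  .o9 4,
  .cj 5 [8,24,13],
  .o9 4,
  .o9 4,
  .cj 3 [36,17,11,26,7],
  .o9 4,
  .o9 4,
  .cj 6 [36,35,32,8,1],
  .o9 4,
  .o9 4,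
  .cj 5 [32,35,26,6,1],
  .o9 4,
  .o9 4,
  .cj 5 [35,8,24,8],
  .o9 4,
  .o9 4,
  .cj 3 [35,29,12,9],
  .o9 4,
  .o9 4,
  .cj 6 [32,26,24,9],
  .o9 4,
  .o9 4,
  .cj 3 [29,24,9],
  .o9 4,
  .o9 4,
  .cj 6 [36,17,32,8],
  .o9 4,
  .o9 4,
  .cj 5 [36,26,6,1],
  .o9 4,
  .o9 4,
  .cj 5 [8,24,17,8,1],
  .o9 4,
  .o9 4,
  .cj 3 [2,17,29,9],
  .o9 4,
  .o9 4,
  .cj 6 [35,32,26,24],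
  .o9 4,
  .o9 4,
  .cj 3 [35,28,12,8,7],
  .o9 4,
  .o9 4,
  .cj 6 [36,32,24,9,8],
  .o9 4,
  .o9 4,
  .cj 5 [35,8,24],
  .o9 4,
  .o9 4,
  .cj 4 [36,29,9],
  .o9 4,
  .o9 4,
  .cj 6 [35,26,24,14,1],
  .o9 4,
  .o9 4,
  .cj 5 [17,32,13],
  .o9 4,
  .o9 4,
  .cj 6 [6,26,24,17,14],
  .o9 4,
  .o9 4,
  .cj 5 [32,6,1],
  .o9 4,
  .o9 4,
  .cj 4 [35,11,8,25],
  .o9 4,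
  .o9 4,
  .cj 6 [36,14,9,8],
  .o9 4,
  .o9 4,
  .cj 5 [36,24,14],
  .o9 4,
  .o9 4,
  .cj 4 [17,11,27,11,7],
  .o9 4,
  .o9 4,
  .cj 4 [11,27,14,7],
  .o9 4,
  .o9 4,
  .cj 6 [36,35,14,8],
  .o9 4,
  .o9 4,
  .cj 5 [17,32,24,13],
  .o9 4,
  .o9 4,
  .cj 5 [32,1],
  .o9 4,
  .o9 4,
  .cj 4 [35,11,27],
  .o9 4,
  .o9 4,
  .cj 6 [26,24,17,14],
  .o9 4,
  .o9 4,
  .cj 4 [17,10,27,25,11],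
  .o9 4,
  .o9 4,
  .cj 6 [36,24,14,9,8],
  .o9 4,
  .o9 4,
  .cj 5 [36,14,6],
  .o9 4,
  .o9 4,
  .cj 4 [36,29,8,7],
  .o9 4,
  .o9 4,
  .cj 6 [36,35,24,14,8],
  .o9 4,
  .o9 4,
  .cj 5 [17,32,2,6],
  .o9 4,
  .o9 4,
  .cj 4 [35,11,26,7],
  .o9 4,
  .o9 4,
  .cj 6 [36,17,14,8,1],
  .o9 4,
  .o9 4,
  .cj 5 [32,24,1],
  .o9 4,
  .o9 4,
  .cj 5 [36,14],
  .o9 4,
  .o9 4,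
  .cj 4 [17,11,27,11],
  .o9 4,
  .o9 4,
  .cj 6 [26,24,14,9],
  .o9 4,
  .o9 4,
  .cj 3 [12],
  .cj 5 [27,11,8,24,8],
  .cj 6 [9,29,17,32,6,8],
  .o9 4,
  .o9 4,
  .o9 4,
  .o9 4,
  .o9 4,
  .o9 4,
  .o9 5,
  .o9 0,
  .o9 0,
  .o9 4,
  .o9 0,
  .o9 0,
  .o9 4,
  .o9 0,
  .o9 0,
  .o9 5,
  .o9 0,
  .o9 0,
  .o9 4,
  .o9 0,
  .o9 0,
  .o9 4,
  .o9 0,
  .o9 0,
  .cj 3 [12,7],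
  .cj 5 [27,11,8,24],
  .cj 6 [9,29,17,32,8],
  .o9 4,
  .o9 4,
  .o9 4,
  .o9 4,
  .o9 4,
  .o9 4,
  .o9 4,
  .o9 0,
  .o9 0,
  .o9 4,
  .o9 0,
  .o9 0,
  .o9 4,
  .o9 0,
  .o9 0,
  .o9 4,
  .o9 0,
  .o9 0,
  .o9 4,
  .o9 0,
  .o9 0,
  .o9 4,
  .o9 0,
  .o9 0,
  .cj 3 [25,12],
  .cj 5 [36,27,11,26,6],
  .cj 6 [9,29,17,32,24,8],
  .o9 4,
  .o9 4,
  .o9 4,
  .o9 4,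
  .o9 4,
  .o9 4,
  .o9 4,
  .o9 0,
  .o9 0,
  .o9 4,
  .o9 0,
  .o9 0,
  .o9 4,
  .o9 0,
  .o9 0,
  .o9 4,
  .o9 0,
  .o9 0,
  .o9 4,
  .o9 0,
  .o9 0,
  .o9 4,
  .o9 0,
  .o9 0,
  .cj 4 [12,9],
  .o9 4,
  .o9 4,
  .o9 4,
  .o9 4,
  .cj 5 [13,11,17,1],
  .o9 4,
  .cj 6 [32,7,11,17,8],
  .o9 4,
  .o9 5,
  .o9 0,
  .o9 0,
  .o9 4,
  .o9 0,
  .o9 0,
  .o9 4,
  .o9 0,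
  .o9 0,
  .o9 5,
  .o9 0,
  .o9 0,
  .o9 4,
  .o9 0,
  .o9 0,
  .o9 4,
  .o9 0,
  .o9 0,
  .cj 4 [12,8,7],
  .o9 4,
  .o9 4,
  .o9 4,
  .o9 4,
  .cj 5 [13,7,11,17,1],
  .o9 4,
  .cj 6 [13,24,11,17,8],
  .o9 4,
  .o9 4,
  .o9 0,
  .o9 0,
  .o9 4,
  .o9 0,
  .o9 0,
  .o9 4,
  .o9 0,
  .o9 0,
  .o9 4,
  .o9 0,
  .o9 0,
  .o9 4,
  .o9 0,
  .o9 0,
  .o9 4,
  .o9 0,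
  .o9 0,
  .cj 4 [24,12,9],
  .o9 4,
  .o9 4,
  .o9 4,
  .o9 4,
  .cj 5 [13,24,11,17],
  .o9 4,
  .cj 6 [11,35,14,8,1],
  .o9 4,
  .o9 4,
  .o9 0,
  .o9 0,
  .o9 4,
  .o9 0,
  .o9 0,
  .o9 4,
  .o9 0,
  .o9 0,
  .o9 4,
  .o9 0,
  .o9 0,
  .o9 4,
  .o9 0,
  .o9 0,
  .o9 4,
  .o9 0,
  .o9 0,
  .cj 2 [27,12],
  .o9 4,
  .o9 4,
  .o9 4,
  .cj 3 [32,11,9,16,10],
  .o9 4,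
  .o9 4,
  .o9 4,
  .cj 4 [13,11,9,34,10],
  .o9 5,
  .o9 0,
  .o9 0,
  .o9 4,
  .o9 0,
  .o9 0,
  .o9 4,
  .o9 0,
  .o9 0,
  .o9 5,
  .o9 0,
  .o9 0,
  .o9 4,
  .o9 0,
  .o9 0,
  .o9 4,
  .o9 0,
  .o9 0,
  .cj 2 [27,12,7],
  .o9 4,
  .o9 4,
  .o9 4,
  .cj 3 [14,27,16,28,25],
  .o9 4,
  .o9 4,
  .o9 4,
  .cj 4 [13,7,11,9,34,10],
  .o9 4,
  .o9 0,
  .o9 0,
  .o9 4,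
  .o9 0,
  .o9 0,
  .o9 4,
  .o9 0,
  .o9 0,
  .o9 4,
  .o9 0,
  .o9 0,
  .o9 4,
  .o9 0,
  .o9 0,
  .o9 4,
  .o9 0,
  .o9 0,
  .cj 2 [27,25,12],
  .o9 4,
  .o9 4,
  .o9 4,
  .cj 3 [32,27,34,10,7],
  .o9 4,
  .o9 4,
  .o9 4,
  .cj 4 [14,27,16,6,10,7],
  .o9 4,
  .o9 0,
  .o9 0,
  .o9 4,
  .o9 0,
  .o9 0,
  .o9 4,
  .o9 0,
  .o9 0,
  .o9 4,
  .o9 0,
  .o9 0,
  .o9 4,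
  .o9 0,
  .o9 0,
  .o9 4,
  .o9 0,
  .o9 0,
  .cj 4 [36,29],
  .cj 5 [27,11,17,32],
  .cj 6 [9,29,35,14,6,8],
  .o9 4,
  .o9 4,
  .o9 4,
  .o9 4,
  .o9 4,
  .o9 4,
  .o9 5,
  .o9 0,
  .o9 0,
  .o9 4,
  .o9 0,
  .o9 0,
  .o9 4,
  .o9 0,
  .o9 0,
  .o9 5,
  .o9 0,
  .o9 0,
  .o9 4,
  .o9 0,
  .o9 0,
  .o9 4,
  .o9 0,
  .o9 0,
  .cj 4 [36,29,25],
  .cj 5 [27,11,17,32,24],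
  .cj 6 [9,29,35,24,14,8],
  .o9 4,
  .o9 4,
  .o9 4,
  .o9 4,
  .o9 4,
  .o9 4,
  .o9 4,
  .o9 0,
  .o9 0,
  .o9 4,
  .o9 0,
  .o9 0,
  .o9 4,
  .o9 0,
  .o9 0,
  .o9 4,
  .o9 0,
  .o9 0,
  .o9 4,
  .o9 0,
  .o9 0,
  .o9 4,
  .o9 0,
  .o9 0,
  .cj 4 [36,14,7],
  .cj 5 [27,11,17,32,6],
  .cj 6 [9,29,35,14,8],
  .o9 4,
  .o9 4,
  .o9 4,
  .o9 4,
  .o9 4,
  .o9 4,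
  .o9 4,
  .o9 0,
  .o9 0,
  .o9 4,
  .o9 0,
  .o9 0,
  .o9 4,
  .o9 0,
  .o9 0,
  .o9 4,
  .o9 0,
  .o9 0,
  .o9 4,
  .o9 0,
  .o9 0,
  .o9 4,
  .o9 0,
  .o9 0,
  .cj 2 [30,11,9],
  .o9 4,
  .o9 4,
  .o9 4,
  .cj 4 [32,27,34,6,10],
  .o9 4,
  .o9 4,
  .o9 4,
  .cj 3 [14,27,16,10],
  .o9 5,
  .o9 0,
  .o9 0,
  .o9 4,
  .o9 0,
  .o9 0,
  .o9 4,
  .o9 0,
  .o9 0,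
  .o9 5,
  .o9 0,
  .o9 0,
  .o9 4,
  .o9 0,
  .o9 0,
  .o9 4,
  .o9 0,
  .o9 0,
  .cj 2 [30,10,8,7],
  .o9 4,
  .o9 4,
  .o9 4,
  .cj 4 [14,27,25,16,13],
  .o9 4,
  .o9 4,
  .o9 4,
  .cj 3 [13,6,27,16,10],
  .o9 4,
  .o9 0,
  .o9 0,
  .o9 4,
  .o9 0,
  .o9 0,
  .o9 4,
  .o9 0,
  .o9 0,
  .o9 4,
  .o9 0,
  .o9 0,
  .o9 4,
  .o9 0,
  .o9 0,
  .o9 4,
  .o9 0,
  .o9 0,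
  .cj 2 [36,27,14,7],
  .o9 4,
  .o9 4,
  .o9 4,
  .cj 4 [32,27,34,31,7],
  .o9 4,
  .o9 4,
  .o9 4,
  .cj 3 [7,14,27,16,10],
  .o9 4,
  .o9 0,
  .o9 0,
  .o9 4,
  .o9 0,
  .o9 0,
  .o9 4,
  .o9 0,
  .o9 0,
  .o9 4,
  .o9 0,
  .o9 0,
  .o9 4,
  .o9 0,
  .o9 0,
  .o9 4,
  .o9 0,
  .o9 0,
  .cj 3 [29,27],
  .o9 4,
  .o9 4,
  .o9 4,
  .o9 4,
  .cj 5 [11,6,26,2,6],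
  .o9 4,
  .cj 6 [14,7,11,35,8],
  .o9 4,
  .o9 5,
  .o9 0,
  .o9 0,
  .o9 4,
  .o9 0,
  .o9 0,
  .o9 4,
  .o9 0,
  .o9 0,
  .o9 5,
  .o9 0,
  .o9 0,
  .o9 4,
  .o9 0,
  .o9 0,
  .o9 4,
  .o9 0,
  .o9 0,
  .cj 3 [29,26,7],
  .o9 4,
  .o9 4,
  .o9 4,
  .o9 4,
  .cj 5 [11,26,2,6],
  .o9 4,
  .cj 6 [11,17,32,8,1],
  .o9 4,
  .o9 4,
  .o9 0,
  .o9 0,
  .o9 4,
  .o9 0,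
  .o9 0,
  .o9 4,
  .o9 0,
  .o9 0,
  .o9 4,
  .o9 0,
  .o9 0,
  .o9 4,
  .o9 0,
  .o9 0,
  .o9 4,
  .o9 0,
  .o9 0,
  .cj 3 [29,8,25],
  .o9 4,
  .o9 4,
  .o9 4,
  .o9 4,
  .cj 5 [36,11,8,24,1],
  .o9 4,
  .cj 6 [31,11,35,24,8],
  .o9 4,
  .o9 4,
  .o9 0,
  .o9 0,
  .o9 4,
  .o9 0,
  .o9 0,
  .o9 4,
  .o9 0,
  .o9 0,
  .o9 4,
  .o9 0,
  .o9 0,
  .o9 4,
  .o9 0,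
  .o9 0,
  .o9 4,
  .o9 0,
  .o9 0]

theorem h28_len_7 : h28_certs_7.length = 729 := by decide +kernel

theorem h28_chk_7 : chkAll 5103 h28_certs_7 = true := by decide +kernel

end Cfsg.Agent.Lib.Helper28.O73C
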