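import Cfsg.Agent.Lib.Helper28.O73C.Comp

/-! Project O73C (S5514): certificates for the parameters 5832 to 6560 (generated, helper28). -/

set_option autoImplicit false
set_option maxRecDepth 100000

namespace Cfsg.Agent.Lib.Helper28.O73C

/-- certificates, chunk 8 -/
def h28_certs_8 : List Cert :=
  [.cj 0 [8,11,7],
  .cj 1 [23,26,6,1],
  .cj 2 [13,5,28,12,7],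
  .cj 1 [26,6,1],
  .cj 2 [31,23,28,13,12,7],
  .cj 0 [5,8,11,7],
  .cj 2 [17,9,28,12,7],
  .cj 0 [23,8,11,7],
  .cj 1 [5,26,6,1],
  .cj 6 [5,20,9,5],
  .cj 6 [20,1,5],
  .cj 6 [2,1,23],
  .cj 6 [5,20,1,5],
  .cj 6 [20,6,5],
  .cj 6 [2,23,9],
  .cj 6 [5,20,6,5],
  .cj 6 [20,9,5],
  .cj 6 [2,24,23],
  .cj 6 [36],
  .cj 6 [36,24,23],
  .cj 6 [36,6,5],
  .cj 6 [36,24],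
  .cj 6 [36,23,6],
  .cj 6 [36,5],
  .cj 6 [36,6],
  .cj 6 [36,23],
  .cj 6 [36,24,5],
  .cj 2 [9,28,12,7],
  .cj 0 [34,8,11,7],
  .cj 1 [35,5,26,6,1],
  .cj 0 [35,8,11,7],
  .cj 1 [34,26,6,1],
  .cj 2 [9,5,28,12,7],
  .cj 1 [35,26,6,1],
  .cj 2 [23,9,28,12,7],
  .cj 0 [29,26,17,7,6],
  .cj 6 [35,5,20,6,5],
  .cj 6 [20,13,5],
  .cj 6 [6,2,23,17],
  .cj 6 [5,20,13,5],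
  .cj 6 [35,20,1,5],
  .cj 6 [31,2,23,6],
  .cj 6 [35,5,20,1,5],
  .cj 6 [35,20,6,5],
  .cj 6 [2,23,17],
  .cj 6 [36,35,6],
  .cj 6 [36,35,23],
  .cj 6 [36,35,24,5],
  .cj 6 [36,35],
  .cj 6 [36,35,24,23],
  .cj 6 [36,35,6,5],
  .cj 6 [36,35,24],
  .cj 6 [36,35,23,6],
  .cj 6 [36,35,5],
  .cj 2 [10,25,8,12],
  .cj 0 [16,8,11,7],
  .cj 1 [5,26,17,6,1],
  .cj 0 [17,8,11,7],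
  .cj 1 [16,26,6,1],
  .cj 2 [5,10,25,8,12],
  .cj 1 [26,17,6,1],
  .cj 2 [23,10,25,8,12],
  .cj 0 [14,23,26,7,6],
  .cj 6 [17,5,20,6,5],
  .cj 6 [31,20,5],
  .cj 6 [19,13,2,23],
  .cj 6 [5,31,20,5],
  .cj 6 [17,20,1,5],
  .cj 6 [13,2,23,6],
  .cj 6 [17,5,20,1,5],
  .cj 6 [17,20,6,5],
  .cj 6 [2,35,23],
  .cj 6 [36,17,6],
  .cj 6 [36,23,17],
  .cj 6 [36,24,17,5],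
  .cj 6 [36,17],
  .cj 6 [36,24,23,17],
  .cj 6 [36,17,6,5],
  .cj 6 [36,24,17],
  .cj 6 [36,23,17,6],
  .cj 6 [36,17,5],
  .cj 3 [27,29,9],
  .o9 4,
  .o9 4,
  .cj 6 [17,32,26,24],
  .o9 4,
  .o9 4,
  .cj 5 [8,24,8,1],
  .o9 4,
  .o9 4,
  .cj 6 [26,14,5,20,9,5],
  .o9 4,
  .o9 4,
  .cj 5 [8,24,17],
  .o9 4,
  .o9 4,
  .cj 3 [17,28,12,8,7],
  .o9 4,
  .o9 4,
  .cj 6 [36,32,8],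
  .o9 4,
  .o9 4,
  .cj 5 [36,35,26,6,1],
  .o9 4,
  .o9 4,
  .cj 3 [35,29,24,9],
  .o9 4,
  .o9 4,
  .cj 3 [13,29,8,7],
  .o9 4,
  .o9 4,
  .cj 6 [17,32,6,26,24],
  .o9 4,
  .o9 4,
  .cj 5 [8,24,1],
  .o9 4,
  .o9 4,
  .cj 3 [17,10,24,12,9],
  .o9 4,
  .o9 4,
  .cj 6 [36,35,32,9,8],
  .o9 4,
  .o9 4,
  .cj 5 [36,26,17,6],
  .o9 4,
  .o9 4,
  .cj 5 [35,8,24,13,8],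
  .o9 4,
  .o9 4,
  .cj 3 [35,29,9],
  .o9 4,
  .o9 4,
  .cj 6 [32,26,24,1],
  .o9 4,
  .o9 4,
  .cj 3 [36,11,26,7],
  .o9 4,
  .o9 4,
  .cj 6 [36,17,32,8,1],
  .o9 4,
  .o9 4,
  .cj 5 [6,8,24,1],
  .o9 4,
  .o9 4,
  .cj 5 [8,24,17,8],
  .o9 4,
  .o9 4,
  .cj 3 [17,29,12,9],
  .o9 4,
  .o9 4,
  .cj 6 [35,32,26,24,9],
  .o9 4,
  .o9 4,
  .cj 3 [35,29,8,7],
  .o9 4,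
  .o9 4,
  .cj 6 [36,32,24,8],
  .o9 4,
  .o9 4,
  .cj 5 [35,8,24,13],
  .o9 4,
  .o9 4,
  .cj 4 [11,27],
  .o9 4,
  .o9 4,
  .cj 6 [35,26,24,14],
  .o9 4,
  .o9 4,
  .cj 5 [17,32,1],
  .o9 4,
  .o9 4,
  .cj 6 [32,26,5,20,9,5],
  .o9 4,
  .o9 4,
  .cj 5 [32,6],
  .o9 4,
  .o9 4,
  .cj 4 [35,10,27,25,11],
  .o9 4,
  .o9 4,
  .cj 6 [36,14,8],
  .o9 4,
  .o9 4,
  .cj 5 [36,24,14,1],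
  .o9 4,
  .o9 4,
  .cj 4 [17,11,27,14,7],
  .o9 4,
  .o9 4,
  .cj 4 [11,26,7],
  .o9 4,
  .o9 4,
  .cj 6 [36,35,14,8,1],
  .o9 4,
  .o9 4,
  .cj 5 [17,32,24,1],
  .o9 4,
  .o9 4,
  .cj 5 [32],
  .o9 4,
  .o9 4,
  .cj 4 [35,11,27,11],
  .o9 4,
  .o9 4,
  .cj 6 [26,24,17,14,9],
  .o9 4,
  .o9 4,
  .cj 4 [36,17,29,8,7],
  .o9 4,
  .o9 4,
  .cj 6 [36,24,14,8],
  .o9 4,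
  .o9 4,
  .cj 5 [36,14,6,1],
  .o9 4,
  .o9 4,
  .cj 4 [11,8,25],
  .o9 4,
  .o9 4,
  .cj 6 [35,6,26,24,14],
  .o9 4,
  .o9 4,
  .cj 5 [17,32,6,1],
  .o9 4,
  .o9 4,
  .cj 4 [35,11,27,11,7],
  .o9 4,
  .o9 4,
  .cj 6 [36,17,14,9,8],
  .o9 4,
  .o9 4,
  .cj 5 [32,24],
  .o9 4,
  .o9 4,
  .cj 5 [36,14,1],
  .o9 4,
  .o9 4,
  .cj 4 [36,17,29,9],
  .o9 4,
  .o9 4,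
  .cj 6 [26,24,14,1],
  .o9 4,
  .o9 4,
  .cj 4 [11],
  .cj 6 [27,32,7,11,17,8],
  .cj 5 [9,29,17,32],
  .o9 4,
  .o9 4,
  .o9 4,
  .o9 4,
  .o9 4,
  .o9 4,
  .o9 5,
  .o9 0,
  .o9 0,
  .o9 4,
  .o9 0,
  .o9 0,
  .o9 4,
  .o9 0,
  .o9 0,
  .o9 5,
  .o9 0,
  .o9 0,
  .o9 4,
  .o9 0,
  .o9 0,
  .o9 4,
  .o9 0,
  .o9 0,
  .cj 4 [11,7],
  .cj 6 [27,13,24,11,17,8],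
  .cj 5 [9,29,17,32,24],
  .o9 4,
  .o9 4,
  .o9 4,
  .o9 4,
  .o9 4,
  .o9 4,
  .o9 4,
  .o9 0,
  .o9 0,
  .o9 4,
  .o9 0,
  .o9 0,
  .o9 4,
  .o9 0,
  .o9 0,
  .o9 4,
  .o9 0,
  .o9 0,
  .o9 4,
  .o9 0,
  .o9 0,
  .o9 4,
  .o9 0,
  .o9 0,
  .cj 4 [25,11],
  .cj 6 [27,11,35,14,8,1],
  .cj 5 [9,29,17,32,6],
  .o9 4,
  .o9 4,
  .o9 4,
  .o9 4,
  .o9 4,
  .o9 4,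
  .o9 4,
  .o9 0,
  .o9 0,
  .o9 4,
  .o9 0,
  .o9 0,
  .o9 4,
  .o9 0,
  .o9 0,
  .o9 4,
  .o9 0,
  .o9 0,
  .o9 4,
  .o9 0,
  .o9 0,
  .o9 4,
  .o9 0,
  .o9 0,
  .cj 2 [12,9],
  .o9 4,
  .o9 4,
  .o9 4,
  .o9 4,
  .cj 4 [32,29,27,34,10],
  .o9 4,
  .cj 3 [36,32,9,16,10],
  .o9 4,
  .o9 5,
  .o9 0,
  .o9 0,
  .o9 4,
  .o9 0,
  .o9 0,
  .o9 4,
  .o9 0,
  .o9 0,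
  .o9 5,
  .o9 0,
  .o9 0,
  .o9 4,
  .o9 0,
  .o9 0,
  .o9 4,
  .o9 0,
  .o9 0,
  .cj 2 [12,8,7],
  .o9 4,
  .o9 4,
  .o9 4,
  .o9 4,
  .cj 4 [14,9,34,28,25],
  .o9 4,
  .cj 3 [36,32,6,9,16,10],
  .o9 4,
  .o9 4,
  .o9 0,
  .o9 0,
  .o9 4,
  .o9 0,
  .o9 0,
  .o9 4,
  .o9 0,
  .o9 0,
  .o9 4,
  .o9 0,
  .o9 0,
  .o9 4,
  .o9 0,
  .o9 0,
  .o9 4,
  .o9 0,
  .o9 0,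
  .cj 2 [24,12,9],
  .o9 4,
  .o9 4,
  .o9 4,
  .o9 4,
  .cj 4 [32,9,16,10,7],
  .o9 4,
  .cj 3 [31,9,34,6,10,7],
  .o9 4,
  .o9 4,
  .o9 0,
  .o9 0,
  .o9 4,
  .o9 0,
  .o9 0,
  .o9 4,
  .o9 0,
  .o9 0,
  .o9 4,
  .o9 0,
  .o9 0,
  .o9 4,
  .o9 0,
  .o9 0,
  .o9 4,
  .o9 0,
  .o9 0,
  .cj 3 [27,12],
  .o9 4,
  .o9 4,
  .o9 4,
  .cj 5 [29,6,26,6,1],
  .o9 4,
  .o9 4,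
  .o9 4,
  .cj 6 [29,17,32,6,8],
  .o9 5,
  .o9 0,
  .o9 0,
  .o9 4,
  .o9 0,
  .o9 0,
  .o9 4,
  .o9 0,
  .o9 0,
  .o9 5,
  .o9 0,
  .o9 0,
  .o9 4,
  .o9 0,
  .o9 0,
  .o9 4,
  .o9 0,
  .o9 0,
  .cj 3 [27,12,7],
  .o9 4,
  .o9 4,
  .o9 4,
  .cj 5 [29,26,6,1],
  .o9 4,
  .o9 4,
  .o9 4,
  .cj 6 [29,17,32,8],
  .o9 4,
  .o9 0,
  .o9 0,
  .o9 4,
  .o9 0,
  .o9 0,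
  .o9 4,
  .o9 0,
  .o9 0,
  .o9 4,
  .o9 0,
  .o9 0,
  .o9 4,
  .o9 0,
  .o9 0,
  .o9 4,
  .o9 0,
  .o9 0,
  .cj 3 [27,25,12],
  .o9 4,
  .o9 4,
  .o9 4,
  .cj 5 [29,24,26,6,1],
  .o9 4,
  .o9 4,
  .o9 4,
  .cj 6 [29,17,32,24,8],
  .o9 4,
  .o9 0,
  .o9 0,
  .o9 4,
  .o9 0,
  .o9 0,
  .o9 4,
  .o9 0,
  .o9 0,
  .o9 4,
  .o9 0,
  .o9 0,
  .o9 4,
  .o9 0,
  .o9 0,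
  .o9 4,
  .o9 0,
  .o9 0,
  .cj 3 [36,11],
  .cj 6 [27,14,7,11,35,8],
  .cj 5 [9,29,8,24,8],
  .o9 4,
  .o9 4,
  .o9 4,
  .o9 4,
  .o9 4,
  .o9 4,
  .o9 5,
  .o9 0,
  .o9 0,
  .o9 4,
  .o9 0,
  .o9 0,
  .o9 4,
  .o9 0,
  .o9 0,
  .o9 5,
  .o9 0,
  .o9 0,
  .o9 4,
  .o9 0,
  .o9 0,
  .o9 4,
  .o9 0,
  .o9 0,
  .cj 3 [36,25,11],
  .cj 6 [27,11,17,32,8,1],
  .cj 5 [9,29,8,24],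
  .o9 4,
  .o9 4,
  .o9 4,
  .o9 4,
  .o9 4,
  .o9 4,
  .o9 4,
  .o9 0,
  .o9 0,
  .o9 4,
  .o9 0,
  .o9 0,
  .o9 4,
  .o9 0,
  .o9 0,
  .o9 4,
  .o9 0,
  .o9 0,
  .o9 4,
  .o9 0,
  .o9 0,
  .o9 4,
  .o9 0,
  .o9 0,
  .cj 3 [36,11,7],
  .cj 6 [31,27,11,35,24,8],
  .cj 5 [36,9,29,26,6],
  .o9 4,
  .o9 4,
  .o9 4,
  .o9 4,
  .o9 4,
  .o9 4,
  .o9 4,
  .o9 0,
  .o9 0,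
  .o9 4,
  .o9 0,
  .o9 0,
  .o9 4,
  .o9 0,
  .o9 0,
  .o9 4,
  .o9 0,
  .o9 0,
  .o9 4,
  .o9 0,
  .o9 0,
  .o9 4,
  .o9 0,
  .o9 0,
  .cj 4 [11,9],
  .o9 4,
  .o9 4,
  .o9 4,
  .cj 5 [29,35,14,1],
  .o9 4,
  .o9 4,
  .o9 4,
  .cj 6 [29,35,14,6,8],
  .o9 5,
  .o9 0,
  .o9 0,
  .o9 4,
  .o9 0,
  .o9 0,
  .o9 4,
  .o9 0,
  .o9 0,
  .o9 5,
  .o9 0,
  .o9 0,
  .o9 4,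
  .o9 0,
  .o9 0,
  .o9 4,
  .o9 0,
  .o9 0,
  .cj 4 [11,8,7],
  .o9 4,
  .o9 4,
  .o9 4,
  .cj 5 [29,35,14,6,1],
  .o9 4,
  .o9 4,
  .o9 4,
  .cj 6 [29,35,24,14,8],
  .o9 4,
  .o9 0,
  .o9 0,
  .o9 4,
  .o9 0,
  .o9 0,
  .o9 4,
  .o9 0,
  .o9 0,
  .o9 4,
  .o9 0,
  .o9 0,
  .o9 4,
  .o9 0,
  .o9 0,
  .o9 4,
  .o9 0,
  .o9 0,
  .cj 4 [7,11,9],
  .o9 4,
  .o9 4,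
  .o9 4,
  .cj 5 [31,29,24,17],
  .o9 4,
  .o9 4,
  .o9 4,
  .cj 6 [29,35,14,8],
  .o9 4,
  .o9 0,
  .o9 0,
  .o9 4,
  .o9 0,
  .o9 0,
  .o9 4,
  .o9 0,
  .o9 0,
  .o9 4,
  .o9 0,
  .o9 0,
  .o9 4,
  .o9 0,
  .o9 0,
  .o9 4,
  .o9 0,
  .o9 0,
  .cj 2 [15,12,9],
  .o9 4,
  .o9 4,
  .o9 4,
  .o9 4,
  .cj 3 [13,9,16,6,10],
  .o9 4,
  .cj 4 [14,9,34,10],
  .o9 4,
  .o9 5,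
  .o9 0,
  .o9 0,
  .o9 4,
  .o9 0,
  .o9 0,
  .o9 4,
  .o9 0,
  .o9 0,
  .o9 5,
  .o9 0,
  .o9 0,
  .o9 4,
  .o9 0,
  .o9 0,
  .o9 4,
  .o9 0,
  .o9 0,
  .cj 2 [30,9,10,7],
  .o9 4,
  .o9 4,
  .o9 4,
  .o9 4,
  .cj 3 [14,9,34,31,25],
  .o9 4,
  .cj 4 [24,14,9,34,10],
  .o9 4,
  .o9 4,
  .o9 0,
  .o9 0,
  .o9 4,
  .o9 0,
  .o9 0,
  .o9 4,
  .o9 0,
  .o9 0,
  .o9 4,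
  .o9 0,
  .o9 0,
  .o9 4,
  .o9 0,
  .o9 0,
  .o9 4,
  .o9 0,
  .o9 0,
  .cj 2 [36,30,8,7],
  .o9 4,
  .o9 4,
  .o9 4,
  .o9 4,
  .cj 3 [32,9,16,13,7],
  .o9 4,
  .cj 4 [14,6,9,34,10],
  .o9 4,
  .o9 4,
  .o9 0,
  .o9 0,
  .o9 4,
  .o9 0,
  .o9 0,
  .o9 4,
  .o9 0,
  .o9 0,
  .o9 4,
  .o9 0,
  .o9 0,
  .o9 4,
  .o9 0,
  .o9 0,
  .o9 4,
  .o9 0,
  .o9 0]

theorem h28_len_8 : h28_certs_8.length = 729 := by decide +kernel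

theorem h28_chk_8 : chkAll 5832 h28_certs_8 = true := by decide +kernel

end Cfsg.Agent.Lib.Helper28.O73C
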