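import Cfsg.Agent.Lib.Helper28.O73C.Comp

/-! Project O73C (S5514): certificates for the parameters 6561 to 7289 (generated, helper28). -/

set_option autoImplicit false
set_option maxRecDepth 100000

namespace Cfsg.Agent.Lib.Helper28.O73C

/-- certificates, chunk 9 -/
def h28_certs_9 : List Cert :=
  [.cj 0 [],
  .cj 6 [27,11,8,24,8],
  .cj 6 [36,17,14,2,5],
  .cj 6 [36,14,17,14],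
  .cj 6 [9,11,8,24,8],
  .cj 6 [36,14,17,14,5],
  .cj 6 [8,24,8],
  .cj 6 [11,8,24,8],
  .cj 6 [29,8,24,8],
  .cj 2 [35,29,14,9],
  .o9 4,
  .o9 4,
  .cj 6 [6,26,5,20,5],
  .o9 4,
  .o9 4,
  .cj 6 [24,8],
  .o9 4,
  .o9 4,
  .cj 1 [36],
  .o9 4,
  .o9 4,
  .cj 6 [36,26,14,17,14],
  .o9 4,
  .o9 4,
  .cj 6 [24,8,6],
  .o9 4,
  .o9 4,
  .cj 3 [7,28,7],
  .cj 6 [36,17,31,14,23,6],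
  .cj 6 [36,17,13,14,6,5],
  .cj 6 [36,35,32,6],
  .cj 6 [36,35,32,23,6],
  .cj 6 [36,35,32,6,5],
  .cj 6 [32,6,8,24],
  .cj 6 [32,11,6,8,24],
  .cj 6 [36,31,29,26,6],
  .cj 5 [],
  .o9 4,
  .o9 4,
  .cj 3 [17,28,26,7],
  .o9 4,
  .o9 4,
  .cj 3 [35,28,13,8,7],
  .o9 4,
  .o9 4,
  .cj 6 [17,32,24,26,9],
  .o9 4,
  .o9 4,
  .cj 5 [26,17,13],
  .o9 4,
  .o9 4,
  .cj 5 [35,8,1],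
  .o9 4,
  .o9 4,
  .cj 4 [10,25,10],
  .cj 6 [36,9,29,17,14,6],
  .cj 6 [36,27,17,14,6,5],
  .cj 6 [36,17,14,6],
  .cj 6 [36,29,17,14,6],
  .cj 6 [36,17,14,6,5],
  .cj 6 [6,8,24,14],
  .cj 6 [11,6,8,24,14],
  .cj 6 [36,13,29,26,6],
  .cj 5 [17,32,6,26,6],
  .o9 4,
  .o9 4,
  .cj 4 [36,35,28,26,7],
  .o9 4,
  .o9 4,
  .cj 4 [17,10,8,25],
  .o9 4,
  .o9 4,
  .cj 6 [35,24,26,14,9],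
  .o9 4,
  .o9 4,
  .cj 5 [36,32,24,8,1],
  .o9 4,
  .o9 4,
  .cj 5 [24,14,8,6,1],
  .o9 4,
  .o9 4,
  .cj 2 [29,14,9],
  .o9 4,
  .o9 4,
  .cj 6 [36,32,35,8],
  .o9 4,
  .o9 4,
  .cj 6 [24,17,8],
  .o9 4,
  .o9 4,
  .cj 1 [14],
  .o9 4,
  .o9 4,
  .cj 6 [36,32,35,26],
  .o9 4,
  .o9 4,
  .cj 6 [24,17,8,6],
  .o9 4,
  .o9 4,
  .cj 0 [17],
  .cj 6 [36,32,2,23,1],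
  .cj 6 [36,32,5,1],
  .cj 6 [36,32,35],
  .cj 6 [36,13,32,23,9],
  .cj 6 [36,9,32,5,1],
  .cj 6 [8,24,17,8],
  .cj 6 [36,32,31,23],
  .cj 6 [36,27,32,5,1],
  .cj 3 [7,28,8,7],
  .o9 4,
  .o9 4,
  .cj 5 [17,13],
  .o9 4,
  .o9 4,
  .cj 3 [35,28,26,13,7],
  .o9 4,
  .o9 4,
  .cj 5 [8],
  .o9 4,
  .o9 4,
  .cj 6 [35,32,24,26,1],
  .o9 4,
  .o9 4,
  .cj 5 [35,26,1],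
  .o9 4,
  .o9 4,
  .cj 6 [36,17,32,26,2,6],
  .cj 6 [36,32,35,23],
  .cj 6 [36,31,32,1,5,1],
  .cj 3 [17,28,7],
  .cj 6 [17,11,8,24,8],
  .cj 6 [36,32,13,1,5],
  .cj 6 [36,32,6,1],
  .cj 6 [36,32,20,23],
  .cj 6 [36,32,20,24,5],
  .cj 4 [10,25,10,9],
  .o9 4,
  .o9 4,
  .cj 4 [36,35,28,8,7],
  .o9 4,
  .o9 4,
  .cj 5 [8,24,14,8,1],
  .o9 4,
  .o9 4,
  .cj 5 [35,24,14,8],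
  .o9 4,
  .o9 4,
  .cj 5 [32,6,26,13],
  .o9 4,
  .o9 4,
  .cj 6 [24,26,14],
  .o9 4,
  .o9 4,
  .cj 6 [36,35,14,2,6],
  .cj 6 [2,17,11,8,24],
  .cj 6 [36,13,32,5,1],
  .cj 6 [36,26,17,14,6],
  .cj 6 [36,32,24,23,1],
  .cj 6 [36,32,2,5],
  .cj 4 [17,10,25],
  .cj 6 [36,6,27,32,23],
  .cj 6 [36,32,35,5],
  .cj 2 [32,11,27],
  .o9 4,
  .o9 4,
  .cj 6 [36,14,17,8],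
  .o9 4,
  .o9 4,
  .cj 6 [35,24,8],
  .o9 4,
  .o9 4,
  .cj 1 [32],
  .o9 4,
  .o9 4,
  .cj 6 [36,26,14,17],
  .o9 4,
  .o9 4,
  .cj 6 [35,24,8,6],
  .o9 4,
  .o9 4,
  .cj 0 [35],
  .cj 6 [36,14,2,23,1],
  .cj 6 [36,14,5,1],
  .cj 6 [36,14,17],
  .cj 6 [36,31,14,23,9],
  .cj 6 [36,9,14,5,1],
  .cj 6 [35,8,24,8],
  .cj 6 [36,14,13,23],
  .cj 6 [36,27,14,5,1],
  .cj 3 [7,28,26,7],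
  .o9 4,
  .o9 4,
  .cj 3 [17,28,8,7],
  .o9 4,
  .o9 4,
  .cj 5 [35,1],
  .o9 4,
  .o9 4,
  .cj 5 [26],
  .o9 4,
  .o9 4,
  .cj 5 [17,13,8],
  .o9 4,
  .o9 4,
  .cj 6 [32,24,26],
  .o9 4,
  .o9 4,
  .cj 6 [36,17,32,2,6],
  .cj 6 [2,35,11,8,24],
  .cj 6 [36,31,14,5,1],
  .cj 6 [36,35,32,26,6],
  .cj 6 [36,24,14,23,1],
  .cj 6 [36,14,2,5],
  .cj 3 [35,28,13,7],
  .cj 6 [36,6,27,14,23],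
  .cj 6 [36,14,17,5],
  .cj 4 [10,8,25,10],
  .o9 4,
  .o9 4,
  .cj 5 [32,6,26,2,6],
  .o9 4,
  .o9 4,
  .cj 4 [17,10,24,9],
  .o9 4,
  .o9 4,
  .cj 5 [17,32,6,26],
  .o9 4,
  .o9 4,
  .cj 6 [24,26,17,14,1],
  .o9 4,
  .o9 4,
  .cj 5 [24,14,8,1],
  .o9 4,
  .o9 4,
  .cj 6 [36,35,26,14,2,6],
  .cj 6 [36,14,23,17],
  .cj 6 [36,13,14,1,5,1],
  .cj 4 [36,35,28,7],
  .cj 6 [35,11,8,24,8],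
  .cj 6 [36,14,31,1,5],
  .cj 6 [36,14,6,1],
  .cj 6 [36,20,14,23],
  .cj 6 [36,20,24,14,5],
  .cj 2 [31],
  .cj 6 [27,24,11,17,8],
  .cj 6 [9,29,35,24,8],
  .o9 4,
  .o9 4,
  .o9 4,
  .o9 4,
  .o9 4,
  .o9 4,
  .o9 5,
  .o9 0,
  .o9 0,
  .o9 4,
  .o9 0,
  .o9 0,
  .o9 4,
  .o9 0,
  .o9 0,
  .o9 5,
  .o9 0,
  .o9 0,
  .o9 4,
  .o9 0,
  .o9 0,
  .o9 4,
  .o9 0,
  .o9 0,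
  .cj 3 [31,7],
  .cj 3 [16,31,6,10,7],
  .cj 5 [9,29,35,1],
  .o9 4,
  .o9 4,
  .o9 4,
  .o9 4,
  .o9 4,
  .o9 4,
  .o9 4,
  .o9 0,
  .o9 0,
  .o9 4,
  .o9 0,
  .o9 0,
  .o9 4,
  .o9 0,
  .o9 0,
  .o9 4,
  .o9 0,
  .o9 0,
  .o9 4,
  .o9 0,
  .o9 0,
  .o9 4,
  .o9 0,
  .o9 0,
  .cj 4 [25,10],
  .cj 5 [9,6,31,29,26,6],
  .cj 4 [25,16,6,10,7],
  .o9 4,
  .o9 4,
  .o9 4,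
  .o9 4,
  .o9 4,
  .o9 4,
  .o9 4,
  .o9 0,
  .o9 0,
  .o9 4,
  .o9 0,
  .o9 0,
  .o9 4,
  .o9 0,
  .o9 0,
  .o9 4,
  .o9 0,
  .o9 0,
  .o9 4,
  .o9 0,
  .o9 0,
  .o9 4,
  .o9 0,
  .o9 0,
  .cj 2 [14,9],
  .o9 4,
  .o9 4,
  .o9 4,
  .o9 4,
  .cj 6 [27,29,35,24,8],
  .o9 4,
  .cj 6 [24,11,17,8],
  .o9 4,
  .o9 5,
  .o9 0,
  .o9 0,
  .o9 4,
  .o9 0,
  .o9 0,
  .o9 4,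
  .o9 0,
  .o9 0,
  .o9 5,
  .o9 0,
  .o9 0,
  .o9 4,
  .o9 0,
  .o9 0,
  .o9 4,
  .o9 0,
  .o9 0,
  .cj 3 [31,8,7],
  .o9 4,
  .o9 4,
  .o9 4,
  .o9 4,
  .cj 5 [11,17,13],
  .o9 4,
  .cj 3 [36,24,9,16,10],
  .o9 4,
  .o9 4,
  .o9 0,
  .o9 0,
  .o9 4,
  .o9 0,
  .o9 0,
  .o9 4,
  .o9 0,
  .o9 0,
  .o9 4,
  .o9 0,
  .o9 0,
  .o9 4,
  .o9 0,
  .o9 0,
  .o9 4,
  .o9 0,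
  .o9 0,
  .cj 4 [25,10,9],
  .o9 4,
  .o9 4,
  .o9 4,
  .o9 4,
  .cj 4 [7,29,27,34,10],
  .o9 4,
  .cj 5 [31,11,8,24,8],
  .o9 4,
  .o9 4,
  .o9 0,
  .o9 0,
  .o9 4,
  .o9 0,
  .o9 0,
  .o9 4,
  .o9 0,
  .o9 0,
  .o9 4,
  .o9 0,
  .o9 0,
  .o9 4,
  .o9 0,
  .o9 0,
  .o9 4,
  .o9 0,
  .o9 0,
  .cj 2 [31,27],
  .o9 4,
  .o9 4,
  .o9 4,
  .cj 6 [9,24,11,17,8],
  .o9 4,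
  .o9 4,
  .o9 4,
  .cj 6 [29,35,24,8],
  .o9 5,
  .o9 0,
  .o9 0,
  .o9 4,
  .o9 0,
  .o9 0,
  .o9 4,
  .o9 0,
  .o9 0,
  .o9 5,
  .o9 0,
  .o9 0,
  .o9 4,
  .o9 0,
  .o9 0,
  .o9 4,
  .o9 0,
  .o9 0,
  .cj 3 [31,26,7],
  .o9 4,
  .o9 4,
  .o9 4,
  .cj 3 [29,17,28,8,7],
  .o9 4,
  .o9 4,
  .o9 4,
  .cj 5 [29,35,1],
  .o9 4,
  .o9 0,
  .o9 0,
  .o9 4,
  .o9 0,
  .o9 0,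
  .o9 4,
  .o9 0,
  .o9 0,
  .o9 4,
  .o9 0,
  .o9 0,
  .o9 4,
  .o9 0,
  .o9 0,
  .o9 4,
  .o9 0,
  .o9 0,
  .cj 4 [8,25,10],
  .o9 4,
  .o9 4,
  .o9 4,
  .cj 5 [6,31,29,26,6],
  .o9 4,
  .o9 4,
  .o9 4,
  .cj 4 [6,27,16,10,7],
  .o9 4,
  .o9 0,
  .o9 0,
  .o9 4,
  .o9 0,
  .o9 0,
  .o9 4,
  .o9 0,
  .o9 0,
  .o9 4,
  .o9 0,
  .o9 0,
  .o9 4,
  .o9 0,
  .o9 0,
  .o9 4,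
  .o9 0,
  .o9 0,
  .cj 2 [36,13],
  .cj 6 [27,11,35,24,8],
  .cj 6 [9,29,24,17,8],
  .o9 4,
  .o9 4,
  .o9 4,
  .o9 4,
  .o9 4,
  .o9 4,
  .o9 5,
  .o9 0,
  .o9 0,
  .o9 4,
  .o9 0,
  .o9 0,
  .o9 4,
  .o9 0,
  .o9 0,
  .o9 5,
  .o9 0,
  .o9 0,
  .o9 4,
  .o9 0,
  .o9 0,
  .o9 4,
  .o9 0,
  .o9 0,
  .cj 3 [31,10,7],
  .cj 5 [27,11,35,1],
  .cj 3 [34,31,11,7],
  .o9 4,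
  .o9 4,
  .o9 4,
  .o9 4,
  .o9 4,
  .o9 4,
  .o9 4,
  .o9 0,
  .o9 0,
  .o9 4,
  .o9 0,
  .o9 0,
  .o9 4,
  .o9 0,
  .o9 0,
  .o9 4,
  .o9 0,
  .o9 0,
  .o9 4,
  .o9 0,
  .o9 0,
  .o9 4,
  .o9 0,
  .o9 0,
  .cj 4 [25,10,7],
  .cj 4 [34,25,11,10],
  .cj 5 [27,13,11,6,26,6],
  .o9 4,
  .o9 4,
  .o9 4,
  .o9 4,
  .o9 4,
  .o9 4,
  .o9 4,
  .o9 0,
  .o9 0,
  .o9 4,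
  .o9 0,
  .o9 0,
  .o9 4,
  .o9 0,
  .o9 0,
  .o9 4,
  .o9 0,
  .o9 0,
  .o9 4,
  .o9 0,
  .o9 0,
  .o9 4,
  .o9 0,
  .o9 0,
  .cj 2 [13,11,9],
  .o9 4,
  .o9 4,
  .o9 4,
  .cj 6 [9,11,35,24,8],
  .o9 4,
  .o9 4,
  .o9 4,
  .cj 6 [29,24,17,8],
  .o9 5,
  .o9 0,
  .o9 0,
  .o9 4,
  .o9 0,
  .o9 0,
  .o9 4,
  .o9 0,
  .o9 0,
  .o9 5,
  .o9 0,
  .o9 0,
  .o9 4,
  .o9 0,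
  .o9 0,
  .o9 4,
  .o9 0,
  .o9 0,
  .cj 3 [31,10,8,7],
  .o9 4,
  .o9 4,
  .o9 4,
  .cj 5 [29,17,13],
  .o9 4,
  .o9 4,
  .o9 4,
  .cj 3 [27,34,31,11,7],
  .o9 4,
  .o9 0,
  .o9 0,
  .o9 4,
  .o9 0,
  .o9 0,
  .o9 4,
  .o9 0,
  .o9 0,
  .o9 4,
  .o9 0,
  .o9 0,
  .o9 4,
  .o9 0,
  .o9 0,
  .o9 4,
  .o9 0,
  .o9 0,
  .cj 4 [25,10,8,7],
  .o9 4,
  .o9 4,
  .o9 4,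
  .cj 4 [24,27,34,31,7],
  .o9 4,
  .o9 4,
  .o9 4,
  .cj 5 [7,29,8,24,14],
  .o9 4,
  .o9 0,
  .o9 0,
  .o9 4,
  .o9 0,
  .o9 0,
  .o9 4,
  .o9 0,
  .o9 0,
  .o9 4,
  .o9 0,
  .o9 0,
  .o9 4,
  .o9 0,
  .o9 0,
  .o9 4,
  .o9 0,
  .o9 0,
  .cj 2 [36,13,9],
  .o9 4,
  .o9 4,
  .o9 4,
  .o9 4,
  .cj 6 [36,14,11,17,8],
  .o9 4,
  .cj 6 [11,35,24,8],
  .o9 4,
  .o9 5,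
  .o9 0,
  .o9 0,
  .o9 4,
  .o9 0,
  .o9 0,
  .o9 4,
  .o9 0,
  .o9 0,
  .o9 5,
  .o9 0,
  .o9 0,
  .o9 4,
  .o9 0,
  .o9 0,
  .o9 4,
  .o9 0,
  .o9 0,
  .cj 3 [31,9,10,7],
  .o9 4,
  .o9 4,
  .o9 4,
  .o9 4,
  .cj 3 [6,9,34,28],
  .o9 4,
  .cj 5 [11,35,1],
  .o9 4,
  .o9 4,
  .o9 0,
  .o9 0,
  .o9 4,
  .o9 0,
  .o9 0,
  .o9 4,
  .o9 0,
  .o9 0,
  .o9 4,
  .o9 0,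
  .o9 0,
  .o9 4,
  .o9 0,
  .o9 0,
  .o9 4,
  .o9 0,
  .o9 0,
  .cj 4 [36,13,8,7],
  .o9 4,
  .o9 4,
  .o9 4,
  .o9 4,
  .cj 5 [13,11,6,26,6],
  .o9 4,
  .cj 4 [24,9,34,10],
  .o9 4,
  .o9 4,
  .o9 0,
  .o9 0,
  .o9 4,
  .o9 0,
  .o9 0,
  .o9 4,
  .o9 0,
  .o9 0,
  .o9 4,
  .o9 0,
  .o9 0,
  .o9 4,
  .o9 0,
  .o9 0,
  .o9 4,
  .o9 0,
  .o9 0]

theorem h28_len_9 : h28_certs_9.length = 729 := by decide +kernel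

theorem h28_chk_9 : chkAll 6561 h28_certs_9 = true := by decide +kernel

end Cfsg.Agent.Lib.Helper28.O73C
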