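import Cfsg.Agent.Lib.Helper28.O73C.Comp

/-! Project O73C (S5514): certificates for the parameters 7290 to 8018 (generated, helper28). -/

set_option autoImplicit false
set_option maxRecDepth 100000

namespace Cfsg.Agent.Lib.Helper28.O73C

/-- certificates, chunk 10 -/
def h28_certs_10 : List Cert :=
  [.cj 0 [25],
  .cj 6 [27,7,11,8,24,1],
  .cj 6 [9,29,8,24,9],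
  .cj 6 [36,14,17,14,1],
  .cj 6 [24,9,11,8,24],
  .cj 6 [27,29,8,24,9],
  .cj 6 [8,24,9,8],
  .cj 6 [7,11,8,24,1],
  .cj 6 [29,8,24,9],
  .cj 2 [35,25,29,14,9],
  .o9 4,
  .o9 4,
  .cj 6 [6,26,5,20,5,1],
  .o9 4,
  .o9 4,
  .cj 6 [24,9,8],
  .o9 4,
  .o9 4,
  .cj 1 [36,1],
  .o9 4,
  .o9 4,
  .cj 6 [36,26,14,17,14,1],
  .o9 4,
  .o9 4,
  .cj 6 [24,8,2,6],
  .o9 4,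
  .o9 4,
  .cj 3 [28,7],
  .cj 6 [27,13,11,8,24,1],
  .cj 6 [36,17,13,14,5,1],
  .cj 6 [36,35,32,6,1],
  .cj 6 [14,9,11,8,24],
  .cj 6 [36,35,32,5,1],
  .cj 6 [36,32,26,2,6],
  .cj 6 [13,11,8,24,1],
  .cj 6 [31,29,8,24,8],
  .cj 5 [13],
  .o9 4,
  .o9 4,
  .cj 3 [17,28,26,13,7],
  .o9 4,
  .o9 4,
  .cj 3 [35,7,28,8,7],
  .o9 4,
  .o9 4,
  .cj 6 [17,32,24,26,1],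
  .o9 4,
  .o9 4,
  .cj 5 [26,17,1],
  .o9 4,
  .o9 4,
  .cj 5 [35,8],
  .o9 4,
  .o9 4,
  .cj 4 [36,28,7],
  .cj 6 [31,27,11,8,24,1],
  .cj 6 [36,27,17,14,5,1],
  .cj 6 [36,17,14,6,1],
  .cj 6 [32,9,11,8,24],
  .cj 6 [36,17,14,5,1],
  .cj 6 [36,26,14,2,6],
  .cj 6 [31,11,8,24,1],
  .cj 6 [13,29,8,24,8],
  .cj 5 [17,32,6,26,2,6],
  .o9 4,
  .o9 4,
  .cj 4 [35,10,24,9],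
  .o9 4,
  .o9 4,
  .cj 4 [17,10,8,25,10],
  .o9 4,
  .o9 4,
  .cj 6 [35,24,26,14,1],
  .o9 4,
  .o9 4,
  .cj 5 [24,17,14,8,1],
  .o9 4,
  .o9 4,
  .cj 5 [24,14,8,6],
  .o9 4,
  .o9 4,
  .cj 2 [25,29,14,9],
  .o9 4,
  .o9 4,
  .cj 6 [36,32,35,8,1],
  .o9 4,
  .o9 4,
  .cj 6 [24,17,9,8],
  .o9 4,
  .o9 4,
  .cj 1 [14,7],
  .o9 4,
  .o9 4,
  .cj 6 [36,32,35,26,1],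
  .o9 4,
  .o9 4,
  .cj 6 [24,17,8,2,6],
  .o9 4,
  .o9 4,
  .cj 0 [1,17],
  .cj 6 [36,32,24,2,23],
  .cj 6 [36,32,1,5,1],
  .cj 6 [36,32,35,1],
  .cj 6 [36,13,32,23,6],
  .cj 6 [36,6,9,32,5],
  .cj 6 [8,24,17,9,8],
  .cj 6 [36,32,23,17,6],
  .cj 6 [20,17,29,8,24],
  .cj 3 [28,8,7],
  .o9 4,
  .o9 4,
  .cj 5 [17,1],
  .o9 4,
  .o9 4,
  .cj 3 [35,7,28,26,7],
  .o9 4,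
  .o9 4,
  .cj 5 [13,8],
  .o9 4,
  .o9 4,
  .cj 6 [35,32,24,26],
  .o9 4,
  .o9 4,
  .cj 5 [35,26],
  .o9 4,
  .o9 4,
  .cj 6 [36,17,32,26,6],
  .cj 6 [36,32,35,1,23],
  .cj 6 [36,31,32,6,5],
  .cj 3 [17,28,13,7],
  .cj 6 [36,31,32,23,6],
  .cj 6 [36,35,14,6,5],
  .cj 6 [36,32,2,6],
  .cj 6 [36,32,20,1,23],
  .cj 6 [36,32,24,20,5],
  .cj 4 [36,28,26,7],
  .o9 4,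
  .o9 4,
  .cj 4 [35,10,8,25],
  .o9 4,
  .o9 4,
  .cj 5 [8,24,14,8],
  .o9 4,
  .o9 4,
  .cj 5 [35,24,14,13,8],
  .o9 4,
  .o9 4,
  .cj 5 [32,6,26,1],
  .o9 4,
  .o9 4,
  .cj 6 [24,26,14,9],
  .o9 4,
  .o9 4,
  .cj 6 [36,35,14,6],
  .cj 6 [36,9,32,23,9],
  .cj 6 [36,6,13,32,5],
  .cj 6 [6,8,24,17,14],
  .cj 6 [36,32,23,9],
  .cj 6 [36,32,2,1,5],
  .cj 4 [17,10,25,10],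
  .cj 6 [36,27,32,23,9],
  .cj 6 [36,32,35,1,5],
  .cj 2 [11,27,26,12],
  .o9 4,
  .o9 4,
  .cj 6 [36,14,17,8,1],
  .o9 4,
  .o9 4,
  .cj 6 [35,24,9,8],
  .o9 4,
  .o9 4,
  .cj 1 [32,7],
  .o9 4,
  .o9 4,
  .cj 6 [36,26,14,17,1],
  .o9 4,
  .o9 4,
  .cj 6 [35,24,8,2,6],
  .o9 4,
  .o9 4,
  .cj 0 [35,25],
  .cj 6 [36,24,14,2,23],
  .cj 6 [36,14,1,5,1],
  .cj 6 [36,14,17,1],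
  .cj 6 [36,31,14,23,6],
  .cj 6 [36,6,9,14,5],
  .cj 6 [35,8,24,9,8],
  .cj 6 [36,17,32,23,6],
  .cj 6 [20,35,29,8,24],
  .cj 3 [28,26,7],
  .o9 4,
  .o9 4,
  .cj 3 [17,28,13,8,7],
  .o9 4,
  .o9 4,
  .cj 5 [35],
  .o9 4,
  .o9 4,
  .cj 5 [26,13],
  .o9 4,
  .o9 4,
  .cj 5 [17,8,1],
  .o9 4,
  .o9 4,
  .cj 6 [32,24,26,9],
  .o9 4,
  .o9 4,
  .cj 6 [36,17,32,6],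
  .cj 6 [36,9,14,23,9],
  .cj 6 [36,6,31,14,5],
  .cj 6 [35,32,6,8,24],
  .cj 6 [36,14,23,9],
  .cj 6 [36,14,2,1,5],
  .cj 3 [35,7,28,7],
  .cj 6 [36,27,14,23,9],
  .cj 6 [36,14,17,1,5],
  .cj 4 [36,28,8,7],
  .o9 4,
  .o9 4,
  .cj 5 [32,6,26,6,1],
  .o9 4,
  .o9 4,
  .cj 4 [17,10,25,10,9],
  .o9 4,
  .o9 4,
  .cj 5 [17,32,6,26,13],
  .o9 4,
  .o9 4,
  .cj 6 [24,26,17,14],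
  .o9 4,
  .o9 4,
  .cj 5 [24,14,8],
  .o9 4,
  .o9 4,
  .cj 6 [36,35,26,14,6],
  .cj 6 [36,14,1,23,17],
  .cj 6 [36,13,14,6,5],
  .cj 4 [35,10,25],
  .cj 6 [36,13,14,23,6],
  .cj 6 [36,17,32,6,5],
  .cj 6 [36,14,2,6],
  .cj 6 [36,20,14,1,23],
  .cj 6 [36,24,20,14,5],
  .cj 3 [28],
  .cj 3 [16,28,25,12],
  .cj 5 [9,29,35,6],
  .o9 4,
  .o9 4,
  .o9 4,
  .o9 4,
  .o9 4,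
  .o9 4,
  .o9 5,
  .o9 0,
  .o9 0,
  .o9 4,
  .o9 0,
  .o9 0,
  .o9 4,
  .o9 0,
  .o9 0,
  .o9 5,
  .o9 0,
  .o9 0,
  .o9 4,
  .o9 0,
  .o9 0,
  .o9 4,
  .o9 0,
  .o9 0,
  .cj 4 [31,7],
  .cj 5 [36,27,11,26,14,6],
  .cj 4 [36,16,8,11],
  .o9 4,
  .o9 4,
  .o9 4,
  .o9 4,
  .o9 4,
  .o9 4,
  .o9 4,
  .o9 0,
  .o9 0,
  .o9 4,
  .o9 0,
  .o9 0,
  .o9 4,
  .o9 0,
  .o9 0,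
  .o9 4,
  .o9 0,
  .o9 0,
  .o9 4,
  .o9 0,
  .o9 0,
  .o9 4,
  .o9 0,
  .o9 0,
  .cj 2 [31,25],
  .cj 6 [27,7,11,17,8,1],
  .cj 6 [9,29,35,9,8],
  .o9 4,
  .o9 4,
  .o9 4,
  .o9 4,
  .o9 4,
  .o9 4,
  .o9 4,
  .o9 0,
  .o9 0,
  .o9 4,
  .o9 0,
  .o9 0,
  .o9 4,
  .o9 0,
  .o9 0,
  .o9 4,
  .o9 0,
  .o9 0,
  .o9 4,
  .o9 0,
  .o9 0,
  .o9 4,
  .o9 0,
  .o9 0,
  .cj 3 [14,9],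
  .o9 4,
  .o9 4,
  .o9 4,
  .o9 4,
  .cj 5 [24,11,17,1],
  .o9 4,
  .cj 3 [9,16,28,25,12],
  .o9 4,
  .o9 5,
  .o9 0,
  .o9 0,
  .o9 4,
  .o9 0,
  .o9 0,
  .o9 4,
  .o9 0,
  .o9 0,
  .o9 5,
  .o9 0,
  .o9 0,
  .o9 4,
  .o9 0,
  .o9 0,
  .o9 4,
  .o9 0,
  .o9 0,
  .cj 4 [31,8,7],
  .o9 4,
  .o9 4,
  .o9 4,
  .o9 4,
  .cj 4 [29,27,34,10],
  .o9 4,
  .cj 5 [36,11,26,14,6],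
  .o9 4,
  .o9 4,
  .o9 0,
  .o9 0,
  .o9 4,
  .o9 0,
  .o9 0,
  .o9 4,
  .o9 0,
  .o9 0,
  .o9 4,
  .o9 0,
  .o9 0,
  .o9 4,
  .o9 0,
  .o9 0,
  .o9 4,
  .o9 0,
  .o9 0,
  .cj 2 [25,14,9],
  .o9 4,
  .o9 4,
  .o9 4,
  .o9 4,
  .cj 6 [27,29,35,9,8],
  .o9 4,
  .cj 6 [7,11,17,8,1],
  .o9 4,
  .o9 4,
  .o9 0,
  .o9 0,
  .o9 4,
  .o9 0,
  .o9 0,
  .o9 4,
  .o9 0,
  .o9 0,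
  .o9 4,
  .o9 0,
  .o9 0,
  .o9 4,
  .o9 0,
  .o9 0,
  .o9 4,
  .o9 0,
  .o9 0,
  .cj 3 [28,27],
  .o9 4,
  .o9 4,
  .o9 4,
  .cj 3 [36,24,27,16,10],
  .o9 4,
  .o9 4,
  .o9 4,
  .cj 5 [29,35,6],
  .o9 5,
  .o9 0,
  .o9 0,
  .o9 4,
  .o9 0,
  .o9 0,
  .o9 4,
  .o9 0,
  .o9 0,
  .o9 5,
  .o9 0,
  .o9 0,
  .o9 4,
  .o9 0,
  .o9 0,
  .o9 4,
  .o9 0,
  .o9 0,
  .cj 4 [31,26,7],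
  .o9 4,
  .o9 4,
  .o9 4,
  .cj 5 [7,32,29,26,6],
  .o9 4,
  .o9 4,
  .o9 4,
  .cj 4 [11,9,34,6,10],
  .o9 4,
  .o9 0,
  .o9 0,
  .o9 4,
  .o9 0,
  .o9 0,
  .o9 4,
  .o9 0,
  .o9 0,
  .o9 4,
  .o9 0,
  .o9 0,
  .o9 4,
  .o9 0,
  .o9 0,
  .o9 4,
  .o9 0,
  .o9 0,
  .cj 2 [31,8,25],
  .o9 4,
  .o9 4,
  .o9 4,
  .cj 6 [24,9,11,17,8],
  .o9 4,
  .o9 4,
  .o9 4,
  .cj 6 [29,35,9,8],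
  .o9 4,
  .o9 0,
  .o9 0,
  .o9 4,
  .o9 0,
  .o9 0,
  .o9 4,
  .o9 0,
  .o9 0,
  .o9 4,
  .o9 0,
  .o9 0,
  .o9 4,
  .o9 0,
  .o9 0,
  .o9 4,
  .o9 0,
  .o9 0,
  .cj 4 [36,13],
  .cj 4 [34,31,11,7],
  .cj 5 [27,13,11,26,6],
  .o9 4,
  .o9 4,
  .o9 4,
  .o9 4,
  .o9 4,
  .o9 4,
  .o9 5,
  .o9 0,
  .o9 0,
  .o9 4,
  .o9 0,
  .o9 0,
  .o9 4,
  .o9 0,
  .o9 0,
  .o9 5,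
  .o9 0,
  .o9 0,
  .o9 4,
  .o9 0,
  .o9 0,
  .o9 4,
  .o9 0,
  .o9 0,
  .cj 2 [13,10,7],
  .cj 6 [27,7,11,35,8,1],
  .cj 6 [9,29,17,9,8],
  .o9 4,
  .o9 4,
  .o9 4,
  .o9 4,
  .o9 4,
  .o9 4,
  .o9 4,
  .o9 0,
  .o9 0,
  .o9 4,
  .o9 0,
  .o9 0,
  .o9 4,
  .o9 0,
  .o9 0,
  .o9 4,
  .o9 0,
  .o9 0,
  .o9 4,
  .o9 0,
  .o9 0,
  .o9 4,
  .o9 0,
  .o9 0,
  .cj 3 [28,25],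
  .cj 5 [27,11,35,24],
  .cj 3 [34,8,11],
  .o9 4,
  .o9 4,
  .o9 4,
  .o9 4,
  .o9 4,
  .o9 4,
  .o9 4,
  .o9 0,
  .o9 0,
  .o9 4,
  .o9 0,
  .o9 0,
  .o9 4,
  .o9 0,
  .o9 0,
  .o9 4,
  .o9 0,
  .o9 0,
  .o9 4,
  .o9 0,
  .o9 0,
  .o9 4,
  .o9 0,
  .o9 0,
  .cj 4 [36,27,13],
  .o9 4,
  .o9 4,
  .o9 4,
  .cj 4 [24,27,34,10],
  .o9 4,
  .o9 4,
  .o9 4,
  .cj 5 [29,8,24,14],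
  .o9 5,
  .o9 0,
  .o9 0,
  .o9 4,
  .o9 0,
  .o9 0,
  .o9 4,
  .o9 0,
  .o9 0,
  .o9 5,
  .o9 0,
  .o9 0,
  .o9 4,
  .o9 0,
  .o9 0,
  .o9 4,
  .o9 0,
  .o9 0,
  .cj 2 [13,10,8,7],
  .o9 4,
  .o9 4,
  .o9 4,
  .cj 6 [24,9,11,35,8],
  .o9 4,
  .o9 4,
  .o9 4,
  .cj 6 [29,17,9,8],
  .o9 4,
  .o9 0,
  .o9 0,
  .o9 4,
  .o9 0,
  .o9 0,
  .o9 4,
  .o9 0,
  .o9 0,
  .o9 4,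
  .o9 0,
  .o9 0,
  .o9 4,
  .o9 0,
  .o9 0,
  .o9 4,
  .o9 0,
  .o9 0,
  .cj 3 [28,24,9],
  .o9 4,
  .o9 4,
  .o9 4,
  .cj 5 [29,17,6,1],
  .o9 4,
  .o9 4,
  .o9 4,
  .cj 3 [27,34,8,11],
  .o9 4,
  .o9 0,
  .o9 0,
  .o9 4,
  .o9 0,
  .o9 0,
  .o9 4,
  .o9 0,
  .o9 0,
  .o9 4,
  .o9 0,
  .o9 0,
  .o9 4,
  .o9 0,
  .o9 0,
  .o9 4,
  .o9 0,
  .o9 0,
  .cj 4 [36,13,9],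
  .o9 4,
  .o9 4,
  .o9 4,
  .o9 4,
  .cj 5 [13,11,26,6],
  .o9 4,
  .cj 4 [9,34,31,11,7],
  .o9 4,
  .o9 5,
  .o9 0,
  .o9 0,
  .o9 4,
  .o9 0,
  .o9 0,
  .o9 4,
  .o9 0,
  .o9 0,
  .o9 5,
  .o9 0,
  .o9 0,
  .o9 4,
  .o9 0,
  .o9 0,
  .o9 4,
  .o9 0,
  .o9 0,
  .cj 2 [13,9,10,7],
  .o9 4,
  .o9 4,
  .o9 4,
  .o9 4,
  .cj 6 [27,29,17,9,8],
  .o9 4,
  .cj 6 [7,11,35,8,1],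
  .o9 4,
  .o9 4,
  .o9 0,
  .o9 0,
  .o9 4,
  .o9 0,
  .o9 0,
  .o9 4,
  .o9 0,
  .o9 0,
  .o9 4,
  .o9 0,
  .o9 0,
  .o9 4,
  .o9 0,
  .o9 0,
  .o9 4,
  .o9 0,
  .o9 0,
  .cj 3 [28,8,25],
  .o9 4,
  .o9 4,
  .o9 4,
  .o9 4,
  .cj 3 [9,34,8,11],
  .o9 4,
  .cj 5 [11,35,24],
  .o9 4,
  .o9 4,
  .o9 0,
  .o9 0,
  .o9 4,
  .o9 0,
  .o9 0,
  .o9 4,
  .o9 0,
  .o9 0,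
  .o9 4,
  .o9 0,
  .o9 0,
  .o9 4,
  .o9 0,
  .o9 0,
  .o9 4,
  .o9 0,
  .o9 0]

theorem h28_len_10 : h28_certs_10.length = 729 := by decide +kernel

theorem h28_chk_10 : chkAll 7290 h28_certs_10 = true := by decide +kernel

end Cfsg.Agent.Lib.Helper28.O73C
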