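import Cfsg.Agent.Lib.Helper28.O73C.Comp

/-! Project O73C (S5514): certificates for the parameters 8019 to 8747 (generated, helper28). -/

set_option autoImplicit false
set_option maxRecDepth 100000

namespace Cfsg.Agent.Lib.Helper28.O73C

/-- certificates, chunk 11 -/
def h28_certs_11 : List Cert :=
  [.cj 0 [7],
  .cj 6 [27,11,8,24,1],
  .cj 6 [36,9,29,26,6],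
  .cj 6 [36,14,17,14,9],
  .cj 6 [9,11,8,24,1],
  .cj 6 [36,27,29,26,6],
  .cj 6 [8,24,8,1],
  .cj 6 [11,8,24,1],
  .cj 6 [36,29,26,6],
  .cj 2 [35,29,10,12,9],
  .o9 4,
  .o9 4,
  .cj 6 [6,26,5,20,9,5],
  .o9 4,
  .o9 4,
  .cj 6 [24,8,1],
  .o9 4,
  .o9 4,
  .cj 1 [36,7],
  .o9 4,
  .o9 4,
  .cj 6 [6,26,5,20,6,5],
  .o9 4,
  .o9 4,
  .cj 6 [36,6,26],
  .o9 4,
  .o9 4,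
  .cj 3 [28,13,7],
  .cj 6 [27,13,11,8,24,8],
  .cj 6 [9,32,29,8,24,1],
  .cj 6 [36,35,32,2,6],
  .cj 6 [36,35,32,23,9],
  .cj 6 [14,27,29,8,24],
  .cj 6 [36,32,26,6],
  .cj 6 [13,11,8,24,8],
  .cj 6 [32,29,8,24,1],
  .cj 5 [1],
  .o9 4,
  .o9 4,
  .cj 3 [17,7,28,26,7],
  .o9 4,
  .o9 4,
  .cj 3 [35,28,8,7],
  .o9 4,
  .o9 4,
  .cj 6 [17,32,24,26],
  .o9 4,
  .o9 4,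
  .cj 5 [26,17],
  .o9 4,
  .o9 4,
  .cj 5 [35,13,8],
  .o9 4,
  .o9 4,
  .cj 4 [10,25],
  .cj 6 [31,27,11,8,24,8],
  .cj 6 [9,29,8,24,14,1],
  .cj 6 [36,17,14,2,6],
  .cj 6 [36,29,17,14,9],
  .cj 6 [32,27,29,8,24],
  .cj 6 [36,26,14,6],
  .cj 6 [31,11,8,24,8],
  .cj 6 [29,8,24,14,1],
  .cj 5 [17,32,6,26,6,1],
  .o9 4,
  .o9 4,
  .cj 4 [35,10,25,10,9],
  .o9 4,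
  .o9 4,
  .cj 4 [36,17,28,8,7],
  .o9 4,
  .o9 4,
  .cj 6 [35,24,26,14],
  .o9 4,
  .o9 4,
  .cj 5 [24,17,14,8],
  .o9 4,
  .o9 4,
  .cj 5 [36,6,26,14,1],
  .o9 4,
  .o9 4,
  .cj 2 [29,10,12,9],
  .o9 4,
  .o9 4,
  .cj 6 [36,32,35,9,8],
  .o9 4,
  .o9 4,
  .cj 6 [24,17,8,1],
  .o9 4,
  .o9 4,
  .cj 1 [14,1],
  .o9 4,
  .o9 4,
  .cj 6 [36,32,35,26,9],
  .o9 4,
  .o9 4,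
  .cj 6 [36,6,26,17],
  .o9 4,
  .o9 4,
  .cj 0 [17,7],
  .cj 6 [36,32,2,24,23],
  .cj 6 [36,32,6,5],
  .cj 6 [36,32,35,9],
  .cj 6 [36,13,32,24,23,1],
  .cj 6 [36,9,32,6,5],
  .cj 6 [8,24,17,8,1],
  .cj 6 [36,32,31,19,23],
  .cj 6 [36,27,32,6,5],
  .cj 3 [28,13,8,7],
  .o9 4,
  .o9 4,
  .cj 5 [17],
  .o9 4,
  .o9 4,
  .cj 3 [35,28,26,7],
  .o9 4,
  .o9 4,
  .cj 5 [8,1],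
  .o9 4,
  .o9 4,
  .cj 6 [35,32,24,26,9],
  .o9 4,
  .o9 4,
  .cj 5 [35,26,13],
  .o9 4,
  .o9 4,
  .cj 6 [17,32,6,8,24],
  .cj 6 [36,32,24,13,23],
  .cj 6 [36,31,32,5,1],
  .cj 3 [17,7,28,7],
  .cj 6 [17,11,8,24,1],
  .cj 6 [36,32,13,5],
  .cj 6 [36,32,6],
  .cj 6 [36,32,20,19,23],
  .cj 6 [36,32,20,9,5],
  .cj 4 [10,24,9],
  .o9 4,
  .o9 4,
  .cj 4 [35,10,8,25,10],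
  .o9 4,
  .o9 4,
  .cj 5 [8,24,14,13,8],
  .o9 4,
  .o9 4,
  .cj 5 [35,24,14,8,1],
  .o9 4,
  .o9 4,
  .cj 5 [32,6,26],
  .o9 4,
  .o9 4,
  .cj 6 [24,26,14,1],
  .o9 4,
  .o9 4,
  .cj 6 [36,35,14,6,1],
  .cj 6 [36,9,32,23,6],
  .cj 6 [36,13,32,6,5],
  .cj 6 [36,32,5,20,6,5],
  .cj 6 [36,32,23,6],
  .cj 6 [36,32,19,2,5],
  .cj 4 [36,17,28,7],
  .cj 6 [36,27,32,23,6],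
  .cj 6 [36,32,35,19,5],
  .cj 2 [10,30,11,27],
  .o9 4,
  .o9 4,
  .cj 6 [36,14,17,9,8],
  .o9 4,
  .o9 4,
  .cj 6 [35,24,8,1],
  .o9 4,
  .o9 4,
  .cj 1 [32,1],
  .o9 4,
  .o9 4,
  .cj 6 [36,26,14,17,9],
  .o9 4,
  .o9 4,
  .cj 6 [36,35,6,26],
  .o9 4,
  .o9 4,
  .cj 0 [35,7],
  .cj 6 [36,2,24,14,23],
  .cj 6 [36,14,6,5],
  .cj 6 [36,14,17,9],
  .cj 6 [36,31,24,14,23,1],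
  .cj 6 [36,9,14,6,5],
  .cj 6 [35,8,24,8,1],
  .cj 6 [36,7,14,13,23],
  .cj 6 [36,27,14,6,5],
  .cj 3 [28,26,13,7],
  .o9 4,
  .o9 4,
  .cj 3 [17,7,28,8,7],
  .o9 4,
  .o9 4,
  .cj 5 [35,13],
  .o9 4,
  .o9 4,
  .cj 5 [26,1],
  .o9 4,
  .o9 4,
  .cj 5 [17,8],
  .o9 4,
  .o9 4,
  .cj 6 [32,24,26,1],
  .o9 4,
  .o9 4,
  .cj 6 [36,17,32,6,1],
  .cj 6 [36,9,14,23,6],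
  .cj 6 [36,31,14,6,5],
  .cj 6 [36,14,5,20,6,5],
  .cj 6 [36,14,23,6],
  .cj 6 [36,7,14,2,5],
  .cj 3 [35,28,7],
  .cj 6 [36,27,14,23,6],
  .cj 6 [36,7,14,17,5],
  .cj 4 [10,8,25],
  .o9 4,
  .o9 4,
  .cj 5 [32,6,26,6],
  .o9 4,
  .o9 4,
  .cj 4 [36,17,28,26,7],
  .o9 4,
  .o9 4,
  .cj 5 [17,32,6,26,1],
  .o9 4,
  .o9 4,
  .cj 6 [24,26,17,14,9],
  .o9 4,
  .o9 4,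
  .cj 5 [24,14,13,8],
  .o9 4,
  .o9 4,
  .cj 6 [35,6,8,24,14],
  .cj 6 [36,7,14,23,17],
  .cj 6 [36,13,14,5,1],
  .cj 4 [35,10,25,10],
  .cj 6 [35,11,8,24,1],
  .cj 6 [36,14,31,5],
  .cj 6 [36,14,6],
  .cj 6 [36,20,7,14,23],
  .cj 6 [36,20,14,9,5],
  .cj 4 [10],
  .cj 5 [9,32,29,26,6],
  .cj 4 [16,6,10,7],
  .o9 4,
  .o9 4,
  .o9 4,
  .o9 4,
  .o9 4,
  .o9 4,
  .o9 5,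
  .o9 0,
  .o9 0,
  .o9 4,
  .o9 0,
  .o9 0,
  .o9 4,
  .o9 0,
  .o9 0,
  .o9 5,
  .o9 0,
  .o9 0,
  .o9 4,
  .o9 0,
  .o9 0,
  .o9 4,
  .o9 0,
  .o9 0,
  .cj 2 [31,7],
  .cj 6 [27,11,17,8,1],
  .cj 6 [9,29,35,6,8,1],
  .o9 4,
  .o9 4,
  .o9 4,
  .o9 4,
  .o9 4,
  .o9 4,
  .o9 4,
  .o9 0,
  .o9 0,
  .o9 4,
  .o9 0,
  .o9 0,
  .o9 4,
  .o9 0,
  .o9 0,
  .o9 4,
  .o9 0,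
  .o9 0,
  .o9 4,
  .o9 0,
  .o9 0,
  .o9 4,
  .o9 0,
  .o9 0,
  .cj 3 [31,25],
  .cj 3 [36,16,11,10],
  .cj 5 [27,11,17,6],
  .o9 4,
  .o9 4,
  .o9 4,
  .o9 4,
  .o9 4,
  .o9 4,
  .o9 4,
  .o9 0,
  .o9 0,
  .o9 4,
  .o9 0,
  .o9 0,
  .o9 4,
  .o9 0,
  .o9 0,
  .o9 4,
  .o9 0,
  .o9 0,
  .o9 4,
  .o9 0,
  .o9 0,
  .o9 4,
  .o9 0,
  .o9 0,
  .cj 4 [10,9],
  .o9 4,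
  .o9 4,
  .o9 4,
  .o9 4,
  .cj 4 [9,16,6,10,7],
  .o9 4,
  .cj 5 [31,11,8,24],
  .o9 4,
  .o9 5,
  .o9 0,
  .o9 0,
  .o9 4,
  .o9 0,
  .o9 0,
  .o9 4,
  .o9 0,
  .o9 0,
  .o9 5,
  .o9 0,
  .o9 0,
  .o9 4,
  .o9 0,
  .o9 0,
  .o9 4,
  .o9 0,
  .o9 0,
  .cj 2 [31,8,7],
  .o9 4,
  .o9 4,
  .o9 4,
  .o9 4,
  .cj 6 [24,27,29,35,8],
  .o9 4,
  .cj 6 [11,17,8,1],
  .o9 4,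
  .o9 4,
  .o9 0,
  .o9 0,
  .o9 4,
  .o9 0,
  .o9 0,
  .o9 4,
  .o9 0,
  .o9 0,
  .o9 4,
  .o9 0,
  .o9 0,
  .o9 4,
  .o9 0,
  .o9 0,
  .o9 4,
  .o9 0,
  .o9 0,
  .cj 3 [25,14,9],
  .o9 4,
  .o9 4,
  .o9 4,
  .o9 4,
  .cj 5 [11,17,6],
  .o9 4,
  .cj 3 [29,27,34,28],
  .o9 4,
  .o9 4,
  .o9 0,
  .o9 0,
  .o9 4,
  .o9 0,
  .o9 0,
  .o9 4,
  .o9 0,
  .o9 0,
  .o9 4,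
  .o9 0,
  .o9 0,
  .o9 4,
  .o9 0,
  .o9 0,
  .o9 4,
  .o9 0,
  .o9 0,
  .cj 4 [27,10],
  .o9 4,
  .o9 4,
  .o9 4,
  .cj 5 [32,29,26,6],
  .o9 4,
  .o9 4,
  .o9 4,
  .cj 4 [27,16,6,10,7],
  .o9 5,
  .o9 0,
  .o9 0,
  .o9 4,
  .o9 0,
  .o9 0,
  .o9 4,
  .o9 0,
  .o9 0,
  .o9 5,
  .o9 0,
  .o9 0,
  .o9 4,
  .o9 0,
  .o9 0,
  .o9 4,
  .o9 0,
  .o9 0,
  .cj 2 [31,26,7],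
  .o9 4,
  .o9 4,
  .o9 4,
  .cj 6 [9,11,17,8,1],
  .o9 4,
  .o9 4,
  .o9 4,
  .cj 6 [29,35,6,8,1],
  .o9 4,
  .o9 0,
  .o9 0,
  .o9 4,
  .o9 0,
  .o9 0,
  .o9 4,
  .o9 0,
  .o9 0,
  .o9 4,
  .o9 0,
  .o9 0,
  .o9 4,
  .o9 0,
  .o9 0,
  .o9 4,
  .o9 0,
  .o9 0,
  .cj 3 [31,8,25],
  .o9 4,
  .o9 4,
  .o9 4,
  .cj 3 [36,27,16,11,10],
  .o9 4,
  .o9 4,
  .o9 4,
  .cj 5 [7,29,35,1],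
  .o9 4,
  .o9 0,
  .o9 0,
  .o9 4,
  .o9 0,
  .o9 0,
  .o9 4,
  .o9 0,
  .o9 0,
  .o9 4,
  .o9 0,
  .o9 0,
  .o9 4,
  .o9 0,
  .o9 0,
  .o9 4,
  .o9 0,
  .o9 0,
  .cj 3 [36,10],
  .cj 5 [9,29,24,17],
  .cj 3 [34,25,8,11],
  .o9 4,
  .o9 4,
  .o9 4,
  .o9 4,
  .o9 4,
  .o9 4,
  .o9 5,
  .o9 0,
  .o9 0,
  .o9 4,
  .o9 0,
  .o9 0,
  .o9 4,
  .o9 0,
  .o9 0,
  .o9 5,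
  .o9 0,
  .o9 0,
  .o9 4,
  .o9 0,
  .o9 0,
  .o9 4,
  .o9 0,
  .o9 0,
  .cj 4 [10,7],
  .cj 4 [34,11,10],
  .cj 5 [27,25,13,11,26,6],
  .o9 4,
  .o9 4,
  .o9 4,
  .o9 4,
  .o9 4,
  .o9 4,
  .o9 4,
  .o9 0,
  .o9 0,
  .o9 4,
  .o9 0,
  .o9 0,
  .o9 4,
  .o9 0,
  .o9 0,
  .o9 4,
  .o9 0,
  .o9 0,
  .o9 4,
  .o9 0,
  .o9 0,
  .o9 4,
  .o9 0,
  .o9 0,
  .cj 2 [36,13,7],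
  .cj 6 [27,11,35,8,1],
  .cj 6 [9,29,17,6,8,1],
  .o9 4,
  .o9 4,
  .o9 4,
  .o9 4,
  .o9 4,
  .o9 4,
  .o9 4,
  .o9 0,
  .o9 0,
  .o9 4,
  .o9 0,
  .o9 0,
  .o9 4,
  .o9 0,
  .o9 0,
  .o9 4,
  .o9 0,
  .o9 0,
  .o9 4,
  .o9 0,
  .o9 0,
  .o9 4,
  .o9 0,
  .o9 0,
  .cj 3 [36,27,10],
  .o9 4,
  .o9 4,
  .o9 4,
  .cj 5 [29,24,17],
  .o9 4,
  .o9 4,
  .o9 4,
  .cj 3 [6,27,34,28],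
  .o9 5,
  .o9 0,
  .o9 0,
  .o9 4,
  .o9 0,
  .o9 0,
  .o9 4,
  .o9 0,
  .o9 0,
  .o9 5,
  .o9 0,
  .o9 0,
  .o9 4,
  .o9 0,
  .o9 0,
  .o9 4,
  .o9 0,
  .o9 0,
  .cj 4 [10,8,7],
  .o9 4,
  .o9 4,
  .o9 4,
  .cj 4 [27,34,11,10],
  .o9 4,
  .o9 4,
  .o9 4,
  .cj 5 [25,29,8,24,14],
  .o9 4,
  .o9 0,
  .o9 0,
  .o9 4,
  .o9 0,
  .o9 0,
  .o9 4,
  .o9 0,
  .o9 0,
  .o9 4,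
  .o9 0,
  .o9 0,
  .o9 4,
  .o9 0,
  .o9 0,
  .o9 4,
  .o9 0,
  .o9 0,
  .cj 2 [36,26,13,7],
  .o9 4,
  .o9 4,
  .o9 4,
  .cj 6 [9,11,35,8,1],
  .o9 4,
  .o9 4,
  .o9 4,
  .cj 6 [29,17,6,8,1],
  .o9 4,
  .o9 0,
  .o9 0,
  .o9 4,
  .o9 0,
  .o9 0,
  .o9 4,
  .o9 0,
  .o9 0,
  .o9 4,
  .o9 0,
  .o9 0,
  .o9 4,
  .o9 0,
  .o9 0,
  .o9 4,
  .o9 0,
  .o9 0,
  .cj 3 [36,10,9],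
  .o9 4,
  .o9 4,
  .o9 4,
  .o9 4,
  .cj 3 [6,9,34,31,7],
  .o9 4,
  .cj 5 [7,11,35,1],
  .o9 4,
  .o9 5,
  .o9 0,
  .o9 0,
  .o9 4,
  .o9 0,
  .o9 0,
  .o9 4,
  .o9 0,
  .o9 0,
  .o9 5,
  .o9 0,
  .o9 0,
  .o9 4,
  .o9 0,
  .o9 0,
  .o9 4,
  .o9 0,
  .o9 0,
  .cj 4 [9,10,7],
  .o9 4,
  .o9 4,
  .o9 4,
  .o9 4,
  .cj 5 [25,13,11,26,6],
  .o9 4,
  .cj 4 [9,34,11,10],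
  .o9 4,
  .o9 4,
  .o9 0,
  .o9 0,
  .o9 4,
  .o9 0,
  .o9 0,
  .o9 4,
  .o9 0,
  .o9 0,
  .o9 4,
  .o9 0,
  .o9 0,
  .o9 4,
  .o9 0,
  .o9 0,
  .o9 4,
  .o9 0,
  .o9 0,
  .cj 2 [36,13,8,7],
  .o9 4,
  .o9 4,
  .o9 4,
  .o9 4,
  .cj 6 [24,27,29,17,8],
  .o9 4,
  .cj 6 [11,35,8,1],
  .o9 4,
  .o9 4,
  .o9 0,
  .o9 0,
  .o9 4,
  .o9 0,
  .o9 0,
  .o9 4,
  .o9 0,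
  .o9 0,
  .o9 4,
  .o9 0,
  .o9 0,
  .o9 4,
  .o9 0,
  .o9 0,
  .o9 4,
  .o9 0,
  .o9 0]

theorem h28_len_11 : h28_certs_11.length = 729 := by decide +kernel

theorem h28_chk_11 : chkAll 8019 h28_certs_11 = true := by decide +kernel

end Cfsg.Agent.Lib.Helper28.O73C
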