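import Cfsg.Agent.Lib.Helper28.O73C.Comp

/-! Project O73C (S5514): certificates for the parameters 8748 to 9476 (generated, helper28). -/

set_option autoImplicit false
set_option maxRecDepth 100000

namespace Cfsg.Agent.Lib.Helper28.O73C

/-- certificates, chunk 12 -/
def h28_certs_12 : List Cert :=
  [.cj 0 [6],
  .cj 6 [27,25,11,8,24],
  .cj 6 [9,7,29,8,24],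
  .cj 6 [36,14,17,14,6],
  .cj 6 [36,9,11,26,6],
  .cj 6 [27,25,29,8,24],
  .cj 6 [8,24],
  .cj 6 [11,8,24],
  .cj 6 [29,8,24],
  .cj 6 [8],
  .o9 4,
  .o9 4,
  .cj 2 [35,28,14,8,7],
  .o9 4,
  .o9 4,
  .cj 6 [24,26,5,20,5],
  .o9 4,
  .o9 4,
  .cj 6 [36,8,5,20,5,1],
  .o9 4,
  .o9 4,
  .cj 6 [8,6],
  .o9 4,
  .o9 4,
  .cj 1 [36,6],
  .o9 4,
  .o9 4,
  .cj 3 [7,28,11,7],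
  .cj 6 [36,27,13,11,26,6],
  .cj 6 [36,9,32,29,26,6],
  .cj 6 [36,35,32,24],
  .cj 6 [36,35,32,24,23],
  .cj 6 [36,35,32,24,5],
  .cj 6 [32,8,24,8],
  .cj 6 [32,11,8,24,8],
  .cj 6 [36,17,20,14,5],
  .cj 3 [35,29,25,14,9],
  .o9 4,
  .o9 4,
  .cj 5 [6],
  .o9 4,
  .o9 4,
  .cj 3 [17,8,11,27],
  .o9 4,
  .o9 4,
  .cj 5 [6,26,17,13],
  .o9 4,
  .o9 4,
  .cj 5 [35,6,8,1],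
  .o9 4,
  .o9 4,
  .cj 6 [17,32,26,9],
  .o9 4,
  .o9 4,
  .cj 4 [10,25,6,10],
  .cj 6 [36,31,27,11,26,6],
  .cj 6 [36,9,29,26,14,6],
  .cj 6 [36,24,17,14],
  .cj 6 [36,29,24,17,14],
  .cj 6 [36,24,17,14,5],
  .cj 6 [8,24,14,8],
  .cj 6 [11,8,24,14,8],
  .cj 6 [36,35,32,20,5],
  .cj 4 [17,8,29,8,7],
  .o9 4,
  .o9 4,
  .cj 5 [35,8,24,14],
  .o9 4,
  .o9 4,
  .cj 4 [35,29,12,10,9],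
  .o9 4,
  .o9 4,
  .cj 5 [36,32,8,1],
  .o9 4,
  .o9 4,
  .cj 5 [14,8,6,1],
  .o9 4,
  .o9 4,
  .cj 6 [35,26,14,9],
  .o9 4,
  .o9 4,
  .cj 4 [9,29,10,9],
  .o9 4,
  .o9 4,
  .cj 4 [35,28,27,14,7],
  .o9 4,
  .o9 4,
  .cj 5 [8,24,14,1],
  .o9 4,
  .o9 4,
  .cj 6 [26,14],
  .o9 4,
  .o9 4,
  .cj 5 [35,14,8],
  .o9 4,
  .o9 4,
  .cj 5 [32,24,26,13],
  .o9 4,
  .o9 4,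
  .cj 6 [36,32,5,20,5,1],
  .cj 6 [36,32,23,1],
  .cj 6 [36,32,2,5,1],
  .cj 4 [17,6,10,25],
  .cj 6 [36,24,27,32,23],
  .cj 6 [36,32,35,6,5],
  .cj 6 [36,35,24,14,9],
  .cj 6 [36,9,32,24,23],
  .cj 6 [17,29,8,24],
  .cj 2 [28,14,8,7],
  .o9 4,
  .o9 4,
  .cj 6 [32,35,26,24,1],
  .o9 4,
  .o9 4,
  .cj 6 [17,8],
  .o9 4,
  .o9 4,
  .cj 6 [17,8,6],
  .o9 4,
  .o9 4,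
  .cj 1 [14,6],
  .o9 4,
  .o9 4,
  .cj 6 [36,32,35,6,26],
  .o9 4,
  .o9 4,
  .cj 6 [36,32,35,6],
  .cj 6 [36,13,32,23,1],
  .cj 6 [36,9,32,24,5],
  .cj 6 [8,24,17],
  .cj 6 [36,32,31,23,6],
  .cj 6 [36,32,13,2,5],
  .cj 0 [17,6],
  .cj 6 [36,32,19,2,23],
  .cj 6 [36,32,6,5,1],
  .cj 3 [10,7,14,8,7],
  .o9 4,
  .o9 4,
  .cj 5 [17,2,6],
  .o9 4,
  .o9 4,
  .cj 3 [36,35,29,10,9],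
  .o9 4,
  .o9 4,
  .cj 5 [35,6,26,1],
  .o9 4,
  .o9 4,
  .cj 5 [6,8],
  .o9 4,
  .o9 4,
  .cj 6 [35,32,26,1],
  .o9 4,
  .o9 4,
  .cj 3 [17,28,11,7],
  .cj 6 [17,11,8,24],
  .cj 6 [36,32,13,5,1],
  .cj 6 [36,32,24,1],
  .cj 6 [36,32,20,23,9],
  .cj 6 [36,32,20,19,5],
  .cj 6 [36,32,5,31,20,5],
  .cj 6 [36,32,35,23,6],
  .cj 6 [36,31,32,24,5],
  .cj 3 [11,27,8,11],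
  .o9 4,
  .o9 4,
  .cj 3 [17,6,28,8,7],
  .o9 4,
  .o9 4,
  .cj 5 [35,6,1],
  .o9 4,
  .o9 4,
  .cj 6 [32,26],
  .o9 4,
  .o9 4,
  .cj 5 [6,26],
  .o9 4,
  .o9 4,
  .cj 5 [17,2,6,8],
  .o9 4,
  .o9 4,
  .cj 6 [36,14,5,20,5,1],
  .cj 6 [36,14,23,1],
  .cj 6 [36,14,2,5,1],
  .cj 3 [35,28,13,11,7],
  .cj 6 [36,24,27,14,23],
  .cj 6 [36,14,17,6,5],
  .cj 6 [36,17,32,24,9],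
  .cj 6 [36,9,24,14,23],
  .cj 6 [35,29,8,24],
  .cj 4 [11,9,14,8,7],
  .o9 4,
  .o9 4,
  .cj 5 [36,32,8,24,1],
  .o9 4,
  .o9 4,
  .cj 4 [17,29,10,9],
  .o9 4,
  .o9 4,
  .cj 5 [14,8,1],
  .o9 4,
  .o9 4,
  .cj 5 [35,14,8,6],
  .o9 4,
  .o9 4,
  .cj 6 [26,17,14,1],
  .o9 4,
  .o9 4,
  .cj 4 [36,35,28,11,7],
  .cj 6 [35,11,8,24],
  .cj 6 [36,14,31,5,1],
  .cj 6 [36,24,14,1],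
  .cj 6 [36,20,14,23,9],
  .cj 6 [36,20,7,14,5],
  .cj 6 [36,14,5,20,13,5],
  .cj 6 [36,14,23,17,6],
  .cj 6 [36,13,24,14,5],
  .cj 2 [32,10,8,25],
  .o9 4,
  .o9 4,
  .cj 6 [26,24,14,17,1],
  .o9 4,
  .o9 4,
  .cj 6 [35,8],
  .o9 4,
  .o9 4,
  .cj 6 [35,8,6],
  .o9 4,
  .o9 4,
  .cj 1 [32,6],
  .o9 4,
  .o9 4,
  .cj 6 [36,6,26,14,17],
  .o9 4,
  .o9 4,
  .cj 6 [36,14,17,6],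
  .cj 6 [36,31,14,23,1],
  .cj 6 [36,9,24,14,5],
  .cj 6 [35,8,24],
  .cj 6 [36,14,13,23,6],
  .cj 6 [36,14,31,2,5],
  .cj 0 [35,6],
  .cj 6 [36,7,14,2,23],
  .cj 6 [36,14,6,5,1],
  .cj 2 [8,30],
  .cj 6 [27,25,11,17,8],
  .cj 6 [9,7,29,35,8],
  .o9 4,
  .o9 4,
  .o9 4,
  .o9 4,
  .o9 4,
  .o9 4,
  .o9 5,
  .o9 0,
  .o9 0,
  .o9 4,
  .o9 0,
  .o9 0,
  .o9 4,
  .o9 0,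
  .o9 0,
  .o9 5,
  .o9 0,
  .o9 0,
  .o9 4,
  .o9 0,
  .o9 0,
  .o9 4,
  .o9 0,
  .o9 0,
  .cj 3 [31,11,7],
  .cj 3 [16,31,10,7],
  .cj 5 [27,11,17,1],
  .o9 4,
  .o9 4,
  .o9 4,
  .o9 4,
  .o9 4,
  .o9 4,
  .o9 4,
  .o9 0,
  .o9 0,
  .o9 4,
  .o9 0,
  .o9 0,
  .o9 4,
  .o9 0,
  .o9 0,
  .o9 4,
  .o9 0,
  .o9 0,
  .o9 4,
  .o9 0,
  .o9 0,
  .o9 4,
  .o9 0,
  .o9 0,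
  .cj 4 [25,6,10],
  .cj 5 [9,32,29,6,26,6],
  .cj 4 [25,16,11,10,7],
  .o9 4,
  .o9 4,
  .o9 4,
  .o9 4,
  .o9 4,
  .o9 4,
  .o9 4,
  .o9 0,
  .o9 0,
  .o9 4,
  .o9 0,
  .o9 0,
  .o9 4,
  .o9 0,
  .o9 0,
  .o9 4,
  .o9 0,
  .o9 0,
  .o9 4,
  .o9 0,
  .o9 0,
  .o9 4,
  .o9 0,
  .o9 0,
  .cj 4 [30,10,9],
  .o9 4,
  .o9 4,
  .o9 4,
  .o9 4,
  .cj 4 [9,16,11,10,7],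
  .o9 4,
  .cj 5 [11,8,24,14,1],
  .o9 4,
  .o9 5,
  .o9 0,
  .o9 0,
  .o9 4,
  .o9 0,
  .o9 0,
  .o9 4,
  .o9 0,
  .o9 0,
  .o9 5,
  .o9 0,
  .o9 0,
  .o9 4,
  .o9 0,
  .o9 0,
  .o9 4,
  .o9 0,
  .o9 0,
  .cj 2 [14,8,7],
  .o9 4,
  .o9 4,
  .o9 4,
  .o9 4,
  .cj 6 [27,25,29,35,8],
  .o9 4,
  .cj 6 [11,17,8],
  .o9 4,
  .o9 4,
  .o9 0,
  .o9 0,
  .o9 4,
  .o9 0,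
  .o9 0,
  .o9 4,
  .o9 0,
  .o9 0,
  .o9 4,
  .o9 0,
  .o9 0,
  .o9 4,
  .o9 0,
  .o9 0,
  .o9 4,
  .o9 0,
  .o9 0,
  .cj 3 [7,14,8,7],
  .o9 4,
  .o9 4,
  .o9 4,
  .o9 4,
  .cj 5 [7,11,17,1],
  .o9 4,
  .cj 3 [36,9,16,10],
  .o9 4,
  .o9 4,
  .o9 0,
  .o9 0,
  .o9 4,
  .o9 0,
  .o9 0,
  .o9 4,
  .o9 0,
  .o9 0,
  .o9 4,
  .o9 0,
  .o9 0,
  .o9 4,
  .o9 0,
  .o9 0,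
  .o9 4,
  .o9 0,
  .o9 0,
  .cj 3 [27,8,11],
  .o9 4,
  .o9 4,
  .o9 4,
  .cj 3 [27,16,28,25],
  .o9 4,
  .o9 4,
  .o9 4,
  .cj 5 [29,35,6,1],
  .o9 5,
  .o9 0,
  .o9 0,
  .o9 4,
  .o9 0,
  .o9 0,
  .o9 4,
  .o9 0,
  .o9 0,
  .o9 5,
  .o9 0,
  .o9 0,
  .o9 4,
  .o9 0,
  .o9 0,
  .o9 4,
  .o9 0,
  .o9 0,
  .cj 4 [9,14,8,7],
  .o9 4,
  .o9 4,
  .o9 4,
  .cj 5 [24,31,29,26,6],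
  .o9 4,
  .o9 4,
  .o9 4,
  .cj 4 [11,9,34,10],
  .o9 4,
  .o9 0,
  .o9 0,
  .o9 4,
  .o9 0,
  .o9 0,
  .o9 4,
  .o9 0,
  .o9 0,
  .o9 4,
  .o9 0,
  .o9 0,
  .o9 4,
  .o9 0,
  .o9 0,
  .o9 4,
  .o9 0,
  .o9 0,
  .cj 2 [32,8,25],
  .o9 4,
  .o9 4,
  .o9 4,
  .cj 6 [9,7,11,17,8],
  .o9 4,
  .o9 4,
  .o9 4,
  .cj 6 [29,35,8],
  .o9 4,
  .o9 0,
  .o9 0,
  .o9 4,
  .o9 0,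
  .o9 0,
  .o9 4,
  .o9 0,
  .o9 0,
  .o9 4,
  .o9 0,
  .o9 0,
  .o9 4,
  .o9 0,
  .o9 0,
  .o9 4,
  .o9 0,
  .o9 0,
  .cj 2 [36,8,12],
  .cj 6 [27,25,11,35,8],
  .cj 6 [9,7,29,17,8],
  .o9 4,
  .o9 4,
  .o9 4,
  .o9 4,
  .o9 4,
  .o9 4,
  .o9 5,
  .o9 0,
  .o9 0,
  .o9 4,
  .o9 0,
  .o9 0,
  .o9 4,
  .o9 0,
  .o9 0,
  .o9 5,
  .o9 0,
  .o9 0,
  .o9 4,
  .o9 0,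
  .o9 0,
  .o9 4,
  .o9 0,
  .o9 0,
  .cj 3 [31,11,10,7],
  .cj 5 [9,29,17],
  .cj 3 [34,31,12,7],
  .o9 4,
  .o9 4,
  .o9 4,
  .o9 4,
  .o9 4,
  .o9 4,
  .o9 4,
  .o9 0,
  .o9 0,
  .o9 4,
  .o9 0,
  .o9 0,
  .o9 4,
  .o9 0,
  .o9 0,
  .o9 4,
  .o9 0,
  .o9 0,
  .o9 4,
  .o9 0,
  .o9 0,
  .o9 4,
  .o9 0,
  .o9 0,
  .cj 4 [25,6,10,7],
  .cj 4 [34,25,10],
  .cj 5 [27,6,13,11,26,6],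
  .o9 4,
  .o9 4,
  .o9 4,
  .o9 4,
  .o9 4,
  .o9 4,
  .o9 4,
  .o9 0,
  .o9 0,
  .o9 4,
  .o9 0,
  .o9 0,
  .o9 4,
  .o9 0,
  .o9 0,
  .o9 4,
  .o9 0,
  .o9 0,
  .o9 4,
  .o9 0,
  .o9 0,
  .o9 4,
  .o9 0,
  .o9 0,
  .cj 4 [30,11,10,9],
  .o9 4,
  .o9 4,
  .o9 4,
  .cj 4 [27,34,31,7],
  .o9 4,
  .o9 4,
  .o9 4,
  .cj 5 [13,29,8,24],
  .o9 5,
  .o9 0,
  .o9 0,
  .o9 4,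
  .o9 0,
  .o9 0,
  .o9 4,
  .o9 0,
  .o9 0,
  .o9 5,
  .o9 0,
  .o9 0,
  .o9 4,
  .o9 0,
  .o9 0,
  .o9 4,
  .o9 0,
  .o9 0,
  .cj 2 [14,10,8,7],
  .o9 4,
  .o9 4,
  .o9 4,
  .cj 6 [9,7,11,35,8],
  .o9 4,
  .o9 4,
  .o9 4,
  .cj 6 [29,17,8],
  .o9 4,
  .o9 0,
  .o9 0,
  .o9 4,
  .o9 0,
  .o9 0,
  .o9 4,
  .o9 0,
  .o9 0,
  .o9 4,
  .o9 0,
  .o9 0,
  .o9 4,
  .o9 0,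
  .o9 0,
  .o9 4,
  .o9 0,
  .o9 0,
  .cj 3 [13,7,11,9],
  .o9 4,
  .o9 4,
  .o9 4,
  .cj 5 [25,29,17],
  .o9 4,
  .o9 4,
  .o9 4,
  .cj 3 [27,34,26,12],
  .o9 4,
  .o9 0,
  .o9 0,
  .o9 4,
  .o9 0,
  .o9 0,
  .o9 4,
  .o9 0,
  .o9 0,
  .o9 4,
  .o9 0,
  .o9 0,
  .o9 4,
  .o9 0,
  .o9 0,
  .o9 4,
  .o9 0,
  .o9 0,
  .cj 3 [36,12,10,9],
  .o9 4,
  .o9 4,
  .o9 4,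
  .o9 4,
  .cj 3 [24,9,34,28],
  .o9 4,
  .cj 5 [7,11,35],
  .o9 4,
  .o9 5,
  .o9 0,
  .o9 0,
  .o9 4,
  .o9 0,
  .o9 0,
  .o9 4,
  .o9 0,
  .o9 0,
  .o9 5,
  .o9 0,
  .o9 0,
  .o9 4,
  .o9 0,
  .o9 0,
  .o9 4,
  .o9 0,
  .o9 0,
  .cj 4 [9,6,10,7],
  .o9 4,
  .o9 4,
  .o9 4,
  .o9 4,
  .cj 5 [25,32,11,26,6],
  .o9 4,
  .cj 4 [9,34,10],
  .o9 4,
  .o9 4,
  .o9 0,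
  .o9 0,
  .o9 4,
  .o9 0,
  .o9 0,
  .o9 4,
  .o9 0,
  .o9 0,
  .o9 4,
  .o9 0,
  .o9 0,
  .o9 4,
  .o9 0,
  .o9 0,
  .o9 4,
  .o9 0,
  .o9 0,
  .cj 2 [36,32,8,7],
  .o9 4,
  .o9 4,
  .o9 4,
  .o9 4,
  .cj 6 [27,25,29,17,8],
  .o9 4,
  .cj 6 [11,35,8],
  .o9 4,
  .o9 4,
  .o9 0,
  .o9 0,
  .o9 4,
  .o9 0,
  .o9 0,
  .o9 4,
  .o9 0,
  .o9 0,
  .o9 4,
  .o9 0,
  .o9 0,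
  .o9 4,
  .o9 0,
  .o9 0,
  .o9 4,
  .o9 0,
  .o9 0]

theorem h28_len_12 : h28_certs_12.length = 729 := by decide +kernel

theorem h28_chk_12 : chkAll 8748 h28_certs_12 = true := by decide +kernel

end Cfsg.Agent.Lib.Helper28.O73C
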