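import Cfsg.Agent.Lib.Helper28.O73C.Comp

/-! Project O73C (S5514): certificates for the parameters 9477 to 10205 (generated, helper28). -/

set_option autoImplicit false
set_option maxRecDepth 100000

namespace Cfsg.Agent.Lib.Helper28.O73C

/-- certificates, chunk 13 -/
def h28_certs_13 : List Cert :=
  [.cj 0 [9,6],
  .cj 6 [36,27,11,26,6],
  .cj 6 [9,29,8,24],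
  .cj 6 [36,14,17,14,6,1],
  .cj 6 [9,11,8,24],
  .cj 6 [36,17,14,13,5],
  .cj 6 [8,24,9],
  .cj 6 [25,11,8,24],
  .cj 6 [25,29,8,24],
  .cj 6 [9,8],
  .o9 4,
  .o9 4,
  .cj 2 [35,28,30,8,7],
  .o9 4,
  .o9 4,
  .cj 6 [26,24,14,17,14],
  .o9 4,
  .o9 4,
  .cj 6 [36,8,5,20,5],
  .o9 4,
  .o9 4,
  .cj 6 [8,2,6],
  .o9 4,
  .o9 4,
  .cj 1 [36,6,1],
  .o9 4,
  .o9 4,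
  .cj 3 [28,11,7],
  .cj 6 [27,13,11,8,24],
  .cj 6 [36,35,32,13,2,5],
  .cj 6 [36,35,32,24,1],
  .cj 6 [36,35,32,23,1],
  .cj 6 [36,35,32,6,5,1],
  .cj 6 [32,8,24,9,8],
  .cj 6 [36,13,11,26,6],
  .cj 6 [31,29,8,24],
  .cj 3 [35,10,7,14,8,7],
  .o9 4,
  .o9 4,
  .cj 5 [2,6],
  .o9 4,
  .o9 4,
  .cj 3 [36,17,29,10,9],
  .o9 4,
  .o9 4,
  .cj 5 [6,26,17,1],
  .o9 4,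
  .o9 4,
  .cj 5 [35,6,8],
  .o9 4,
  .o9 4,
  .cj 6 [17,32,26,1],
  .o9 4,
  .o9 4,
  .cj 4 [36,28,11,7],
  .cj 6 [31,27,11,8,24],
  .cj 6 [36,17,14,31,2,5],
  .cj 6 [36,24,17,14,1],
  .cj 6 [36,29,17,14,1],
  .cj 6 [36,17,14,6,5,1],
  .cj 6 [8,24,14,9,8],
  .cj 6 [36,31,11,26,6],
  .cj 6 [13,29,8,24],
  .cj 4 [17,11,9,14,8,7],
  .o9 4,
  .o9 4,
  .cj 5 [35,8,24,14,13],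
  .o9 4,
  .o9 4,
  .cj 4 [35,29,10,9],
  .o9 4,
  .o9 4,
  .cj 5 [17,14,8,1],
  .o9 4,
  .o9 4,
  .cj 5 [14,8,6],
  .o9 4,
  .o9 4,
  .cj 6 [35,26,14,1],
  .o9 4,
  .o9 4,
  .cj 4 [29,12,10,9],
  .o9 4,
  .o9 4,
  .cj 4 [35,8,29,8,7],
  .o9 4,
  .o9 4,
  .cj 5 [8,24,14],
  .o9 4,
  .o9 4,
  .cj 6 [26,14,9],
  .o9 4,
  .o9 4,
  .cj 5 [35,14,13,8],
  .o9 4,
  .o9 4,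
  .cj 5 [32,24,26,1],
  .o9 4,
  .o9 4,
  .cj 6 [36,32,5,20,5],
  .cj 6 [36,32,1,23,1],
  .cj 6 [17,9,29,8,24],
  .cj 4 [17,10,25,6,10],
  .cj 6 [36,27,32,24,23],
  .cj 6 [36,32,31,5],
  .cj 6 [36,35,24,14],
  .cj 6 [36,9,32,23,1],
  .cj 6 [36,24,13,32,5],
  .cj 2 [28,30,8,7],
  .o9 4,
  .o9 4,
  .cj 6 [32,35,26,24],
  .o9 4,
  .o9 4,
  .cj 6 [17,9,8],
  .o9 4,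
  .o9 4,
  .cj 6 [17,8,2,6],
  .o9 4,
  .o9 4,
  .cj 1 [14,2,6],
  .o9 4,
  .o9 4,
  .cj 6 [32,35,24,8,6],
  .o9 4,
  .o9 4,
  .cj 6 [36,32,35,6,1],
  .cj 6 [36,13,32,1,23,1],
  .cj 6 [36,24,9,32,5],
  .cj 6 [8,24,17,9],
  .cj 6 [36,32,24,23,17],
  .cj 6 [36,27,32,24,5],
  .cj 0 [17,9,6],
  .cj 6 [36,32,2,23],
  .cj 6 [36,32,9,5],
  .cj 3 [6,28,8,7],
  .o9 4,
  .o9 4,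
  .cj 5 [17,6,1],
  .o9 4,
  .o9 4,
  .cj 3 [35,11,27,8,11],
  .o9 4,
  .o9 4,
  .cj 5 [35,6,26],
  .o9 4,
  .o9 4,
  .cj 5 [2,6,8],
  .o9 4,
  .o9 4,
  .cj 6 [35,32,26],
  .o9 4,
  .o9 4,
  .cj 3 [17,28,13,11,7],
  .cj 6 [36,31,32,23,1],
  .cj 6 [36,35,24,14,5],
  .cj 6 [36,32,24,9],
  .cj 6 [36,32,20,23,6],
  .cj 6 [36,32,20,5],
  .cj 6 [17,32,8,24,8,1],
  .cj 6 [36,32,19,13,23],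
  .cj 6 [36,31,32,6,5,1],
  .cj 3 [8,11,27],
  .o9 4,
  .o9 4,
  .cj 3 [17,29,25,14,9],
  .o9 4,
  .o9 4,
  .cj 5 [35,6],
  .o9 4,
  .o9 4,
  .cj 6 [32,26,9],
  .o9 4,
  .o9 4,
  .cj 5 [6,26,13],
  .o9 4,
  .o9 4,
  .cj 5 [17,6,8,1],
  .o9 4,
  .o9 4,
  .cj 6 [36,14,5,20,5],
  .cj 6 [36,14,1,23,1],
  .cj 6 [35,9,29,8,24],
  .cj 3 [35,7,28,11,7],
  .cj 6 [36,27,24,14,23],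
  .cj 6 [36,14,13,5],
  .cj 6 [36,17,32,24],
  .cj 6 [36,9,14,23,1],
  .cj 6 [36,24,31,14,5],
  .cj 4 [28,27,14,7],
  .o9 4,
  .o9 4,
  .cj 5 [32,24,26,6,1],
  .o9 4,
  .o9 4,
  .cj 4 [17,9,29,10,9],
  .o9 4,
  .o9 4,
  .cj 5 [14,8],
  .o9 4,
  .o9 4,
  .cj 5 [35,14,8,2,6],
  .o9 4,
  .o9 4,
  .cj 6 [26,17,14],
  .o9 4,
  .o9 4,
  .cj 4 [35,6,10,25],
  .cj 6 [36,13,14,23,1],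
  .cj 6 [36,17,32,24,5],
  .cj 6 [36,24,14,9],
  .cj 6 [36,20,14,23,6],
  .cj 6 [36,20,14,5],
  .cj 6 [35,8,24,14,8,1],
  .cj 6 [36,14,31,19,23],
  .cj 6 [36,13,14,6,5,1],
  .cj 2 [11,31,8,25],
  .o9 4,
  .o9 4,
  .cj 6 [26,24,14,17],
  .o9 4,
  .o9 4,
  .cj 6 [35,9,8],
  .o9 4,
  .o9 4,
  .cj 6 [35,8,2,6],
  .o9 4,
  .o9 4,
  .cj 1 [32,2,6],
  .o9 4,
  .o9 4,
  .cj 6 [24,14,17,8,6],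
  .o9 4,
  .o9 4,
  .cj 6 [36,14,17,6,1],
  .cj 6 [36,31,14,1,23,1],
  .cj 6 [36,24,9,14,5],
  .cj 6 [35,8,24,9],
  .cj 6 [36,17,32,24,23],
  .cj 6 [36,27,24,14,5],
  .cj 0 [35,9,6],
  .cj 6 [36,14,2,23],
  .cj 6 [36,14,9,5],
  .cj 3 [8,11],
  .cj 3 [16,28,25],
  .cj 5 [27,24,11,17],
  .o9 4,
  .o9 4,
  .o9 4,
  .o9 4,
  .o9 4,
  .o9 4,
  .o9 5,
  .o9 0,
  .o9 0,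
  .o9 4,
  .o9 0,
  .o9 0,
  .o9 4,
  .o9 0,
  .o9 0,
  .o9 5,
  .o9 0,
  .o9 0,
  .o9 4,
  .o9 0,
  .o9 0,
  .o9 4,
  .o9 0,
  .o9 0,
  .cj 4 [31,14,7],
  .cj 5 [9,24,31,29,26,6],
  .cj 4 [36,12,16,13],
  .o9 4,
  .o9 4,
  .o9 4,
  .o9 4,
  .o9 4,
  .o9 4,
  .o9 4,
  .o9 0,
  .o9 0,
  .o9 4,
  .o9 0,
  .o9 0,
  .o9 4,
  .o9 0,
  .o9 0,
  .o9 4,
  .o9 0,
  .o9 0,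
  .o9 4,
  .o9 0,
  .o9 0,
  .o9 4,
  .o9 0,
  .o9 0,
  .cj 2 [31,30,25],
  .cj 6 [27,7,11,17,8],
  .cj 6 [9,29,35,8],
  .o9 4,
  .o9 4,
  .o9 4,
  .o9 4,
  .o9 4,
  .o9 4,
  .o9 4,
  .o9 0,
  .o9 0,
  .o9 4,
  .o9 0,
  .o9 0,
  .o9 4,
  .o9 0,
  .o9 0,
  .o9 4,
  .o9 0,
  .o9 0,
  .o9 4,
  .o9 0,
  .o9 0,
  .o9 4,
  .o9 0,
  .o9 0,
  .cj 2 [30,14,9],
  .o9 4,
  .o9 4,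
  .o9 4,
  .o9 4,
  .cj 6 [27,7,29,35,8],
  .o9 4,
  .cj 6 [25,11,17,8],
  .o9 4,
  .o9 5,
  .o9 0,
  .o9 0,
  .o9 4,
  .o9 0,
  .o9 0,
  .o9 4,
  .o9 0,
  .o9 0,
  .o9 5,
  .o9 0,
  .o9 0,
  .o9 4,
  .o9 0,
  .o9 0,
  .o9 4,
  .o9 0,
  .o9 0,
  .cj 3 [14,8,7],
  .o9 4,
  .o9 4,
  .o9 4,
  .o9 4,
  .cj 5 [11,17,1],
  .o9 4,
  .cj 3 [9,16,31,10,7],
  .o9 4,
  .o9 4,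
  .o9 0,
  .o9 0,
  .o9 4,
  .o9 0,
  .o9 0,
  .o9 4,
  .o9 0,
  .o9 0,
  .o9 4,
  .o9 0,
  .o9 0,
  .o9 4,
  .o9 0,
  .o9 0,
  .o9 4,
  .o9 0,
  .o9 0,
  .cj 4 [7,14,8,7],
  .o9 4,
  .o9 4,
  .o9 4,
  .o9 4,
  .cj 4 [24,9,16,10,7],
  .o9 4,
  .cj 5 [11,8,24,14,8],
  .o9 4,
  .o9 4,
  .o9 0,
  .o9 0,
  .o9 4,
  .o9 0,
  .o9 0,
  .o9 4,
  .o9 0,
  .o9 0,
  .o9 4,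
  .o9 0,
  .o9 0,
  .o9 4,
  .o9 0,
  .o9 0,
  .o9 4,
  .o9 0,
  .o9 0,
  .cj 4 [27,6,10],
  .o9 4,
  .o9 4,
  .o9 4,
  .cj 5 [32,29,26,6,1],
  .o9 4,
  .o9 4,
  .o9 4,
  .cj 4 [27,16,11,10,7],
  .o9 5,
  .o9 0,
  .o9 0,
  .o9 4,
  .o9 0,
  .o9 0,
  .o9 4,
  .o9 0,
  .o9 0,
  .o9 5,
  .o9 0,
  .o9 0,
  .o9 4,
  .o9 0,
  .o9 0,
  .o9 4,
  .o9 0,
  .o9 0,
  .cj 2 [9,14,8,7],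
  .o9 4,
  .o9 4,
  .o9 4,
  .cj 6 [9,11,17,8],
  .o9 4,
  .o9 4,
  .o9 4,
  .cj 6 [25,29,35,8],
  .o9 4,
  .o9 0,
  .o9 0,
  .o9 4,
  .o9 0,
  .o9 0,
  .o9 4,
  .o9 0,
  .o9 0,
  .o9 4,
  .o9 0,
  .o9 0,
  .o9 4,
  .o9 0,
  .o9 0,
  .o9 4,
  .o9 0,
  .o9 0,
  .cj 3 [8,25,11],
  .o9 4,
  .o9 4,
  .o9 4,
  .cj 3 [36,27,16,10],
  .o9 4,
  .o9 4,
  .o9 4,
  .cj 5 [29,35,24],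
  .o9 4,
  .o9 0,
  .o9 0,
  .o9 4,
  .o9 0,
  .o9 0,
  .o9 4,
  .o9 0,
  .o9 0,
  .o9 4,
  .o9 0,
  .o9 0,
  .o9 4,
  .o9 0,
  .o9 0,
  .o9 4,
  .o9 0,
  .o9 0,
  .cj 4 [36,8,11],
  .cj 4 [34,31,7],
  .cj 5 [27,32,11,26,6],
  .o9 4,
  .o9 4,
  .o9 4,
  .o9 4,
  .o9 4,
  .o9 4,
  .o9 5,
  .o9 0,
  .o9 0,
  .o9 4,
  .o9 0,
  .o9 0,
  .o9 4,
  .o9 0,
  .o9 0,
  .o9 5,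
  .o9 0,
  .o9 0,
  .o9 4,
  .o9 0,
  .o9 0,
  .o9 4,
  .o9 0,
  .o9 0,
  .cj 2 [13,12,10,7],
  .cj 6 [27,7,11,35,8],
  .cj 6 [9,29,17,8],
  .o9 4,
  .o9 4,
  .o9 4,
  .o9 4,
  .o9 4,
  .o9 4,
  .o9 4,
  .o9 0,
  .o9 0,
  .o9 4,
  .o9 0,
  .o9 0,
  .o9 4,
  .o9 0,
  .o9 0,
  .o9 4,
  .o9 0,
  .o9 0,
  .o9 4,
  .o9 0,
  .o9 0,
  .o9 4,
  .o9 0,
  .o9 0,
  .cj 3 [28,25,11],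
  .cj 5 [25,9,29,17],
  .cj 3 [34,26,12],
  .o9 4,
  .o9 4,
  .o9 4,
  .o9 4,
  .o9 4,
  .o9 4,
  .o9 4,
  .o9 0,
  .o9 0,
  .o9 4,
  .o9 0,
  .o9 0,
  .o9 4,
  .o9 0,
  .o9 0,
  .o9 4,
  .o9 0,
  .o9 0,
  .o9 4,
  .o9 0,
  .o9 0,
  .o9 4,
  .o9 0,
  .o9 0,
  .cj 3 [8,11,9],
  .o9 4,
  .o9 4,
  .o9 4,
  .cj 5 [7,29,17],
  .o9 4,
  .o9 4,
  .o9 4,
  .cj 3 [24,27,34,31,7],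
  .o9 5,
  .o9 0,
  .o9 0,
  .o9 4,
  .o9 0,
  .o9 0,
  .o9 4,
  .o9 0,
  .o9 0,
  .o9 5,
  .o9 0,
  .o9 0,
  .o9 4,
  .o9 0,
  .o9 0,
  .o9 4,
  .o9 0,
  .o9 0,
  .cj 4 [12,10,8,7],
  .o9 4,
  .o9 4,
  .o9 4,
  .cj 4 [27,34,10],
  .o9 4,
  .o9 4,
  .o9 4,
  .cj 5 [36,29,26,14,6],
  .o9 4,
  .o9 0,
  .o9 0,
  .o9 4,
  .o9 0,
  .o9 0,
  .o9 4,
  .o9 0,
  .o9 0,
  .o9 4,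
  .o9 0,
  .o9 0,
  .o9 4,
  .o9 0,
  .o9 0,
  .o9 4,
  .o9 0,
  .o9 0,
  .cj 2 [11,25,14,9],
  .o9 4,
  .o9 4,
  .o9 4,
  .cj 6 [9,11,35,8],
  .o9 4,
  .o9 4,
  .o9 4,
  .cj 6 [25,29,17,8],
  .o9 4,
  .o9 0,
  .o9 0,
  .o9 4,
  .o9 0,
  .o9 0,
  .o9 4,
  .o9 0,
  .o9 0,
  .o9 4,
  .o9 0,
  .o9 0,
  .o9 4,
  .o9 0,
  .o9 0,
  .o9 4,
  .o9 0,
  .o9 0,
  .cj 2 [36,8,12,9],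
  .o9 4,
  .o9 4,
  .o9 4,
  .o9 4,
  .cj 6 [27,7,29,17,8],
  .o9 4,
  .cj 6 [25,11,35,8],
  .o9 4,
  .o9 5,
  .o9 0,
  .o9 0,
  .o9 4,
  .o9 0,
  .o9 0,
  .o9 4,
  .o9 0,
  .o9 0,
  .o9 5,
  .o9 0,
  .o9 0,
  .o9 4,
  .o9 0,
  .o9 0,
  .o9 4,
  .o9 0,
  .o9 0,
  .cj 3 [8,11,8,7],
  .o9 4,
  .o9 4,
  .o9 4,
  .o9 4,
  .cj 3 [9,34,31,12,7],
  .o9 4,
  .cj 5 [11,35],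
  .o9 4,
  .o9 4,
  .o9 0,
  .o9 0,
  .o9 4,
  .o9 0,
  .o9 0,
  .o9 4,
  .o9 0,
  .o9 0,
  .o9 4,
  .o9 0,
  .o9 0,
  .o9 4,
  .o9 0,
  .o9 0,
  .o9 4,
  .o9 0,
  .o9 0,
  .cj 4 [36,32,8,7],
  .o9 4,
  .o9 4,
  .o9 4,
  .o9 4,
  .cj 5 [6,13,11,26,6],
  .o9 4,
  .cj 4 [9,34,25,10],
  .o9 4,
  .o9 4,
  .o9 0,
  .o9 0,
  .o9 4,
  .o9 0,
  .o9 0,
  .o9 4,
  .o9 0,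
  .o9 0,
  .o9 4,
  .o9 0,
  .o9 0,
  .o9 4,
  .o9 0,
  .o9 0,
  .o9 4,
  .o9 0,
  .o9 0]

theorem h28_len_13 : h28_certs_13.length = 729 := by decide +kernel

theorem h28_chk_13 : chkAll 9477 h28_certs_13 = true := by decide +kernel

end Cfsg.Agent.Lib.Helper28.O73C
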