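import Cfsg.Agent.Lib.Helper28.O73C.Comp

/-! Project O73C (S5514): certificates for the parameters 10206 to 10934 (generated, helper28). -/

set_option autoImplicit false
set_option maxRecDepth 100000

namespace Cfsg.Agent.Lib.Helper28.O73C

/-- certificates, chunk 14 -/
def h28_certs_14 : List Cert :=
  [.cj 0 [7,6],
  .cj 6 [27,11,8,24],
  .cj 6 [25,9,29,8,24],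
  .cj 6 [24,26,5,20,1,5],
  .cj 6 [36,35,32,13,23],
  .cj 6 [27,29,8,24],
  .cj 6 [8,24,1],
  .cj 6 [36,11,26,6],
  .cj 6 [7,29,8,24],
  .cj 6 [8,1],
  .o9 4,
  .o9 4,
  .cj 2 [35,29,31,8,7],
  .o9 4,
  .o9 4,
  .cj 6 [36,8,5,20,1,5],
  .o9 4,
  .o9 4,
  .cj 6 [24,26,5,20,6,5],
  .o9 4,
  .o9 4,
  .cj 6 [8,6,1],
  .o9 4,
  .o9 4,
  .cj 1 [26,24,1],
  .o9 4,
  .o9 4,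
  .cj 3 [28,13,11,7],
  .cj 6 [36,17,31,14,23,1],
  .cj 6 [31,9,29,8,24],
  .cj 6 [36,35,32,24,9],
  .cj 6 [36,35,32,1,23,1],
  .cj 6 [36,35,32,9,5],
  .cj 6 [32,8,24,8,1],
  .cj 6 [13,11,8,24],
  .cj 6 [36,32,29,26,6],
  .cj 3 [35,6,28,8,7],
  .o9 4,
  .o9 4,
  .cj 5 [6,1],
  .o9 4,
  .o9 4,
  .cj 3 [17,11,27,8,11],
  .o9 4,
  .o9 4,
  .cj 5 [6,26,17],
  .o9 4,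
  .o9 4,
  .cj 5 [35,2,6,8],
  .o9 4,
  .o9 4,
  .cj 6 [17,32,26],
  .o9 4,
  .o9 4,
  .cj 4 [6,10,25],
  .cj 6 [36,9,29,17,14,1],
  .cj 6 [13,9,29,8,24],
  .cj 6 [36,24,17,14,9],
  .cj 6 [36,25,29,17,14,1],
  .cj 6 [36,17,14,9,5],
  .cj 6 [8,24,14,8,1],
  .cj 6 [31,11,8,24],
  .cj 6 [36,29,26,14,6],
  .cj 4 [17,28,27,14,7],
  .o9 4,
  .o9 4,
  .cj 5 [35,8,24,14,1],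
  .o9 4,
  .o9 4,
  .cj 4 [35,9,29,10,9],
  .o9 4,
  .o9 4,
  .cj 5 [17,14,8],
  .o9 4,
  .o9 4,
  .cj 5 [14,8,2,6],
  .o9 4,
  .o9 4,
  .cj 6 [35,26,14],
  .o9 4,
  .o9 4,
  .cj 4 [29,10,9],
  .o9 4,
  .o9 4,
  .cj 4 [35,11,9,14,8,7],
  .o9 4,
  .o9 4,
  .cj 5 [8,24,14,13],
  .o9 4,
  .o9 4,
  .cj 6 [26,14,1],
  .o9 4,
  .o9 4,
  .cj 5 [35,14,8,1],
  .o9 4,
  .o9 4,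
  .cj 5 [32,24,26],
  .o9 4,
  .o9 4,
  .cj 6 [36,32,5,20,9,5],
  .cj 6 [36,32,24,23],
  .cj 6 [36,32,2,6,5],
  .cj 4 [36,17,28,11,7],
  .cj 6 [36,27,32,23,1],
  .cj 6 [36,32,31,1,5],
  .cj 6 [36,35,24,14,1],
  .cj 6 [36,9,32,1,23,1],
  .cj 6 [36,13,32,9,5],
  .cj 2 [29,31,8,7],
  .o9 4,
  .o9 4,
  .cj 6 [32,35,26,24,9],
  .o9 4,
  .o9 4,
  .cj 6 [17,8,1],
  .o9 4,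
  .o9 4,
  .cj 6 [17,8,6,1],
  .o9 4,
  .o9 4,
  .cj 1 [14,6,1],
  .o9 4,
  .o9 4,
  .cj 6 [36,8,5,31,20,5],
  .o9 4,
  .o9 4,
  .cj 6 [36,32,35,2,6],
  .cj 6 [36,13,32,24,23],
  .cj 6 [36,9,32,9,5],
  .cj 6 [8,24,17,1],
  .cj 6 [36,32,23,17,1],
  .cj 6 [36,27,32,6,5,1],
  .cj 0 [17,7,6],
  .cj 6 [36,32,2,1,23],
  .cj 6 [36,32,24,5],
  .cj 3 [29,25,14,9],
  .o9 4,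
  .o9 4,
  .cj 5 [17,6],
  .o9 4,
  .o9 4,
  .cj 3 [35,8,11,27],
  .o9 4,
  .o9 4,
  .cj 5 [35,6,26,13],
  .o9 4,
  .o9 4,
  .cj 5 [6,8,1],
  .o9 4,
  .o9 4,
  .cj 6 [35,32,26,9],
  .o9 4,
  .o9 4,
  .cj 3 [17,7,28,11,7],
  .cj 6 [36,17,11,26,6],
  .cj 6 [36,32,13,6,5],
  .cj 6 [36,32,24],
  .cj 6 [27,17,11,8,24],
  .cj 6 [36,32,20,1,5],
  .cj 6 [17,32,8,24,8],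
  .cj 6 [36,32,13,23],
  .cj 6 [36,31,32,9,5],
  .cj 3 [36,29,10,9],
  .o9 4,
  .o9 4,
  .cj 3 [17,10,7,14,8,7],
  .o9 4,
  .o9 4,
  .cj 5 [35,2,6],
  .o9 4,
  .o9 4,
  .cj 6 [32,26,1],
  .o9 4,
  .o9 4,
  .cj 5 [6,26,1],
  .o9 4,
  .o9 4,
  .cj 5 [17,6,8],
  .o9 4,
  .o9 4,
  .cj 6 [36,14,5,20,9,5],
  .cj 6 [36,24,14,23],
  .cj 6 [36,14,2,6,5],
  .cj 3 [35,28,11,7],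
  .cj 6 [36,27,14,23,1],
  .cj 6 [36,14,13,1,5],
  .cj 6 [36,17,32,24,1],
  .cj 6 [36,9,14,1,23,1],
  .cj 6 [36,31,14,9,5],
  .cj 4 [8,29,8,7],
  .o9 4,
  .o9 4,
  .cj 5 [32,24,26,6],
  .o9 4,
  .o9 4,
  .cj 4 [17,29,12,10,9],
  .o9 4,
  .o9 4,
  .cj 5 [14,13,8],
  .o9 4,
  .o9 4,
  .cj 5 [35,14,8,6,1],
  .o9 4,
  .o9 4,
  .cj 6 [26,17,14,9],
  .o9 4,
  .o9 4,
  .cj 4 [35,10,25,6,10],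
  .cj 6 [36,35,11,26,6],
  .cj 6 [36,14,31,6,5],
  .cj 6 [36,24,14],
  .cj 6 [35,27,11,8,24],
  .cj 6 [36,20,14,1,5],
  .cj 6 [35,8,24,14,8],
  .cj 6 [36,14,31,23],
  .cj 6 [36,13,14,9,5],
  .cj 2 [10,30,8,25],
  .o9 4,
  .o9 4,
  .cj 6 [26,24,14,17,9],
  .o9 4,
  .o9 4,
  .cj 6 [35,8,1],
  .o9 4,
  .o9 4,
  .cj 6 [35,8,6,1],
  .o9 4,
  .o9 4,
  .cj 1 [32,6,1],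
  .o9 4,
  .o9 4,
  .cj 6 [36,8,5,20,13,5],
  .o9 4,
  .o9 4,
  .cj 6 [36,14,17,2,6],
  .cj 6 [36,31,24,14,23],
  .cj 6 [36,9,14,9,5],
  .cj 6 [35,8,24,1],
  .cj 6 [36,17,32,23,1],
  .cj 6 [36,27,14,6,5,1],
  .cj 0 [35,7,6],
  .cj 6 [36,14,2,1,23],
  .cj 6 [36,24,14,5],
  .cj 4 [6,10],
  .cj 5 [9,32,29,26,6,1],
  .cj 4 [16,11,10,7],
  .o9 4,
  .o9 4,
  .o9 4,
  .o9 4,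
  .o9 4,
  .o9 4,
  .o9 5,
  .o9 0,
  .o9 0,
  .o9 4,
  .o9 0,
  .o9 0,
  .o9 4,
  .o9 0,
  .o9 0,
  .o9 5,
  .o9 0,
  .o9 0,
  .o9 4,
  .o9 0,
  .o9 0,
  .o9 4,
  .o9 0,
  .o9 0,
  .cj 2 [31,14,7],
  .cj 6 [27,11,17,8],
  .cj 6 [25,9,29,35,8],
  .o9 4,
  .o9 4,
  .o9 4,
  .o9 4,
  .o9 4,
  .o9 4,
  .o9 4,
  .o9 0,
  .o9 0,
  .o9 4,
  .o9 0,
  .o9 0,
  .o9 4,
  .o9 0,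
  .o9 0,
  .o9 4,
  .o9 0,
  .o9 0,
  .o9 4,
  .o9 0,
  .o9 0,
  .o9 4,
  .o9 0,
  .o9 0,
  .cj 3 [25,8,11],
  .cj 3 [36,16,10],
  .cj 5 [9,29,35,24],
  .o9 4,
  .o9 4,
  .o9 4,
  .o9 4,
  .o9 4,
  .o9 4,
  .o9 4,
  .o9 0,
  .o9 0,
  .o9 4,
  .o9 0,
  .o9 0,
  .o9 4,
  .o9 0,
  .o9 0,
  .o9 4,
  .o9 0,
  .o9 0,
  .o9 4,
  .o9 0,
  .o9 0,
  .o9 4,
  .o9 0,
  .o9 0,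
  .cj 3 [30,14,9],
  .o9 4,
  .o9 4,
  .o9 4,
  .o9 4,
  .cj 5 [24,11,17],
  .o9 4,
  .cj 3 [9,16,28,25],
  .o9 4,
  .o9 5,
  .o9 0,
  .o9 0,
  .o9 4,
  .o9 0,
  .o9 0,
  .o9 4,
  .o9 0,
  .o9 0,
  .o9 5,
  .o9 0,
  .o9 0,
  .o9 4,
  .o9 0,
  .o9 0,
  .o9 4,
  .o9 0,
  .o9 0,
  .cj 4 [14,8,7],
  .o9 4,
  .o9 4,
  .o9 4,
  .o9 4,
  .cj 4 [29,27,34,11,10],
  .o9 4,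
  .cj 5 [6,31,11,8,24],
  .o9 4,
  .o9 4,
  .o9 0,
  .o9 0,
  .o9 4,
  .o9 0,
  .o9 0,
  .o9 4,
  .o9 0,
  .o9 0,
  .o9 4,
  .o9 0,
  .o9 0,
  .o9 4,
  .o9 0,
  .o9 0,
  .o9 4,
  .o9 0,
  .o9 0,
  .cj 2 [7,14,8,7],
  .o9 4,
  .o9 4,
  .o9 4,
  .o9 4,
  .cj 6 [27,29,35,8],
  .o9 4,
  .cj 6 [7,11,17,8],
  .o9 4,
  .o9 4,
  .o9 0,
  .o9 0,
  .o9 4,
  .o9 0,
  .o9 0,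
  .o9 4,
  .o9 0,
  .o9 0,
  .o9 4,
  .o9 0,
  .o9 0,
  .o9 4,
  .o9 0,
  .o9 0,
  .o9 4,
  .o9 0,
  .o9 0,
  .cj 2 [8,30,27],
  .o9 4,
  .o9 4,
  .o9 4,
  .cj 6 [25,9,11,17,8],
  .o9 4,
  .o9 4,
  .o9 4,
  .cj 6 [7,29,35,8],
  .o9 5,
  .o9 0,
  .o9 0,
  .o9 4,
  .o9 0,
  .o9 0,
  .o9 4,
  .o9 0,
  .o9 0,
  .o9 5,
  .o9 0,
  .o9 0,
  .o9 4,
  .o9 0,
  .o9 0,
  .o9 4,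
  .o9 0,
  .o9 0,
  .cj 3 [9,14,8,7],
  .o9 4,
  .o9 4,
  .o9 4,
  .cj 3 [27,16,31,10,7],
  .o9 4,
  .o9 4,
  .o9 4,
  .cj 5 [29,35,13],
  .o9 4,
  .o9 0,
  .o9 0,
  .o9 4,
  .o9 0,
  .o9 0,
  .o9 4,
  .o9 0,
  .o9 0,
  .o9 4,
  .o9 0,
  .o9 0,
  .o9 4,
  .o9 0,
  .o9 0,
  .o9 4,
  .o9 0,
  .o9 0,
  .cj 4 [6,27,10],
  .o9 4,
  .o9 4,
  .o9 4,
  .cj 5 [32,29,6,26,6],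
  .o9 4,
  .o9 4,
  .o9 4,
  .cj 4 [7,11,9,34,10],
  .o9 4,
  .o9 0,
  .o9 0,
  .o9 4,
  .o9 0,
  .o9 0,
  .o9 4,
  .o9 0,
  .o9 0,
  .o9 4,
  .o9 0,
  .o9 0,
  .o9 4,
  .o9 0,
  .o9 0,
  .o9 4,
  .o9 0,
  .o9 0,
  .cj 3 [36,6,10],
  .cj 5 [9,7,29,17],
  .cj 3 [34,31,25,12],
  .o9 4,
  .o9 4,
  .o9 4,
  .o9 4,
  .o9 4,
  .o9 4,
  .o9 5,
  .o9 0,
  .o9 0,
  .o9 4,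
  .o9 0,
  .o9 0,
  .o9 4,
  .o9 0,
  .o9 0,
  .o9 5,
  .o9 0,
  .o9 0,
  .o9 4,
  .o9 0,
  .o9 0,
  .o9 4,
  .o9 0,
  .o9 0,
  .cj 4 [6,10,7],
  .cj 4 [34,10],
  .cj 5 [36,9,29,26,14,6],
  .o9 4,
  .o9 4,
  .o9 4,
  .o9 4,
  .o9 4,
  .o9 4,
  .o9 4,
  .o9 0,
  .o9 0,
  .o9 4,
  .o9 0,
  .o9 0,
  .o9 4,
  .o9 0,
  .o9 0,
  .o9 4,
  .o9 0,
  .o9 0,
  .o9 4,
  .o9 0,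
  .o9 0,
  .o9 4,
  .o9 0,
  .o9 0,
  .cj 2 [36,13,12,7],
  .cj 6 [27,11,35,8],
  .cj 6 [25,9,29,17,8],
  .o9 4,
  .o9 4,
  .o9 4,
  .o9 4,
  .o9 4,
  .o9 4,
  .o9 4,
  .o9 0,
  .o9 0,
  .o9 4,
  .o9 0,
  .o9 0,
  .o9 4,
  .o9 0,
  .o9 0,
  .o9 4,
  .o9 0,
  .o9 0,
  .o9 4,
  .o9 0,
  .o9 0,
  .o9 4,
  .o9 0,
  .o9 0,
  .cj 2 [8,12,11,9],
  .o9 4,
  .o9 4,
  .o9 4,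
  .cj 6 [25,9,11,35,8],
  .o9 4,
  .o9 4,
  .o9 4,
  .cj 6 [7,29,17,8],
  .o9 5,
  .o9 0,
  .o9 0,
  .o9 4,
  .o9 0,
  .o9 0,
  .o9 4,
  .o9 0,
  .o9 0,
  .o9 5,
  .o9 0,
  .o9 0,
  .o9 4,
  .o9 0,
  .o9 0,
  .o9 4,
  .o9 0,
  .o9 0,
  .cj 3 [13,11,8,7],
  .o9 4,
  .o9 4,
  .o9 4,
  .cj 5 [29,17],
  .o9 4,
  .o9 4,
  .o9 4,
  .cj 3 [24,27,34,28],
  .o9 4,
  .o9 0,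
  .o9 0,
  .o9 4,
  .o9 0,
  .o9 0,
  .o9 4,
  .o9 0,
  .o9 0,
  .o9 4,
  .o9 0,
  .o9 0,
  .o9 4,
  .o9 0,
  .o9 0,
  .o9 4,
  .o9 0,
  .o9 0,
  .cj 4 [6,10,8,7],
  .o9 4,
  .o9 4,
  .o9 4,
  .cj 4 [27,34,25,10],
  .o9 4,
  .o9 4,
  .o9 4,
  .cj 5 [13,29,8,24,8],
  .o9 4,
  .o9 0,
  .o9 0,
  .o9 4,
  .o9 0,
  .o9 0,
  .o9 4,
  .o9 0,
  .o9 0,
  .o9 4,
  .o9 0,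
  .o9 0,
  .o9 4,
  .o9 0,
  .o9 0,
  .o9 4,
  .o9 0,
  .o9 0,
  .cj 4 [29,27,10],
  .o9 4,
  .o9 4,
  .o9 4,
  .o9 4,
  .cj 5 [32,11,26,6],
  .o9 4,
  .cj 4 [9,34,31,7],
  .o9 4,
  .o9 5,
  .o9 0,
  .o9 0,
  .o9 4,
  .o9 0,
  .o9 0,
  .o9 4,
  .o9 0,
  .o9 0,
  .o9 5,
  .o9 0,
  .o9 0,
  .o9 4,
  .o9 0,
  .o9 0,
  .o9 4,
  .o9 0,
  .o9 0,
  .cj 2 [10,27,14,7],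
  .o9 4,
  .o9 4,
  .o9 4,
  .o9 4,
  .cj 6 [27,29,17,8],
  .o9 4,
  .cj 6 [7,11,35,8],
  .o9 4,
  .o9 4,
  .o9 0,
  .o9 0,
  .o9 4,
  .o9 0,
  .o9 0,
  .o9 4,
  .o9 0,
  .o9 0,
  .o9 4,
  .o9 0,
  .o9 0,
  .o9 4,
  .o9 0,
  .o9 0,
  .o9 4,
  .o9 0,
  .o9 0,
  .cj 3 [36,32,8,7],
  .o9 4,
  .o9 4,
  .o9 4,
  .o9 4,
  .cj 3 [9,34,26,12],
  .o9 4,
  .cj 5 [25,11,35],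
  .o9 4,
  .o9 4,
  .o9 0,
  .o9 0,
  .o9 4,
  .o9 0,
  .o9 0,
  .o9 4,
  .o9 0,
  .o9 0,
  .o9 4,
  .o9 0,
  .o9 0,
  .o9 4,
  .o9 0,
  .o9 0,
  .o9 4,
  .o9 0,
  .o9 0]

theorem h28_len_14 : h28_certs_14.length = 729 := by decide +kernel

theorem h28_chk_14 : chkAll 10206 h28_certs_14 = true := by decide +kernel

end Cfsg.Agent.Lib.Helper28.O73C
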