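import Cfsg.Agent.Lib.Helper28.O73C.Comp

/-! Project O73C (S5514): certificates for the parameters 10935 to 11663 (generated, helper28). -/

set_option autoImplicit false
set_option maxRecDepth 100000

namespace Cfsg.Agent.Lib.Helper28.O73C

/-- certificates, chunk 15 -/
def h28_certs_15 : List Cert :=
  [.cj 0 [24],
  .cj 6 [27,11,8,24,8,1],
  .cj 6 [9,7,29,8,24,1],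
  .cj 6 [26,6,5,20,5],
  .cj 6 [9,11,8,24,9],
  .cj 6 [27,29,8,24,1],
  .cj 6 [6,8,24],
  .cj 6 [11,6,8,24],
  .cj 6 [29,6,8,24],
  .cj 6 [26,5,20,5],
  .o9 4,
  .o9 4,
  .cj 6 [6,8],
  .o9 4,
  .o9 4,
  .cj 2 [17,11,26,12,7],
  .o9 4,
  .o9 4,
  .cj 6 [36,26,1],
  .o9 4,
  .o9 4,
  .cj 1 [8,6],
  .o9 4,
  .o9 4,
  .cj 6 [26,24,5,20,5],
  .o9 4,
  .o9 4,
  .cj 3 [7,28,12,7],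
  .cj 6 [36,27,32,11,26,6],
  .cj 6 [36,17,13,7,14,5],
  .cj 6 [36,35,32],
  .cj 6 [36,35,32,23],
  .cj 6 [36,35,32,5],
  .cj 6 [32,8,24],
  .cj 6 [32,11,8,24],
  .cj 6 [32,29,8,24],
  .cj 3 [24,17,28,26,7],
  .o9 4,
  .o9 4,
  .cj 3 [35,25,29,14,9],
  .o9 4,
  .o9 4,
  .cj 5 [24],
  .o9 4,
  .o9 4,
  .cj 5 [35,24,8,1],
  .o9 4,
  .o9 4,
  .cj 6 [17,32,6,26,9],
  .o9 4,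
  .o9 4,
  .cj 5 [24,26,17,13],
  .o9 4,
  .o9 4,
  .cj 4 [10,25,11,10],
  .cj 6 [36,27,11,26,14,6],
  .cj 6 [36,27,17,7,14,5],
  .cj 6 [36,17,14],
  .cj 6 [36,29,17,14],
  .cj 6 [36,17,14,5],
  .cj 6 [8,24,14],
  .cj 6 [11,8,24,14],
  .cj 6 [29,8,24,14],
  .cj 4 [35,28,12,8,7],
  .o9 4,
  .o9 4,
  .cj 4 [17,11,27,10],
  .o9 4,
  .o9 4,
  .cj 5 [17,32,26,6],
  .o9 4,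
  .o9 4,
  .cj 5 [35,32,26,1],
  .o9 4,
  .o9 4,
  .cj 6 [35,6,26,14,9],
  .o9 4,
  .o9 4,
  .cj 5 [32,26,24,13],
  .o9 4,
  .o9 4,
  .cj 3 [29,14,12,9],
  .o9 4,
  .o9 4,
  .cj 5 [24,17,13],
  .o9 4,
  .o9 4,
  .cj 3 [35,10,27,25,12],
  .o9 4,
  .o9 4,
  .cj 6 [35,32,6,26,1],
  .o9 4,
  .o9 4,
  .cj 5 [35,24,26,1],
  .o9 4,
  .o9 4,
  .cj 5 [24,8],
  .o9 4,
  .o9 4,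
  .cj 6 [36,32,1],
  .cj 6 [36,32,20,23,1],
  .cj 6 [36,32,20,5,1],
  .cj 6 [17,32,8,24,9],
  .cj 6 [36,32,35,24,23],
  .cj 6 [36,31,32,1,5],
  .cj 3 [17,28,12,7],
  .cj 6 [36,31,32,1,23],
  .cj 6 [36,35,7,14,5],
  .cj 4 [13,11,10,8,7],
  .o9 4,
  .o9 4,
  .cj 4 [36,35,29,13,9],
  .o9 4,
  .o9 4,
  .cj 5 [35,32,26,6,1],
  .o9 4,
  .o9 4,
  .cj 5 [32,26,13],
  .o9 4,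
  .o9 4,
  .cj 6 [6,26,14],
  .o9 4,
  .o9 4,
  .cj 5 [35,14,6,8],
  .o9 4,
  .o9 4,
  .cj 4 [17,10,25,11],
  .cj 6 [36,27,32,23],
  .cj 6 [36,32,35,24,5],
  .cj 6 [36,35,14,9],
  .cj 6 [36,9,32,19,23],
  .cj 6 [36,13,32,19,5],
  .cj 6 [8,24,17,14,1],
  .cj 6 [36,32,1,23],
  .cj 6 [36,32,9,2,5],
  .cj 2 [10,24,14,9],
  .o9 4,
  .o9 4,
  .cj 6 [26,17,5,20,5],
  .o9 4,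
  .o9 4,
  .cj 6 [17,6,8],
  .o9 4,
  .o9 4,
  .cj 6 [32,35,8,6,1],
  .o9 4,
  .o9 4,
  .cj 6 [36,26,17,1],
  .o9 4,
  .o9 4,
  .cj 1 [24,14],
  .o9 4,
  .o9 4,
  .cj 6 [6,8,24,17],
  .cj 6 [36,32,19,23,17],
  .cj 6 [36,27,32,5],
  .cj 0 [24,17],
  .cj 6 [36,32,2,23,6],
  .cj 6 [36,32,1,5],
  .cj 6 [36,32,35,24],
  .cj 6 [36,13,32,23],
  .cj 6 [36,9,32,19,5],
  .cj 4 [11,27,11,10],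
  .o9 4,
  .o9 4,
  .cj 5 [32,26,2,6],
  .o9 4,
  .o9 4,
  .cj 4 [17,11,10,8,7],
  .o9 4,
  .o9 4,
  .cj 6 [6,26,17,14,1],
  .o9 4,
  .o9 4,
  .cj 5 [14,6,8,1],
  .o9 4,
  .o9 4,
  .cj 5 [17,32,26],
  .o9 4,
  .o9 4,
  .cj 6 [36,14,1],
  .cj 6 [36,20,14,23,1],
  .cj 6 [36,20,14,5,1],
  .cj 6 [35,8,24,14,9],
  .cj 6 [36,24,14,23,17],
  .cj 6 [36,13,14,1,5],
  .cj 4 [36,35,28,14,7],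
  .cj 6 [36,13,14,1,23],
  .cj 6 [36,17,32,19,5],
  .cj 2 [11,26,12,7],
  .o9 4,
  .o9 4,
  .cj 6 [35,26,5,20,5],
  .o9 4,
  .o9 4,
  .cj 6 [35,6,8],
  .o9 4,
  .o9 4,
  .cj 6 [14,17,8,6,1],
  .o9 4,
  .o9 4,
  .cj 6 [36,35,26,1],
  .o9 4,
  .o9 4,
  .cj 1 [32,24],
  .o9 4,
  .o9 4,
  .cj 6 [35,6,8,24],
  .cj 6 [36,24,14,13,23],
  .cj 6 [36,27,14,5],
  .cj 0 [35,24],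
  .cj 6 [36,14,2,23,6],
  .cj 6 [36,14,1,5],
  .cj 6 [36,24,14,17],
  .cj 6 [36,31,14,23],
  .cj 6 [36,9,7,14,5],
  .cj 3 [10,7,26,12,7],
  .o9 4,
  .o9 4,
  .cj 3 [17,29,14,9],
  .o9 4,
  .o9 4,
  .cj 5 [35,24,1],
  .o9 4,
  .o9 4,
  .cj 5 [24,17,13,8],
  .o9 4,
  .o9 4,
  .cj 6 [32,6,26],
  .o9 4,
  .o9 4,
  .cj 5 [24,26],
  .o9 4,
  .o9 4,
  .cj 3 [35,28,13,12,7],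
  .cj 6 [36,27,14,23],
  .cj 6 [36,24,14,17,5],
  .cj 6 [36,17,32,9],
  .cj 6 [36,9,7,14,23],
  .cj 6 [36,31,7,14,5],
  .cj 6 [35,32,8,24,1],
  .cj 6 [36,14,1,23],
  .cj 6 [36,14,9,2,5],
  .cj 2 [26,12],
  .cj 6 [27,24,11,17,8,1],
  .cj 6 [9,7,29,35,8,1],
  .o9 4,
  .o9 4,
  .o9 4,
  .o9 4,
  .o9 4,
  .o9 4,
  .o9 5,
  .o9 0,
  .o9 0,
  .o9 4,
  .o9 0,
  .o9 0,
  .o9 4,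
  .o9 0,
  .o9 0,
  .o9 5,
  .o9 0,
  .o9 0,
  .o9 4,
  .o9 0,
  .o9 0,
  .o9 4,
  .o9 0,
  .o9 0,
  .cj 3 [31,12,7],
  .cj 3 [16,31,11,10,7],
  .cj 5 [27,11,17],
  .o9 4,
  .o9 4,
  .o9 4,
  .o9 4,
  .o9 4,
  .o9 4,
  .o9 4,
  .o9 0,
  .o9 0,
  .o9 4,
  .o9 0,
  .o9 0,
  .o9 4,
  .o9 0,
  .o9 0,
  .o9 4,
  .o9 0,
  .o9 0,
  .o9 4,
  .o9 0,
  .o9 0,
  .o9 4,
  .o9 0,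
  .o9 0,
  .cj 4 [25,11,10],
  .cj 5 [31,9,29,6,26,6],
  .cj 4 [25,16,10,7],
  .o9 4,
  .o9 4,
  .o9 4,
  .o9 4,
  .o9 4,
  .o9 4,
  .o9 4,
  .o9 0,
  .o9 0,
  .o9 4,
  .o9 0,
  .o9 0,
  .o9 4,
  .o9 0,
  .o9 0,
  .o9 4,
  .o9 0,
  .o9 0,
  .o9 4,
  .o9 0,
  .o9 0,
  .o9 4,
  .o9 0,
  .o9 0,
  .cj 3 [14,12,9],
  .o9 4,
  .o9 4,
  .o9 4,
  .o9 4,
  .cj 5 [25,11,17],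
  .o9 4,
  .cj 3 [36,6,9,16,10],
  .o9 4,
  .o9 5,
  .o9 0,
  .o9 0,
  .o9 4,
  .o9 0,
  .o9 0,
  .o9 4,
  .o9 0,
  .o9 0,
  .o9 5,
  .o9 0,
  .o9 0,
  .o9 4,
  .o9 0,
  .o9 0,
  .o9 4,
  .o9 0,
  .o9 0,
  .cj 4 [31,12,8,7],
  .o9 4,
  .o9 4,
  .o9 4,
  .o9 4,
  .cj 4 [36,9,16,13],
  .o9 4,
  .cj 5 [7,11,8,24,14],
  .o9 4,
  .o9 4,
  .o9 0,
  .o9 0,
  .o9 4,
  .o9 0,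
  .o9 0,
  .o9 4,
  .o9 0,
  .o9 0,
  .o9 4,
  .o9 0,
  .o9 0,
  .o9 4,
  .o9 0,
  .o9 0,
  .o9 4,
  .o9 0,
  .o9 0,
  .cj 2 [24,14,9],
  .o9 4,
  .o9 4,
  .o9 4,
  .o9 4,
  .cj 6 [27,29,35,8,1],
  .o9 4,
  .cj 6 [11,17,6,8],
  .o9 4,
  .o9 4,
  .o9 0,
  .o9 0,
  .o9 4,
  .o9 0,
  .o9 0,
  .o9 4,
  .o9 0,
  .o9 0,
  .o9 4,
  .o9 0,
  .o9 0,
  .o9 4,
  .o9 0,
  .o9 0,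
  .o9 4,
  .o9 0,
  .o9 0,
  .cj 4 [27,11,10],
  .o9 4,
  .o9 4,
  .o9 4,
  .cj 5 [31,29,26,6],
  .o9 4,
  .o9 4,
  .o9 4,
  .cj 4 [27,16,10,7],
  .o9 5,
  .o9 0,
  .o9 0,
  .o9 4,
  .o9 0,
  .o9 0,
  .o9 4,
  .o9 0,
  .o9 0,
  .o9 5,
  .o9 0,
  .o9 0,
  .o9 4,
  .o9 0,
  .o9 0,
  .o9 4,
  .o9 0,
  .o9 0,
  .cj 2 [26,12,7],
  .o9 4,
  .o9 4,
  .o9 4,
  .cj 6 [9,11,17,9,8],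
  .o9 4,
  .o9 4,
  .o9 4,
  .cj 6 [29,35,6,8],
  .o9 4,
  .o9 0,
  .o9 0,
  .o9 4,
  .o9 0,
  .o9 0,
  .o9 4,
  .o9 0,
  .o9 0,
  .o9 4,
  .o9 0,
  .o9 0,
  .o9 4,
  .o9 0,
  .o9 0,
  .o9 4,
  .o9 0,
  .o9 0,
  .cj 3 [7,26,12,7],
  .o9 4,
  .o9 4,
  .o9 4,
  .cj 3 [11,9,34,28],
  .o9 4,
  .o9 4,
  .o9 4,
  .cj 5 [7,29,35],
  .o9 4,
  .o9 0,
  .o9 0,
  .o9 4,
  .o9 0,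
  .o9 0,
  .o9 4,
  .o9 0,
  .o9 0,
  .o9 4,
  .o9 0,
  .o9 0,
  .o9 4,
  .o9 0,
  .o9 0,
  .o9 4,
  .o9 0,
  .o9 0,
  .cj 2 [13,15,12],
  .cj 6 [27,11,35,24,8,1],
  .cj 6 [9,7,29,17,8,1],
  .o9 4,
  .o9 4,
  .o9 4,
  .o9 4,
  .o9 4,
  .o9 4,
  .o9 5,
  .o9 0,
  .o9 0,
  .o9 4,
  .o9 0,
  .o9 0,
  .o9 4,
  .o9 0,
  .o9 0,
  .o9 5,
  .o9 0,
  .o9 0,
  .o9 4,
  .o9 0,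
  .o9 0,
  .o9 4,
  .o9 0,
  .o9 0,
  .cj 3 [31,6,10,7],
  .cj 5 [9,29,17,1],
  .cj 3 [34,31,7],
  .o9 4,
  .o9 4,
  .o9 4,
  .o9 4,
  .o9 4,
  .o9 4,
  .o9 4,
  .o9 0,
  .o9 0,
  .o9 4,
  .o9 0,
  .o9 0,
  .o9 4,
  .o9 0,
  .o9 0,
  .o9 4,
  .o9 0,
  .o9 0,
  .o9 4,
  .o9 0,
  .o9 0,
  .o9 4,
  .o9 0,
  .o9 0,
  .cj 4 [25,11,10,7],
  .cj 4 [34,25,6,10],
  .cj 5 [27,32,11,6,26,6],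
  .o9 4,
  .o9 4,
  .o9 4,
  .o9 4,
  .o9 4,
  .o9 4,
  .o9 4,
  .o9 0,
  .o9 0,
  .o9 4,
  .o9 0,
  .o9 0,
  .o9 4,
  .o9 0,
  .o9 0,
  .o9 4,
  .o9 0,
  .o9 0,
  .o9 4,
  .o9 0,
  .o9 0,
  .o9 4,
  .o9 0,
  .o9 0,
  .cj 3 [12,8,11,9],
  .o9 4,
  .o9 4,
  .o9 4,
  .cj 5 [7,29,17,1],
  .o9 4,
  .o9 4,
  .o9 4,
  .cj 3 [27,34,31,25],
  .o9 5,
  .o9 0,
  .o9 0,
  .o9 4,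
  .o9 0,
  .o9 0,
  .o9 4,
  .o9 0,
  .o9 0,
  .o9 5,
  .o9 0,
  .o9 0,
  .o9 4,
  .o9 0,
  .o9 0,
  .o9 4,
  .o9 0,
  .o9 0,
  .cj 4 [30,10,8,7],
  .o9 4,
  .o9 4,
  .o9 4,
  .cj 4 [27,34,6,10],
  .o9 4,
  .o9 4,
  .o9 4,
  .cj 5 [6,13,29,8,24],
  .o9 4,
  .o9 0,
  .o9 0,
  .o9 4,
  .o9 0,
  .o9 0,
  .o9 4,
  .o9 0,
  .o9 0,
  .o9 4,
  .o9 0,
  .o9 0,
  .o9 4,
  .o9 0,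
  .o9 0,
  .o9 4,
  .o9 0,
  .o9 0,
  .cj 2 [36,26,14,7],
  .o9 4,
  .o9 4,
  .o9 4,
  .cj 6 [9,11,35,9,8],
  .o9 4,
  .o9 4,
  .o9 4,
  .cj 6 [29,17,6,8],
  .o9 4,
  .o9 0,
  .o9 0,
  .o9 4,
  .o9 0,
  .o9 0,
  .o9 4,
  .o9 0,
  .o9 0,
  .o9 4,
  .o9 0,
  .o9 0,
  .o9 4,
  .o9 0,
  .o9 0,
  .o9 4,
  .o9 0,
  .o9 0,
  .cj 4 [27,11,10,9],
  .o9 4,
  .o9 4,
  .o9 4,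
  .o9 4,
  .cj 5 [13,11,26,6,1],
  .o9 4,
  .cj 4 [6,9,34,10],
  .o9 4,
  .o9 5,
  .o9 0,
  .o9 0,
  .o9 4,
  .o9 0,
  .o9 0,
  .o9 4,
  .o9 0,
  .o9 0,
  .o9 5,
  .o9 0,
  .o9 0,
  .o9 4,
  .o9 0,
  .o9 0,
  .o9 4,
  .o9 0,
  .o9 0,
  .cj 2 [32,9,10,7],
  .o9 4,
  .o9 4,
  .o9 4,
  .o9 4,
  .cj 6 [27,29,17,8,1],
  .o9 4,
  .cj 6 [11,35,6,8],
  .o9 4,
  .o9 4,
  .o9 0,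
  .o9 0,
  .o9 4,
  .o9 0,
  .o9 0,
  .o9 4,
  .o9 0,
  .o9 0,
  .o9 4,
  .o9 0,
  .o9 0,
  .o9 4,
  .o9 0,
  .o9 0,
  .o9 4,
  .o9 0,
  .o9 0,
  .cj 3 [9,28,25,12],
  .o9 4,
  .o9 4,
  .o9 4,
  .o9 4,
  .cj 3 [9,34,28],
  .o9 4,
  .cj 5 [11,35,24,1],
  .o9 4,
  .o9 4,
  .o9 0,
  .o9 0,
  .o9 4,
  .o9 0,
  .o9 0,
  .o9 4,
  .o9 0,
  .o9 0,
  .o9 4,
  .o9 0,
  .o9 0,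
  .o9 4,
  .o9 0,
  .o9 0,
  .o9 4,
  .o9 0,
  .o9 0]

theorem h28_len_15 : h28_certs_15.length = 729 := by decide +kernel

theorem h28_chk_15 : chkAll 10935 h28_certs_15 = true := by decide +kernel

end Cfsg.Agent.Lib.Helper28.O73C
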