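import Cfsg.Agent.Lib.Helper28.O73C.Comp

/-! Project O73C (S5514): certificates for the parameters 11664 to 12392 (generated, helper28). -/

set_option autoImplicit false
set_option maxRecDepth 100000

namespace Cfsg.Agent.Lib.Helper28.O73C

/-- certificates, chunk 16 -/
def h28_certs_16 : List Cert :=
  [.cj 0 [25,24],
  .cj 6 [27,11,6,8,24],
  .cj 6 [9,29,8,24,1],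
  .cj 6 [26,5,20,24,5],
  .cj 6 [36,13,29,17,14],
  .cj 6 [27,29,6,8,24],
  .cj 6 [36,26,2,6],
  .cj 6 [11,8,24,9],
  .cj 6 [7,29,8,24,1],
  .cj 6 [26,5,20,5,1],
  .o9 4,
  .o9 4,
  .cj 6 [2,6,8],
  .o9 4,
  .o9 4,
  .cj 2 [17,28,27,12,7],
  .o9 4,
  .o9 4,
  .cj 6 [36,26,9],
  .o9 4,
  .o9 4,
  .cj 1 [36,24,1],
  .o9 4,
  .o9 4,
  .cj 6 [26,5,20,19,5],
  .o9 4,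
  .o9 4,
  .cj 3 [28,12,7],
  .cj 6 [27,32,11,8,24],
  .cj 6 [36,17,13,14,5],
  .cj 6 [36,35,32,1],
  .cj 6 [36,35,32,1,23],
  .cj 6 [36,35,32,1,5],
  .cj 6 [32,8,24,9],
  .cj 6 [36,35,27,32,23],
  .cj 6 [31,29,6,8,24],
  .cj 3 [17,10,27,25,12],
  .o9 4,
  .o9 4,
  .cj 3 [35,29,14,12,9],
  .o9 4,
  .o9 4,
  .cj 5 [24,13],
  .o9 4,
  .o9 4,
  .cj 5 [35,24,8],
  .o9 4,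
  .o9 4,
  .cj 6 [17,32,6,26,1],
  .o9 4,
  .o9 4,
  .cj 5 [24,26,17,1],
  .o9 4,
  .o9 4,
  .cj 4 [36,28,14,7],
  .cj 6 [27,11,8,24,14],
  .cj 6 [36,27,17,14,5],
  .cj 6 [36,17,14,1],
  .cj 6 [36,25,29,17,14],
  .cj 6 [36,17,14,1,5],
  .cj 6 [8,24,14,9],
  .cj 6 [36,27,29,17,14],
  .cj 6 [25,29,8,24,14],
  .cj 4 [35,11,10,8,7],
  .o9 4,
  .o9 4,
  .cj 4 [17,11,27,11,10],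
  .o9 4,
  .o9 4,
  .cj 5 [17,32,26,2,6],
  .o9 4,
  .o9 4,
  .cj 5 [36,26,14],
  .o9 4,
  .o9 4,
  .cj 6 [35,6,26,14,1],
  .o9 4,
  .o9 4,
  .cj 5 [32,26,24,1],
  .o9 4,
  .o9 4,
  .cj 3 [29,14,9],
  .o9 4,
  .o9 4,
  .cj 5 [24,17,1],
  .o9 4,
  .o9 4,
  .cj 3 [35,10,7,26,12,7],
  .o9 4,
  .o9 4,
  .cj 6 [35,32,6,26],
  .o9 4,
  .o9 4,
  .cj 5 [35,24,26],
  .o9 4,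
  .o9 4,
  .cj 5 [24,13,8],
  .o9 4,
  .o9 4,
  .cj 6 [36,32,9],
  .cj 6 [36,32,20,1,23,1],
  .cj 6 [36,32,6,20,5],
  .cj 6 [17,32,8,24,1],
  .cj 6 [36,32,35,23,1],
  .cj 6 [36,31,32,19,5],
  .cj 3 [17,28,13,12,7],
  .cj 6 [17,11,8,24,9],
  .cj 6 [36,35,14,5],
  .cj 4 [28,12,8,7],
  .o9 4,
  .o9 4,
  .cj 4 [35,11,27,10],
  .o9 4,
  .o9 4,
  .cj 5 [36,26,14,6],
  .o9 4,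
  .o9 4,
  .cj 5 [32,26,1],
  .o9 4,
  .o9 4,
  .cj 6 [6,26,14,9],
  .o9 4,
  .o9 4,
  .cj 5 [35,14,2,6,8],
  .o9 4,
  .o9 4,
  .cj 4 [17,10,25,11,10],
  .cj 6 [36,27,32,1,23],
  .cj 6 [36,32,31,6,5],
  .cj 6 [36,35,14],
  .cj 6 [36,9,32,23],
  .cj 6 [36,13,32,5],
  .cj 6 [8,24,17,14],
  .cj 6 [36,32,19,23],
  .cj 6 [36,32,2,24,5],
  .cj 2 [29,25,14,9],
  .o9 4,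
  .o9 4,
  .cj 6 [26,5,20,35,5],
  .o9 4,
  .o9 4,
  .cj 6 [17,2,6,8],
  .o9 4,
  .o9 4,
  .cj 6 [32,35,8,6],
  .o9 4,
  .o9 4,
  .cj 6 [36,26,17,9],
  .o9 4,
  .o9 4,
  .cj 1 [24,14,7],
  .o9 4,
  .o9 4,
  .cj 6 [36,26,17,2,6],
  .cj 6 [36,32,23,17],
  .cj 6 [36,27,32,1,5],
  .cj 0 [24,1,17],
  .cj 6 [17,11,8,24,14],
  .cj 6 [36,32,19,5],
  .cj 6 [36,32,35,24,1],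
  .cj 6 [36,13,32,1,23],
  .cj 6 [36,9,32,5],
  .cj 4 [36,29,13,9],
  .o9 4,
  .o9 4,
  .cj 5 [32,26,6,1],
  .o9 4,
  .o9 4,
  .cj 4 [17,13,11,10,8,7],
  .o9 4,
  .o9 4,
  .cj 6 [6,26,17,14],
  .o9 4,
  .o9 4,
  .cj 5 [14,6,8],
  .o9 4,
  .o9 4,
  .cj 5 [17,32,26,13],
  .o9 4,
  .o9 4,
  .cj 6 [36,14,9],
  .cj 6 [36,20,14,1,23,1],
  .cj 6 [36,6,20,14,5],
  .cj 6 [35,8,24,14,1],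
  .cj 6 [36,14,23,17,1],
  .cj 6 [36,13,7,14,5],
  .cj 4 [35,10,25,11],
  .cj 6 [35,11,8,24,9],
  .cj 6 [36,17,32,5],
  .cj 2 [28,27,12,7],
  .o9 4,
  .o9 4,
  .cj 6 [26,5,20,17,5],
  .o9 4,
  .o9 4,
  .cj 6 [35,2,6,8],
  .o9 4,
  .o9 4,
  .cj 6 [14,17,8,6],
  .o9 4,
  .o9 4,
  .cj 6 [36,35,26,9],
  .o9 4,
  .o9 4,
  .cj 1 [32,24,7],
  .o9 4,
  .o9 4,
  .cj 6 [36,35,26,2,6],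
  .cj 6 [36,17,32,23],
  .cj 6 [36,27,14,1,5],
  .cj 0 [35,25,24],
  .cj 6 [36,14,6,2,23],
  .cj 6 [36,7,14,5],
  .cj 6 [36,24,14,17,1],
  .cj 6 [36,31,14,1,23],
  .cj 6 [36,9,14,5],
  .cj 3 [24,28,26,7],
  .o9 4,
  .o9 4,
  .cj 3 [2,17,29,14,9],
  .o9 4,
  .o9 4,
  .cj 5 [35,24],
  .o9 4,
  .o9 4,
  .cj 5 [24,17,8,1],
  .o9 4,
  .o9 4,
  .cj 6 [32,6,26,9],
  .o9 4,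
  .o9 4,
  .cj 5 [24,26,13],
  .o9 4,
  .o9 4,
  .cj 3 [35,7,28,12,7],
  .cj 6 [36,27,14,1,23],
  .cj 6 [36,14,13,6,5],
  .cj 6 [36,17,32],
  .cj 6 [36,9,14,23],
  .cj 6 [36,31,14,5],
  .cj 6 [35,32,8,24],
  .cj 6 [36,7,14,23],
  .cj 6 [36,2,24,14,5],
  .cj 3 [26,12],
  .cj 3 [16,28,25,11],
  .cj 5 [27,25,11,17],
  .o9 4,
  .o9 4,
  .o9 4,
  .o9 4,
  .o9 4,
  .o9 4,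
  .o9 5,
  .o9 0,
  .o9 0,
  .o9 4,
  .o9 0,
  .o9 0,
  .o9 4,
  .o9 0,
  .o9 0,
  .o9 5,
  .o9 0,
  .o9 0,
  .o9 4,
  .o9 0,
  .o9 0,
  .o9 4,
  .o9 0,
  .o9 0,
  .cj 4 [31,11,7],
  .cj 5 [16,27,13,11,26,6],
  .cj 4 [36,16,13],
  .o9 4,
  .o9 4,
  .o9 4,
  .o9 4,
  .o9 4,
  .o9 4,
  .o9 4,
  .o9 0,
  .o9 0,
  .o9 4,
  .o9 0,
  .o9 0,
  .o9 4,
  .o9 0,
  .o9 0,
  .o9 4,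
  .o9 0,
  .o9 0,
  .o9 4,
  .o9 0,
  .o9 0,
  .o9 4,
  .o9 0,
  .o9 0,
  .cj 2 [31,25,12],
  .cj 6 [27,11,17,6,8],
  .cj 6 [9,29,35,8,1],
  .o9 4,
  .o9 4,
  .o9 4,
  .o9 4,
  .o9 4,
  .o9 4,
  .o9 4,
  .o9 0,
  .o9 0,
  .o9 4,
  .o9 0,
  .o9 0,
  .o9 4,
  .o9 0,
  .o9 0,
  .o9 4,
  .o9 0,
  .o9 0,
  .o9 4,
  .o9 0,
  .o9 0,
  .o9 4,
  .o9 0,
  .o9 0,
  .cj 4 [12,10,9],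
  .o9 4,
  .o9 4,
  .o9 4,
  .o9 4,
  .cj 4 [9,16,10,7],
  .o9 4,
  .cj 5 [11,8,24,14],
  .o9 4,
  .o9 5,
  .o9 0,
  .o9 0,
  .o9 4,
  .o9 0,
  .o9 0,
  .o9 4,
  .o9 0,
  .o9 0,
  .o9 5,
  .o9 0,
  .o9 0,
  .o9 4,
  .o9 0,
  .o9 0,
  .o9 4,
  .o9 0,
  .o9 0,
  .cj 2 [31,12,8,7],
  .o9 4,
  .o9 4,
  .o9 4,
  .o9 4,
  .cj 6 [27,29,35,6,8],
  .o9 4,
  .cj 6 [11,17,9,8],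
  .o9 4,
  .o9 4,
  .o9 0,
  .o9 0,
  .o9 4,
  .o9 0,
  .o9 0,
  .o9 4,
  .o9 0,
  .o9 0,
  .o9 4,
  .o9 0,
  .o9 0,
  .o9 4,
  .o9 0,
  .o9 0,
  .o9 4,
  .o9 0,
  .o9 0,
  .cj 3 [24,14,9],
  .o9 4,
  .o9 4,
  .o9 4,
  .o9 4,
  .cj 5 [7,11,17],
  .o9 4,
  .cj 3 [36,9,16,6,10],
  .o9 4,
  .o9 4,
  .o9 0,
  .o9 0,
  .o9 4,
  .o9 0,
  .o9 0,
  .o9 4,
  .o9 0,
  .o9 0,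
  .o9 4,
  .o9 0,
  .o9 0,
  .o9 4,
  .o9 0,
  .o9 0,
  .o9 4,
  .o9 0,
  .o9 0,
  .cj 2 [27,26,12],
  .o9 4,
  .o9 4,
  .o9 4,
  .cj 6 [6,9,11,17,8],
  .o9 4,
  .o9 4,
  .o9 4,
  .cj 6 [7,29,35,8,1],
  .o9 5,
  .o9 0,
  .o9 0,
  .o9 4,
  .o9 0,
  .o9 0,
  .o9 4,
  .o9 0,
  .o9 0,
  .o9 5,
  .o9 0,
  .o9 0,
  .o9 4,
  .o9 0,
  .o9 0,
  .o9 4,
  .o9 0,
  .o9 0,
  .cj 3 [26,12,7],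
  .o9 4,
  .o9 4,
  .o9 4,
  .cj 3 [36,6,27,16,10],
  .o9 4,
  .o9 4,
  .o9 4,
  .cj 5 [29,35],
  .o9 4,
  .o9 0,
  .o9 0,
  .o9 4,
  .o9 0,
  .o9 0,
  .o9 4,
  .o9 0,
  .o9 0,
  .o9 4,
  .o9 0,
  .o9 0,
  .o9 4,
  .o9 0,
  .o9 0,
  .o9 4,
  .o9 0,
  .o9 0,
  .cj 4 [7,26,11,7],
  .o9 4,
  .o9 4,
  .o9 4,
  .cj 5 [31,29,6,26,6],
  .o9 4,
  .o9 4,
  .o9 4,
  .cj 4 [27,25,16,10,7],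
  .o9 4,
  .o9 0,
  .o9 0,
  .o9 4,
  .o9 0,
  .o9 0,
  .o9 4,
  .o9 0,
  .o9 0,
  .o9 4,
  .o9 0,
  .o9 0,
  .o9 4,
  .o9 0,
  .o9 0,
  .o9 4,
  .o9 0,
  .o9 0,
  .cj 4 [36,24,13],
  .cj 4 [34,31,14,7],
  .cj 5 [27,13,11,26,6,1],
  .o9 4,
  .o9 4,
  .o9 4,
  .o9 4,
  .o9 4,
  .o9 4,
  .o9 5,
  .o9 0,
  .o9 0,
  .o9 4,
  .o9 0,
  .o9 0,
  .o9 4,
  .o9 0,
  .o9 0,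
  .o9 5,
  .o9 0,
  .o9 0,
  .o9 4,
  .o9 0,
  .o9 0,
  .o9 4,
  .o9 0,
  .o9 0,
  .cj 2 [24,13,10,7],
  .cj 6 [27,11,35,6,8],
  .cj 6 [9,29,17,8,1],
  .o9 4,
  .o9 4,
  .o9 4,
  .o9 4,
  .o9 4,
  .o9 4,
  .o9 4,
  .o9 0,
  .o9 0,
  .o9 4,
  .o9 0,
  .o9 0,
  .o9 4,
  .o9 0,
  .o9 0,
  .o9 4,
  .o9 0,
  .o9 0,
  .o9 4,
  .o9 0,
  .o9 0,
  .o9 4,
  .o9 0,
  .o9 0,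
  .cj 3 [28,25,12],
  .cj 5 [9,29,17,6],
  .cj 3 [34,28],
  .o9 4,
  .o9 4,
  .o9 4,
  .o9 4,
  .o9 4,
  .o9 4,
  .o9 4,
  .o9 0,
  .o9 0,
  .o9 4,
  .o9 0,
  .o9 0,
  .o9 4,
  .o9 0,
  .o9 0,
  .o9 4,
  .o9 0,
  .o9 0,
  .o9 4,
  .o9 0,
  .o9 0,
  .o9 4,
  .o9 0,
  .o9 0,
  .cj 2 [30,13,11,9],
  .o9 4,
  .o9 4,
  .o9 4,
  .cj 6 [6,9,11,35,8],
  .o9 4,
  .o9 4,
  .o9 4,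
  .cj 6 [7,29,17,8,1],
  .o9 5,
  .o9 0,
  .o9 0,
  .o9 4,
  .o9 0,
  .o9 0,
  .o9 4,
  .o9 0,
  .o9 0,
  .o9 5,
  .o9 0,
  .o9 0,
  .o9 4,
  .o9 0,
  .o9 0,
  .o9 4,
  .o9 0,
  .o9 0,
  .cj 3 [32,10,8,7],
  .o9 4,
  .o9 4,
  .o9 4,
  .cj 5 [29,17,1],
  .o9 4,
  .o9 4,
  .o9 4,
  .cj 3 [27,34,31,7],
  .o9 4,
  .o9 0,
  .o9 0,
  .o9 4,
  .o9 0,
  .o9 0,
  .o9 4,
  .o9 0,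
  .o9 0,
  .o9 4,
  .o9 0,
  .o9 0,
  .o9 4,
  .o9 0,
  .o9 0,
  .o9 4,
  .o9 0,
  .o9 0,
  .cj 4 [36,26,14,7],
  .o9 4,
  .o9 4,
  .o9 4,
  .cj 4 [6,27,34,10],
  .o9 4,
  .o9 4,
  .o9 4,
  .cj 5 [29,8,24,14,8],
  .o9 4,
  .o9 0,
  .o9 0,
  .o9 4,
  .o9 0,
  .o9 0,
  .o9 4,
  .o9 0,
  .o9 0,
  .o9 4,
  .o9 0,
  .o9 0,
  .o9 4,
  .o9 0,
  .o9 0,
  .o9 4,
  .o9 0,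
  .o9 0,
  .cj 3 [29,28,27],
  .o9 4,
  .o9 4,
  .o9 4,
  .o9 4,
  .cj 3 [9,34,31,25],
  .o9 4,
  .cj 5 [11,35,6],
  .o9 4,
  .o9 5,
  .o9 0,
  .o9 0,
  .o9 4,
  .o9 0,
  .o9 0,
  .o9 4,
  .o9 0,
  .o9 0,
  .o9 5,
  .o9 0,
  .o9 0,
  .o9 4,
  .o9 0,
  .o9 0,
  .o9 4,
  .o9 0,
  .o9 0,
  .cj 4 [30,9,10,7],
  .o9 4,
  .o9 4,
  .o9 4,
  .o9 4,
  .cj 5 [24,13,11,26,6],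
  .o9 4,
  .cj 4 [9,34,6,10],
  .o9 4,
  .o9 4,
  .o9 0,
  .o9 0,
  .o9 4,
  .o9 0,
  .o9 0,
  .o9 4,
  .o9 0,
  .o9 0,
  .o9 4,
  .o9 0,
  .o9 0,
  .o9 4,
  .o9 0,
  .o9 0,
  .o9 4,
  .o9 0,
  .o9 0,
  .cj 2 [28,27,25,12],
  .o9 4,
  .o9 4,
  .o9 4,
  .o9 4,
  .cj 6 [27,29,17,6,8],
  .o9 4,
  .cj 6 [11,35,9,8],
  .o9 4,
  .o9 4,
  .o9 0,
  .o9 0,
  .o9 4,
  .o9 0,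
  .o9 0,
  .o9 4,
  .o9 0,
  .o9 0,
  .o9 4,
  .o9 0,
  .o9 0,
  .o9 4,
  .o9 0,
  .o9 0,
  .o9 4,
  .o9 0,
  .o9 0]

theorem h28_len_16 : h28_certs_16.length = 729 := by decide +kernel

theorem h28_chk_16 : chkAll 11664 h28_certs_16 = true := by decide +kernel

end Cfsg.Agent.Lib.Helper28.O73C
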