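import Cfsg.Agent.Lib.Helper28.O73C.Comp

/-! Project O73C (S5514): certificates for the parameters 12393 to 13121 (generated, helper28). -/

set_option autoImplicit false
set_option maxRecDepth 100000

namespace Cfsg.Agent.Lib.Helper28.O73C

/-- certificates, chunk 17 -/
def h28_certs_17 : List Cert :=
  [.cj 0 [11,7],
  .cj 6 [27,11,8,24,9],
  .cj 6 [9,29,6,8,24],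
  .cj 6 [26,5,20,1,5],
  .cj 6 [9,11,6,8,24],
  .cj 6 [36,31,17,14,5],
  .cj 6 [36,26,6],
  .cj 6 [11,8,24,8,1],
  .cj 6 [29,8,24,1],
  .cj 6 [26,5,20,9,5],
  .o9 4,
  .o9 4,
  .cj 6 [6,8,1],
  .o9 4,
  .o9 4,
  .cj 2 [17,11,31,26,7],
  .o9 4,
  .o9 4,
  .cj 6 [36,26],
  .o9 4,
  .o9 4,
  .cj 1 [8,6,1],
  .o9 4,
  .o9 4,
  .cj 6 [26,5,20,6,5],
  .o9 4,
  .o9 4,
  .cj 3 [28,13,12,7],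
  .cj 6 [36,17,31,14,23],
  .cj 6 [9,32,29,8,24],
  .cj 6 [36,35,32,9],
  .cj 6 [36,35,32,19,23],
  .cj 6 [36,35,32,19,5],
  .cj 6 [32,8,24,1],
  .cj 6 [36,32,11,26,6],
  .cj 6 [36,35,9,32,5],
  .cj 3 [17,10,7,26,12,7],
  .o9 4,
  .o9 4,
  .cj 3 [35,29,14,9],
  .o9 4,
  .o9 4,
  .cj 5 [24,1],
  .o9 4,
  .o9 4,
  .cj 5 [35,24,13,8],
  .o9 4,
  .o9 4,
  .cj 6 [17,32,6,26],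
  .o9 4,
  .o9 4,
  .cj 5 [24,26,17],
  .o9 4,
  .o9 4,
  .cj 4 [10,25,11],
  .cj 6 [36,9,29,17,14],
  .cj 6 [9,29,8,24,14],
  .cj 6 [36,17,14,9],
  .cj 6 [36,7,29,17,14],
  .cj 6 [36,17,7,14,5],
  .cj 6 [8,24,14,1],
  .cj 6 [36,11,26,14,6],
  .cj 6 [36,17,9,14,5],
  .cj 4 [35,13,11,10,8,7],
  .o9 4,
  .o9 4,
  .cj 4 [36,17,29,13,9],
  .o9 4,
  .o9 4,
  .cj 5 [17,32,26,6,1],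
  .o9 4,
  .o9 4,
  .cj 5 [36,26,14,1],
  .o9 4,
  .o9 4,
  .cj 6 [35,6,26,14],
  .o9 4,
  .o9 4,
  .cj 5 [32,26,24],
  .o9 4,
  .o9 4,
  .cj 3 [25,29,14,9],
  .o9 4,
  .o9 4,
  .cj 5 [24,17],
  .o9 4,
  .o9 4,
  .cj 3 [35,24,28,26,7],
  .o9 4,
  .o9 4,
  .cj 6 [35,32,6,26,9],
  .o9 4,
  .o9 4,
  .cj 5 [35,24,26,13],
  .o9 4,
  .o9 4,
  .cj 5 [24,8,1],
  .o9 4,
  .o9 4,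
  .cj 6 [36,32],
  .cj 6 [36,32,20,24,23],
  .cj 6 [36,32,20,6,5],
  .cj 6 [17,32,8,24],
  .cj 6 [36,32,13,23,6],
  .cj 6 [36,31,32,5],
  .cj 3 [17,7,28,12,7],
  .cj 6 [36,31,32,23],
  .cj 6 [36,35,14,1,5],
  .cj 4 [11,10,8,7],
  .o9 4,
  .o9 4,
  .cj 4 [35,11,27,11,10],
  .o9 4,
  .o9 4,
  .cj 5 [36,26,14,6,1],
  .o9 4,
  .o9 4,
  .cj 5 [32,26],
  .o9 4,
  .o9 4,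
  .cj 6 [6,26,14,1],
  .o9 4,
  .o9 4,
  .cj 5 [35,14,6,8,1],
  .o9 4,
  .o9 4,
  .cj 4 [36,17,28,14,7],
  .cj 6 [36,27,32,19,23],
  .cj 6 [36,32,31,5,1],
  .cj 6 [36,35,14,1],
  .cj 6 [36,9,32,1,23],
  .cj 6 [17,29,8,24,1],
  .cj 6 [8,24,17,14,9],
  .cj 6 [36,32,23],
  .cj 6 [36,32,2,6,5,1],
  .cj 2 [10,24,12,9],
  .o9 4,
  .o9 4,
  .cj 6 [26,5,31,20,5],
  .o9 4,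
  .o9 4,
  .cj 6 [17,6,8,1],
  .o9 4,
  .o9 4,
  .cj 6 [32,35,8,2,6],
  .o9 4,
  .o9 4,
  .cj 6 [36,26,17],
  .o9 4,
  .o9 4,
  .cj 1 [24,14,1],
  .o9 4,
  .o9 4,
  .cj 6 [36,26,17,6],
  .cj 6 [36,32,1,23,17],
  .cj 6 [36,27,32,19,5],
  .cj 0 [17,11,7],
  .cj 6 [36,32,2,23,9],
  .cj 6 [36,32,5],
  .cj 6 [36,32,35,24,9],
  .cj 6 [36,13,32,19,23],
  .cj 6 [36,9,32,1,5],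
  .cj 4 [11,27,10],
  .o9 4,
  .o9 4,
  .cj 5 [32,26,6],
  .o9 4,
  .o9 4,
  .cj 4 [17,28,12,8,7],
  .o9 4,
  .o9 4,
  .cj 6 [6,26,17,14,9],
  .o9 4,
  .o9 4,
  .cj 5 [14,2,6,8],
  .o9 4,
  .o9 4,
  .cj 5 [17,32,26,1],
  .o9 4,
  .o9 4,
  .cj 6 [36,14],
  .cj 6 [36,20,24,14,23],
  .cj 6 [36,20,14,6,5],
  .cj 6 [35,8,24,14],
  .cj 6 [36,14,31,23,6],
  .cj 6 [36,13,14,5],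
  .cj 4 [35,10,25,11,10],
  .cj 6 [36,13,14,23],
  .cj 6 [36,17,32,1,5],
  .cj 2 [11,31,26,7],
  .o9 4,
  .o9 4,
  .cj 6 [26,5,20,13,5],
  .o9 4,
  .o9 4,
  .cj 6 [35,6,8,1],
  .o9 4,
  .o9 4,
  .cj 6 [14,17,8,2,6],
  .o9 4,
  .o9 4,
  .cj 6 [36,35,26],
  .o9 4,
  .o9 4,
  .cj 1 [32,24,1],
  .o9 4,
  .o9 4,
  .cj 6 [36,35,26,6],
  .cj 6 [36,17,32,1,23],
  .cj 6 [36,27,7,14,5],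
  .cj 0 [35,11,7],
  .cj 6 [36,14,2,23,9],
  .cj 6 [36,14,5],
  .cj 6 [36,24,14,17,9],
  .cj 6 [36,31,7,14,23],
  .cj 6 [36,9,14,1,5],
  .cj 3 [10,27,25,12],
  .o9 4,
  .o9 4,
  .cj 3 [17,29,14,12,9],
  .o9 4,
  .o9 4,
  .cj 5 [35,24,13],
  .o9 4,
  .o9 4,
  .cj 5 [24,17,8],
  .o9 4,
  .o9 4,
  .cj 6 [32,6,26,1],
  .o9 4,
  .o9 4,
  .cj 5 [24,26,1],
  .o9 4,
  .o9 4,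
  .cj 3 [35,28,12,7],
  .cj 6 [35,11,8,24,14],
  .cj 6 [36,14,13,5,1],
  .cj 6 [36,17,32,1],
  .cj 6 [36,9,14,1,23],
  .cj 6 [35,29,8,24,1],
  .cj 6 [35,32,8,24,9],
  .cj 6 [36,14,23],
  .cj 6 [36,14,2,6,5,1],
  .cj 4 [11,10],
  .cj 5 [31,9,29,26,6],
  .cj 4 [16,10,7],
  .o9 4,
  .o9 4,
  .o9 4,
  .o9 4,
  .o9 4,
  .o9 4,
  .o9 5,
  .o9 0,
  .o9 0,
  .o9 4,
  .o9 0,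
  .o9 0,
  .o9 4,
  .o9 0,
  .o9 0,
  .o9 5,
  .o9 0,
  .o9 0,
  .o9 4,
  .o9 0,
  .o9 0,
  .o9 4,
  .o9 0,
  .o9 0,
  .cj 2 [31,12,7],
  .cj 6 [27,11,17,9,8],
  .cj 6 [9,29,35,6,8],
  .o9 4,
  .o9 4,
  .o9 4,
  .o9 4,
  .o9 4,
  .o9 4,
  .o9 4,
  .o9 0,
  .o9 0,
  .o9 4,
  .o9 0,
  .o9 0,
  .o9 4,
  .o9 0,
  .o9 0,
  .o9 4,
  .o9 0,
  .o9 0,
  .o9 4,
  .o9 0,
  .o9 0,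
  .o9 4,
  .o9 0,
  .o9 0,
  .cj 3 [31,25,12],
  .cj 3 [36,16,6,10],
  .cj 5 [27,7,11,17],
  .o9 4,
  .o9 4,
  .o9 4,
  .o9 4,
  .o9 4,
  .o9 4,
  .o9 4,
  .o9 0,
  .o9 0,
  .o9 4,
  .o9 0,
  .o9 0,
  .o9 4,
  .o9 0,
  .o9 0,
  .o9 4,
  .o9 0,
  .o9 0,
  .o9 4,
  .o9 0,
  .o9 0,
  .o9 4,
  .o9 0,
  .o9 0,
  .cj 2 [10,12,9],
  .o9 4,
  .o9 4,
  .o9 4,
  .o9 4,
  .cj 6 [36,13,11,35,8],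
  .o9 4,
  .cj 6 [24,11,17,8,1],
  .o9 4,
  .o9 5,
  .o9 0,
  .o9 0,
  .o9 4,
  .o9 0,
  .o9 0,
  .o9 4,
  .o9 0,
  .o9 0,
  .o9 5,
  .o9 0,
  .o9 0,
  .o9 4,
  .o9 0,
  .o9 0,
  .o9 4,
  .o9 0,
  .o9 0,
  .cj 3 [31,12,8,7],
  .o9 4,
  .o9 4,
  .o9 4,
  .o9 4,
  .cj 5 [11,17],
  .o9 4,
  .cj 3 [32,9,34,10,7],
  .o9 4,
  .o9 4,
  .o9 0,
  .o9 0,
  .o9 4,
  .o9 0,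
  .o9 0,
  .o9 4,
  .o9 0,
  .o9 0,
  .o9 4,
  .o9 0,
  .o9 0,
  .o9 4,
  .o9 0,
  .o9 0,
  .o9 4,
  .o9 0,
  .o9 0,
  .cj 4 [24,10,9],
  .o9 4,
  .o9 4,
  .o9 4,
  .o9 4,
  .cj 4 [25,9,16,10,7],
  .o9 4,
  .cj 5 [25,11,8,24,14],
  .o9 4,
  .o9 4,
  .o9 0,
  .o9 0,
  .o9 4,
  .o9 0,
  .o9 0,
  .o9 4,
  .o9 0,
  .o9 0,
  .o9 4,
  .o9 0,
  .o9 0,
  .o9 4,
  .o9 0,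
  .o9 0,
  .o9 4,
  .o9 0,
  .o9 0,
  .cj 3 [27,26,12],
  .o9 4,
  .o9 4,
  .o9 4,
  .cj 3 [27,16,28,25,11],
  .o9 4,
  .o9 4,
  .o9 4,
  .cj 5 [25,29,35],
  .o9 5,
  .o9 0,
  .o9 0,
  .o9 4,
  .o9 0,
  .o9 0,
  .o9 4,
  .o9 0,
  .o9 0,
  .o9 5,
  .o9 0,
  .o9 0,
  .o9 4,
  .o9 0,
  .o9 0,
  .o9 4,
  .o9 0,
  .o9 0,
  .cj 4 [26,11,7],
  .o9 4,
  .o9 4,
  .o9 4,
  .cj 5 [31,29,24,26,6],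
  .o9 4,
  .o9 4,
  .o9 4,
  .cj 4 [36,27,16,13],
  .o9 4,
  .o9 0,
  .o9 0,
  .o9 4,
  .o9 0,
  .o9 0,
  .o9 4,
  .o9 0,
  .o9 0,
  .o9 4,
  .o9 0,
  .o9 0,
  .o9 4,
  .o9 0,
  .o9 0,
  .o9 4,
  .o9 0,
  .o9 0,
  .cj 2 [7,26,12,7],
  .o9 4,
  .o9 4,
  .o9 4,
  .cj 6 [9,11,17,6,8],
  .o9 4,
  .o9 4,
  .o9 4,
  .cj 6 [29,35,8,1],
  .o9 4,
  .o9 0,
  .o9 0,
  .o9 4,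
  .o9 0,
  .o9 0,
  .o9 4,
  .o9 0,
  .o9 0,
  .o9 4,
  .o9 0,
  .o9 0,
  .o9 4,
  .o9 0,
  .o9 0,
  .o9 4,
  .o9 0,
  .o9 0,
  .cj 3 [36,11,10],
  .cj 5 [27,11,35,6],
  .cj 3 [34,31,25],
  .o9 4,
  .o9 4,
  .o9 4,
  .o9 4,
  .o9 4,
  .o9 4,
  .o9 5,
  .o9 0,
  .o9 0,
  .o9 4,
  .o9 0,
  .o9 0,
  .o9 4,
  .o9 0,
  .o9 0,
  .o9 5,
  .o9 0,
  .o9 0,
  .o9 4,
  .o9 0,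
  .o9 0,
  .o9 4,
  .o9 0,
  .o9 0,
  .cj 4 [11,10,7],
  .cj 4 [34,6,10],
  .cj 5 [27,24,13,11,26,6],
  .o9 4,
  .o9 4,
  .o9 4,
  .o9 4,
  .o9 4,
  .o9 4,
  .o9 4,
  .o9 0,
  .o9 0,
  .o9 4,
  .o9 0,
  .o9 0,
  .o9 4,
  .o9 0,
  .o9 0,
  .o9 4,
  .o9 0,
  .o9 0,
  .o9 4,
  .o9 0,
  .o9 0,
  .o9 4,
  .o9 0,
  .o9 0,
  .cj 2 [34,31,12,7],
  .cj 6 [27,11,35,9,8],
  .cj 6 [9,29,17,6,8],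
  .o9 4,
  .o9 4,
  .o9 4,
  .o9 4,
  .o9 4,
  .o9 4,
  .o9 4,
  .o9 0,
  .o9 0,
  .o9 4,
  .o9 0,
  .o9 0,
  .o9 4,
  .o9 0,
  .o9 0,
  .o9 4,
  .o9 0,
  .o9 0,
  .o9 4,
  .o9 0,
  .o9 0,
  .o9 4,
  .o9 0,
  .o9 0,
  .cj 4 [11,10,9],
  .o9 4,
  .o9 4,
  .o9 4,
  .cj 4 [32,27,16,13,7],
  .o9 4,
  .o9 4,
  .o9 4,
  .cj 5 [13,29,8,24,1],
  .o9 5,
  .o9 0,
  .o9 0,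
  .o9 4,
  .o9 0,
  .o9 0,
  .o9 4,
  .o9 0,
  .o9 0,
  .o9 5,
  .o9 0,
  .o9 0,
  .o9 4,
  .o9 0,
  .o9 0,
  .o9 4,
  .o9 0,
  .o9 0,
  .cj 2 [10,12,8,7],
  .o9 4,
  .o9 4,
  .o9 4,
  .cj 6 [9,11,35,6,8],
  .o9 4,
  .o9 4,
  .o9 4,
  .cj 6 [29,17,8,1],
  .o9 4,
  .o9 0,
  .o9 0,
  .o9 4,
  .o9 0,
  .o9 0,
  .o9 4,
  .o9 0,
  .o9 0,
  .o9 4,
  .o9 0,
  .o9 0,
  .o9 4,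
  .o9 0,
  .o9 0,
  .o9 4,
  .o9 0,
  .o9 0,
  .cj 3 [36,26,11,7],
  .o9 4,
  .o9 4,
  .o9 4,
  .cj 5 [29,17,6],
  .o9 4,
  .o9 4,
  .o9 4,
  .cj 3 [27,34,28],
  .o9 4,
  .o9 0,
  .o9 0,
  .o9 4,
  .o9 0,
  .o9 0,
  .o9 4,
  .o9 0,
  .o9 0,
  .o9 4,
  .o9 0,
  .o9 0,
  .o9 4,
  .o9 0,
  .o9 0,
  .o9 4,
  .o9 0,
  .o9 0,
  .cj 2 [15,10,12,9],
  .o9 4,
  .o9 4,
  .o9 4,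
  .o9 4,
  .cj 6 [36,31,11,17,8],
  .o9 4,
  .cj 6 [11,35,24,8,1],
  .o9 4,
  .o9 5,
  .o9 0,
  .o9 0,
  .o9 4,
  .o9 0,
  .o9 0,
  .o9 4,
  .o9 0,
  .o9 0,
  .o9 5,
  .o9 0,
  .o9 0,
  .o9 4,
  .o9 0,
  .o9 0,
  .o9 4,
  .o9 0,
  .o9 0,
  .cj 3 [10,27,12,7],
  .o9 4,
  .o9 4,
  .o9 4,
  .o9 4,
  .cj 3 [9,34,31,7],
  .o9 4,
  .cj 5 [11,35,13],
  .o9 4,
  .o9 4,
  .o9 0,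
  .o9 0,
  .o9 4,
  .o9 0,
  .o9 0,
  .o9 4,
  .o9 0,
  .o9 0,
  .o9 4,
  .o9 0,
  .o9 0,
  .o9 4,
  .o9 0,
  .o9 0,
  .o9 4,
  .o9 0,
  .o9 0,
  .cj 4 [24,9,10,7],
  .o9 4,
  .o9 4,
  .o9 4,
  .o9 4,
  .cj 5 [32,11,6,26,6],
  .o9 4,
  .cj 4 [6,9,34,31,7],
  .o9 4,
  .o9 4,
  .o9 0,
  .o9 0,
  .o9 4,
  .o9 0,
  .o9 0,
  .o9 4,
  .o9 0,
  .o9 0,
  .o9 4,
  .o9 0,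
  .o9 0,
  .o9 4,
  .o9 0,
  .o9 0,
  .o9 4,
  .o9 0,
  .o9 0]

theorem h28_len_17 : h28_certs_17.length = 729 := by decide +kernel

theorem h28_chk_17 : chkAll 12393 h28_certs_17 = true := by decide +kernel

end Cfsg.Agent.Lib.Helper28.O73C
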