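import Cfsg.Agent.Lib.Helper28.O73C.Comp

/-! Project O73C (S5514): certificates for the parameters 13122 to 13850 (generated, helper28). -/

set_option autoImplicit false
set_option maxRecDepth 100000

namespace Cfsg.Agent.Lib.Helper28.O73C

/-- certificates, chunk 18 -/
def h28_certs_18 : List Cert :=
  [.cj 0 [36],
  .cj 6 [17,14,2,5,1],
  .cj 6 [17,20,14,23,1],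
  .cj 6 [6,26,6],
  .cj 6 [29,6,26,6],
  .cj 6 [11,6,26,6],
  .cj 6 [14,17,14,1],
  .cj 6 [17,14,13,5],
  .cj 6 [13,29,17,14],
  .cj 1 [],
  .o9 4,
  .o9 4,
  .cj 6 [6,26],
  .o9 4,
  .o9 4,
  .cj 6 [26,14,17,14,1],
  .o9 4,
  .o9 4,
  .cj 2 [17,29,13,9],
  .o9 4,
  .o9 4,
  .cj 6 [6,26,24],
  .o9 4,
  .o9 4,
  .cj 6 [14,17,14,8,1],
  .o9 4,
  .o9 4,
  .cj 4 [28,13,7],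
  .cj 6 [9,29,26,14,6],
  .cj 6 [27,11,26,14,6],
  .cj 6 [26,14,6],
  .cj 6 [29,26,14,6],
  .cj 6 [11,26,14,6],
  .cj 6 [17,14,6,1],
  .cj 6 [17,14,6,5,1],
  .cj 6 [25,29,17,14],
  .cj 6 [35,14,8,2,6],
  .o9 4,
  .o9 4,
  .cj 5 [6,26,14,1],
  .o9 4,
  .o9 4,
  .cj 5 [32,24,13,8],
  .o9 4,
  .o9 4,
  .cj 5 [35,6,26,14,6],
  .o9 4,
  .o9 4,
  .cj 4 [17,28,8,7],
  .o9 4,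
  .o9 4,
  .cj 4 [35,25,28,26,7],
  .o9 4,
  .o9 4,
  .cj 3 [10,25,10],
  .cj 6 [9,32,29,26,6],
  .cj 6 [27,32,11,26,6],
  .cj 6 [32,26,6],
  .cj 6 [32,29,26,6],
  .cj 6 [32,11,26,6],
  .cj 6 [35,32,6,1],
  .cj 6 [35,32,6,5,1],
  .cj 6 [35,32,1,23],
  .cj 6 [17,32,8,2,6],
  .o9 4,
  .o9 4,
  .cj 5 [14,17,8,1],
  .o9 4,
  .o9 4,
  .cj 5 [36,26,17,1],
  .o9 4,
  .o9 4,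
  .cj 5 [36],
  .o9 4,
  .o9 4,
  .cj 3 [36,35,28,8,7],
  .o9 4,
  .o9 4,
  .cj 3 [17,10,24,9],
  .o9 4,
  .o9 4,
  .cj 2 [29,13,9],
  .o9 4,
  .o9 4,
  .cj 6 [35,6,26,24],
  .o9 4,
  .o9 4,
  .cj 6 [14,17,8,1],
  .o9 4,
  .o9 4,
  .cj 0 [36,35],
  .cj 6 [20,14,5],
  .cj 6 [14,23],
  .cj 6 [35,6,26,6],
  .cj 6 [14,31,5,1],
  .cj 6 [9,14,23],
  .cj 6 [14,17,1],
  .cj 6 [13,14,9,5],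
  .cj 6 [27,14,23],
  .cj 1 [35],
  .o9 4,
  .o9 4,
  .cj 6 [35,6,26],
  .o9 4,
  .o9 4,
  .cj 6 [26,14,17,1],
  .o9 4,
  .o9 4,
  .cj 4 [28,13,8,7],
  .o9 4,
  .o9 4,
  .cj 4 [17,28,26,7],
  .o9 4,
  .o9 4,
  .cj 5 [32,8,24,13,8],
  .o9 4,
  .o9 4,
  .cj 6 [35,26,14,2,6],
  .cj 6 [14,13,5],
  .cj 6 [31,7,14,23],
  .cj 6 [14,6],
  .cj 6 [14,2,5,1],
  .cj 6 [14,6,2,23],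
  .cj 4 [35,25,28,7],
  .cj 6 [31,14,9,5],
  .cj 6 [24,14,13,23],
  .cj 5 [35,6,26,14],
  .o9 4,
  .o9 4,
  .cj 5 [35,32,24,8,1],
  .o9 4,
  .o9 4,
  .cj 6 [17,14,8,6,1],
  .o9 4,
  .o9 4,
  .cj 3 [10,25,10,9],
  .o9 4,
  .o9 4,
  .cj 5 [14,17,1],
  .o9 4,
  .o9 4,
  .cj 3 [17,10,8,25],
  .o9 4,
  .o9 4,
  .cj 6 [17,32,2,6],
  .cj 6 [27,24,14,5],
  .cj 6 [13,14,23],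
  .cj 3 [36,35,28,7],
  .cj 6 [9,24,14,5],
  .cj 6 [14,23,17,1],
  .cj 6 [35,32,26,6,1],
  .cj 6 [24,14,5],
  .cj 6 [20,14,23,1],
  .cj 5 [36,26],
  .o9 4,
  .o9 4,
  .cj 6 [32,8,6],
  .o9 4,
  .o9 4,
  .cj 5 [36,17,8,1],
  .o9 4,
  .o9 4,
  .cj 2 [11,27,13],
  .o9 4,
  .o9 4,
  .cj 6 [6,26,24,17],
  .o9 4,
  .o9 4,
  .cj 6 [32,35,8,1],
  .o9 4,
  .o9 4,
  .cj 0 [36,17],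
  .cj 6 [32,20,5],
  .cj 6 [32,23],
  .cj 6 [6,26,17,6],
  .cj 6 [32,13,5,1],
  .cj 6 [9,32,23],
  .cj 6 [32,35,1],
  .cj 6 [31,32,9,5],
  .cj 6 [27,32,23],
  .cj 1 [17],
  .o9 4,
  .o9 4,
  .cj 6 [6,26,17],
  .o9 4,
  .o9 4,
  .cj 6 [32,35,26,1],
  .o9 4,
  .o9 4,
  .cj 4 [11,26,13,7],
  .o9 4,
  .o9 4,
  .cj 5 [6,26,14,6,1],
  .o9 4,
  .o9 4,
  .cj 4 [35,12,28,8,7],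
  .o9 4,
  .o9 4,
  .cj 6 [35,14,2,6],
  .cj 6 [27,32,24,5],
  .cj 6 [31,32,23],
  .cj 4 [17,28,7],
  .cj 6 [9,32,24,5],
  .cj 6 [32,35,23,1],
  .cj 6 [26,17,14,6,1],
  .cj 6 [32,24,5],
  .cj 6 [32,20,23,1],
  .cj 5 [17,32,24,8],
  .o9 4,
  .o9 4,
  .cj 6 [14,8,6],
  .o9 4,
  .o9 4,
  .cj 5 [36,32,6,26,1],
  .o9 4,
  .o9 4,
  .cj 3 [10,8,25,10],
  .o9 4,
  .o9 4,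
  .cj 3 [36,35,28,26,7],
  .o9 4,
  .o9 4,
  .cj 5 [36,17,1],
  .o9 4,
  .o9 4,
  .cj 6 [17,32,26,2,6],
  .cj 6 [32,31,5],
  .cj 6 [13,32,19,23],
  .cj 6 [32,6],
  .cj 6 [32,2,5,1],
  .cj 6 [32,6,2,23],
  .cj 3 [17,10,25],
  .cj 6 [13,32,9,5],
  .cj 6 [32,19,23,17],
  .cj 5 [36,8],
  .o9 4,
  .o9 4,
  .cj 5 [26,14,17,1],
  .o9 4,
  .o9 4,
  .cj 6 [35,32,8,6,1],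
  .o9 4,
  .o9 4,
  .cj 2 [13],
  .cj 6 [27,14,11,17,8,1],
  .cj 6 [31,9,29,35,8],
  .o9 4,
  .o9 4,
  .o9 4,
  .o9 4,
  .o9 4,
  .o9 4,
  .o9 5,
  .o9 0,
  .o9 0,
  .o9 4,
  .o9 0,
  .o9 0,
  .o9 4,
  .o9 0,
  .o9 0,
  .o9 5,
  .o9 0,
  .o9 0,
  .o9 4,
  .o9 0,
  .o9 0,
  .o9 4,
  .o9 0,
  .o9 0,
  .cj 4 [13,7],
  .cj 5 [25,9,29,26,14,6],
  .cj 4 [34,13,11,10,7],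
  .o9 4,
  .o9 4,
  .o9 4,
  .o9 4,
  .o9 4,
  .o9 4,
  .o9 4,
  .o9 0,
  .o9 0,
  .o9 4,
  .o9 0,
  .o9 0,
  .o9 4,
  .o9 0,
  .o9 0,
  .o9 4,
  .o9 0,
  .o9 0,
  .o9 4,
  .o9 0,
  .o9 0,
  .o9 4,
  .o9 0,
  .o9 0,
  .cj 3 [25,10],
  .cj 3 [34,25,11,10,7],
  .cj 5 [27,14,11,17,1],
  .o9 4,
  .o9 4,
  .o9 4,
  .o9 4,
  .o9 4,
  .o9 4,
  .o9 4,
  .o9 0,
  .o9 0,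
  .o9 4,
  .o9 0,
  .o9 0,
  .o9 4,
  .o9 0,
  .o9 0,
  .o9 4,
  .o9 0,
  .o9 0,
  .o9 4,
  .o9 0,
  .o9 0,
  .o9 4,
  .o9 0,
  .o9 0,
  .cj 2 [13,9],
  .o9 4,
  .o9 4,
  .o9 4,
  .o9 4,
  .cj 6 [31,27,29,35,8],
  .o9 4,
  .cj 6 [14,11,17,8,1],
  .o9 4,
  .o9 5,
  .o9 0,
  .o9 0,
  .o9 4,
  .o9 0,
  .o9 0,
  .o9 4,
  .o9 0,
  .o9 0,
  .o9 5,
  .o9 0,
  .o9 0,
  .o9 4,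
  .o9 0,
  .o9 0,
  .o9 4,
  .o9 0,
  .o9 0,
  .cj 4 [13,8,7],
  .o9 4,
  .o9 4,
  .o9 4,
  .o9 4,
  .cj 4 [14,9,16,10,7],
  .o9 4,
  .cj 5 [13,11,8,24,8,1],
  .o9 4,
  .o9 4,
  .o9 0,
  .o9 0,
  .o9 4,
  .o9 0,
  .o9 0,
  .o9 4,
  .o9 0,
  .o9 0,
  .o9 4,
  .o9 0,
  .o9 0,
  .o9 4,
  .o9 0,
  .o9 0,
  .o9 4,
  .o9 0,
  .o9 0,
  .cj 3 [25,10,9],
  .o9 4,
  .o9 4,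
  .o9 4,
  .o9 4,
  .cj 5 [14,11,17,1],
  .o9 4,
  .cj 3 [24,9,34,10,7],
  .o9 4,
  .o9 4,
  .o9 0,
  .o9 0,
  .o9 4,
  .o9 0,
  .o9 0,
  .o9 4,
  .o9 0,
  .o9 0,
  .o9 4,
  .o9 0,
  .o9 0,
  .o9 4,
  .o9 0,
  .o9 0,
  .o9 4,
  .o9 0,
  .o9 0,
  .cj 2 [27,13],
  .o9 4,
  .o9 4,
  .o9 4,
  .cj 6 [32,9,11,17,8],
  .o9 4,
  .o9 4,
  .o9 4,
  .cj 6 [31,29,35,8],
  .o9 5,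
  .o9 0,
  .o9 0,
  .o9 4,
  .o9 0,
  .o9 0,
  .o9 4,
  .o9 0,
  .o9 0,
  .o9 5,
  .o9 0,
  .o9 0,
  .o9 4,
  .o9 0,
  .o9 0,
  .o9 4,
  .o9 0,
  .o9 0,
  .cj 4 [26,13,7],
  .o9 4,
  .o9 4,
  .o9 4,
  .cj 5 [25,29,26,14,6],
  .o9 4,
  .o9 4,
  .o9 4,
  .cj 4 [36,6,27,34,10],
  .o9 4,
  .o9 0,
  .o9 0,
  .o9 4,
  .o9 0,
  .o9 0,
  .o9 4,
  .o9 0,
  .o9 0,
  .o9 4,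
  .o9 0,
  .o9 0,
  .o9 4,
  .o9 0,
  .o9 0,
  .o9 4,
  .o9 0,
  .o9 0,
  .cj 3 [8,25,10],
  .o9 4,
  .o9 4,
  .o9 4,
  .cj 3 [7,11,9,16,10],
  .o9 4,
  .o9 4,
  .o9 4,
  .cj 5 [36,29,17,1],
  .o9 4,
  .o9 0,
  .o9 0,
  .o9 4,
  .o9 0,
  .o9 0,
  .o9 4,
  .o9 0,
  .o9 0,
  .o9 4,
  .o9 0,
  .o9 0,
  .o9 4,
  .o9 0,
  .o9 0,
  .o9 4,
  .o9 0,
  .o9 0,
  .cj 2 [16,13],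
  .cj 6 [27,32,11,35,8,1],
  .cj 6 [13,9,29,17,8],
  .o9 4,
  .o9 4,
  .o9 4,
  .o9 4,
  .o9 4,
  .o9 4,
  .o9 5,
  .o9 0,
  .o9 0,
  .o9 4,
  .o9 0,
  .o9 0,
  .o9 4,
  .o9 0,
  .o9 0,
  .o9 5,
  .o9 0,
  .o9 0,
  .o9 4,
  .o9 0,
  .o9 0,
  .o9 4,
  .o9 0,
  .o9 0,
  .cj 4 [13,10,7],
  .cj 4 [16,14,13,7],
  .cj 5 [31,9,29,8,24,8],
  .o9 4,
  .o9 4,
  .o9 4,
  .o9 4,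
  .o9 4,
  .o9 4,
  .o9 4,
  .o9 0,
  .o9 0,
  .o9 4,
  .o9 0,
  .o9 0,
  .o9 4,
  .o9 0,
  .o9 0,
  .o9 4,
  .o9 0,
  .o9 0,
  .o9 4,
  .o9 0,
  .o9 0,
  .o9 4,
  .o9 0,
  .o9 0,
  .cj 3 [25,10,7],
  .cj 5 [36,27,11,17,1],
  .cj 3 [25,16,6,10],
  .o9 4,
  .o9 4,
  .o9 4,
  .o9 4,
  .o9 4,
  .o9 4,
  .o9 4,
  .o9 0,
  .o9 0,
  .o9 4,
  .o9 0,
  .o9 0,
  .o9 4,
  .o9 0,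
  .o9 0,
  .o9 4,
  .o9 0,
  .o9 0,
  .o9 4,
  .o9 0,
  .o9 0,
  .o9 4,
  .o9 0,
  .o9 0,
  .cj 2 [31,11,9],
  .o9 4,
  .o9 4,
  .o9 4,
  .cj 6 [14,9,11,35,8],
  .o9 4,
  .o9 4,
  .o9 4,
  .cj 6 [13,29,17,8],
  .o9 5,
  .o9 0,
  .o9 0,
  .o9 4,
  .o9 0,
  .o9 0,
  .o9 4,
  .o9 0,
  .o9 0,
  .o9 5,
  .o9 0,
  .o9 0,
  .o9 4,
  .o9 0,
  .o9 0,
  .o9 4,
  .o9 0,
  .o9 0,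
  .cj 4 [13,10,8,7],
  .o9 4,
  .o9 4,
  .o9 4,
  .cj 4 [24,27,16,13],
  .o9 4,
  .o9 4,
  .o9 4,
  .cj 5 [31,29,8,24,8],
  .o9 4,
  .o9 0,
  .o9 0,
  .o9 4,
  .o9 0,
  .o9 0,
  .o9 4,
  .o9 0,
  .o9 0,
  .o9 4,
  .o9 0,
  .o9 0,
  .o9 4,
  .o9 0,
  .o9 0,
  .o9 4,
  .o9 0,
  .o9 0,
  .cj 3 [25,10,8,7],
  .o9 4,
  .o9 4,
  .o9 4,
  .cj 5 [29,14,17,1],
  .o9 4,
  .o9 4,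
  .o9 4,
  .cj 3 [6,27,16,10],
  .o9 4,
  .o9 0,
  .o9 0,
  .o9 4,
  .o9 0,
  .o9 0,
  .o9 4,
  .o9 0,
  .o9 0,
  .o9 4,
  .o9 0,
  .o9 0,
  .o9 4,
  .o9 0,
  .o9 0,
  .o9 4,
  .o9 0,
  .o9 0,
  .cj 2 [36,14,9],
  .o9 4,
  .o9 4,
  .o9 4,
  .o9 4,
  .cj 6 [27,13,29,17,8],
  .o9 4,
  .cj 6 [32,11,35,8,1],
  .o9 4,
  .o9 5,
  .o9 0,
  .o9 0,
  .o9 4,
  .o9 0,
  .o9 0,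
  .o9 4,
  .o9 0,
  .o9 0,
  .o9 5,
  .o9 0,
  .o9 0,
  .o9 4,
  .o9 0,
  .o9 0,
  .o9 4,
  .o9 0,
  .o9 0,
  .cj 4 [13,9,10,7],
  .o9 4,
  .o9 4,
  .o9 4,
  .o9 4,
  .cj 5 [11,6,26,14,6,1],
  .o9 4,
  .cj 4 [9,16,14,13,7],
  .o9 4,
  .o9 4,
  .o9 0,
  .o9 0,
  .o9 4,
  .o9 0,
  .o9 0,
  .o9 4,
  .o9 0,
  .o9 0,
  .o9 4,
  .o9 0,
  .o9 0,
  .o9 4,
  .o9 0,
  .o9 0,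
  .o9 4,
  .o9 0,
  .o9 0,
  .cj 3 [36,31,8,7],
  .o9 4,
  .o9 4,
  .o9 4,
  .o9 4,
  .cj 3 [6,9,16,13,7],
  .o9 4,
  .cj 5 [36,11,17,1],
  .o9 4,
  .o9 4,
  .o9 0,
  .o9 0,
  .o9 4,
  .o9 0,
  .o9 0,
  .o9 4,
  .o9 0,
  .o9 0,
  .o9 4,
  .o9 0,
  .o9 0,
  .o9 4,
  .o9 0,
  .o9 0,
  .o9 4,
  .o9 0,
  .o9 0]

theorem h28_len_18 : h28_certs_18.length = 729 := by decide +kernel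

theorem h28_chk_18 : chkAll 13122 h28_certs_18 = true := by decide +kernel

end Cfsg.Agent.Lib.Helper28.O73C
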