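import Cfsg.Agent.Lib.Helper28.O73C.Comp

/-! Project O73C (S5514): certificates for the parameters 13851 to 14579 (generated, helper28). -/

set_option autoImplicit false
set_option maxRecDepth 100000

namespace Cfsg.Agent.Lib.Helper28.O73C

/-- certificates, chunk 19 -/
def h28_certs_19 : List Cert :=
  [.cj 0 [36,7],
  .cj 6 [17,14,2,6,5],
  .cj 6 [17,20,24,14,23],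
  .cj 6 [6,26,2,6],
  .cj 6 [29,26,2,6],
  .cj 6 [25,11,26,6,1],
  .cj 6 [14,17,14],
  .cj 6 [14,17,14,6,5],
  .cj 6 [6,9,11,26,6],
  .cj 1 [7],
  .o9 4,
  .o9 4,
  .cj 6 [6,26,9],
  .o9 4,
  .o9 4,
  .cj 6 [26,14,17,14],
  .o9 4,
  .o9 4,
  .cj 2 [17,7,29,13,9],
  .o9 4,
  .o9 4,
  .cj 6 [36,24,9,8],
  .o9 4,
  .o9 4,
  .cj 6 [14,17,14,8],
  .o9 4,
  .o9 4,
  .cj 4 [25,28,7],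
  .cj 6 [27,24,17,14,5],
  .cj 6 [9,29,17,14],
  .cj 6 [26,14,2,6],
  .cj 6 [35,32,20,1,5],
  .cj 6 [27,29,17,14],
  .cj 6 [17,14,6],
  .cj 6 [24,17,14,5],
  .cj 6 [29,17,14],
  .cj 6 [35,14,8,6,1],
  .o9 4,
  .o9 4,
  .cj 5 [6,26,14],
  .o9 4,
  .o9 4,
  .cj 5 [32,24,8,1],
  .o9 4,
  .o9 4,
  .cj 5 [35,6,26,14,2,6],
  .o9 4,
  .o9 4,
  .cj 4 [17,28,13,8,7],
  .o9 4,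
  .o9 4,
  .cj 4 [35,28,26,7],
  .o9 4,
  .o9 4,
  .cj 3 [10,25],
  .cj 6 [17,13,24,14,5],
  .cj 6 [17,31,14,23],
  .cj 6 [32,26,2,6],
  .cj 6 [17,20,14,1,5],
  .cj 6 [35,27,32,23],
  .cj 6 [35,32,6],
  .cj 6 [35,32,24,5],
  .cj 6 [35,32,23],
  .cj 6 [17,32,8,6,1],
  .o9 4,
  .o9 4,
  .cj 5 [14,17,8],
  .o9 4,
  .o9 4,
  .cj 5 [32,35,26,1],
  .o9 4,
  .o9 4,
  .cj 5 [36,1],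
  .o9 4,
  .o9 4,
  .cj 3 [35,10,8,25,10],
  .o9 4,
  .o9 4,
  .cj 3 [36,17,28,26,7],
  .o9 4,
  .o9 4,
  .cj 2 [7,29,13,9],
  .o9 4,
  .o9 4,
  .cj 6 [36,35,24,9,8],
  .o9 4,
  .o9 4,
  .cj 6 [14,17,8],
  .o9 4,
  .o9 4,
  .cj 0 [36,35,7],
  .cj 6 [20,7,14,5],
  .cj 6 [7,14,23],
  .cj 6 [14,5,31,20,5],
  .cj 6 [14,31,6,5],
  .cj 6 [9,7,14,23],
  .cj 6 [14,17],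
  .cj 6 [13,14,6,5,1],
  .cj 6 [27,7,14,23],
  .cj 1 [35,7],
  .o9 4,
  .o9 4,
  .cj 6 [35,6,26,9],
  .o9 4,
  .o9 4,
  .cj 6 [26,14,17],
  .o9 4,
  .o9 4,
  .cj 4 [12,28,8,7],
  .o9 4,
  .o9 4,
  .cj 4 [11,27,16,13,7],
  .o9 4,
  .o9 4,
  .cj 5 [32,8,24,8,1],
  .o9 4,
  .o9 4,
  .cj 6 [35,26,14,6,1],
  .cj 6 [14,17,6,5],
  .cj 6 [31,14,1,23],
  .cj 6 [14,2,6],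
  .cj 6 [14,2,6,5],
  .cj 6 [14,2,23,6],
  .cj 4 [35,28,7],
  .cj 6 [24,31,14,5],
  .cj 6 [17,32,1,23],
  .cj 5 [35,6,26,14,13],
  .o9 4,
  .o9 4,
  .cj 5 [36,24,14,8],
  .o9 4,
  .o9 4,
  .cj 6 [17,14,8,6],
  .o9 4,
  .o9 4,
  .cj 3 [10,24,9],
  .o9 4,
  .o9 4,
  .cj 5 [14,17],
  .o9 4,
  .o9 4,
  .cj 3 [36,17,28,8,7],
  .o9 4,
  .o9 4,
  .cj 6 [17,32,6,1],
  .cj 6 [14,31,2,5],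
  .cj 6 [13,7,14,23],
  .cj 3 [35,10,25,10],
  .cj 6 [9,14,9,5],
  .cj 6 [24,14,23,17],
  .cj 6 [35,32,26,6],
  .cj 6 [14,9,5],
  .cj 6 [20,24,14,23],
  .cj 5 [36,26,1],
  .o9 4,
  .o9 4,
  .cj 6 [32,8,2,6],
  .o9 4,
  .o9 4,
  .cj 5 [32,35,8,1],
  .o9 4,
  .o9 4,
  .cj 2 [11,27,8,12],
  .o9 4,
  .o9 4,
  .cj 6 [36,24,17,9,8],
  .o9 4,
  .o9 4,
  .cj 6 [32,35,8],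
  .o9 4,
  .o9 4,
  .cj 0 [36,17,7],
  .cj 6 [32,20,19,5],
  .cj 6 [32,19,23],
  .cj 6 [32,5,20,13,5],
  .cj 6 [32,13,6,5],
  .cj 6 [9,32,19,23],
  .cj 6 [32,35],
  .cj 6 [31,32,6,5,1],
  .cj 6 [27,32,19,23],
  .cj 1 [17,7],
  .o9 4,
  .o9 4,
  .cj 6 [6,26,17,9],
  .o9 4,
  .o9 4,
  .cj 6 [32,35,26],
  .o9 4,
  .o9 4,
  .cj 4 [25,28,26,7],
  .o9 4,
  .o9 4,
  .cj 5 [6,26,14,6],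
  .o9 4,
  .o9 4,
  .cj 4 [35,28,8,7],
  .o9 4,
  .o9 4,
  .cj 6 [35,14,6,1],
  .cj 6 [32,13,2,5],
  .cj 6 [31,32,19,23],
  .cj 4 [17,28,13,7],
  .cj 6 [9,32,9,5],
  .cj 6 [32,35,24,23],
  .cj 6 [26,17,14,6],
  .cj 6 [32,9,5],
  .cj 6 [32,20,24,23],
  .cj 5 [17,32,24,13,8],
  .o9 4,
  .o9 4,
  .cj 6 [14,8,2,6],
  .o9 4,
  .o9 4,
  .cj 5 [32,24,8,6,1],
  .o9 4,
  .o9 4,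
  .cj 3 [10,8,25],
  .o9 4,
  .o9 4,
  .cj 3 [35,10,25,10,9],
  .o9 4,
  .o9 4,
  .cj 5 [32,35,1],
  .o9 4,
  .o9 4,
  .cj 6 [17,32,26,6,1],
  .cj 6 [32,35,6,5],
  .cj 6 [13,32,1,23],
  .cj 6 [32,2,6],
  .cj 6 [32,2,6,5],
  .cj 6 [32,2,23,6],
  .cj 3 [36,17,28,7],
  .cj 6 [24,13,32,5],
  .cj 6 [32,1,23,17],
  .cj 5 [36,8,1],
  .o9 4,
  .o9 4,
  .cj 5 [26,14,17],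
  .o9 4,
  .o9 4,
  .cj 6 [35,32,8,6],
  .o9 4,
  .o9 4,
  .cj 3 [10],
  .cj 3 [34,11,10,7],
  .cj 5 [27,14,11,17,6],
  .o9 4,
  .o9 4,
  .o9 4,
  .o9 4,
  .o9 4,
  .o9 4,
  .o9 5,
  .o9 0,
  .o9 0,
  .o9 4,
  .o9 0,
  .o9 0,
  .o9 4,
  .o9 0,
  .o9 0,
  .o9 5,
  .o9 0,
  .o9 0,
  .o9 4,
  .o9 0,
  .o9 0,
  .o9 4,
  .o9 0,
  .o9 0,
  .cj 2 [13,7],
  .cj 6 [27,14,11,17,6,8],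
  .cj 6 [36,27,11,35,9,8],
  .o9 4,
  .o9 4,
  .o9 4,
  .o9 4,
  .o9 4,
  .o9 4,
  .o9 4,
  .o9 0,
  .o9 0,
  .o9 4,
  .o9 0,
  .o9 0,
  .o9 4,
  .o9 0,
  .o9 0,
  .o9 4,
  .o9 0,
  .o9 0,
  .o9 4,
  .o9 0,
  .o9 0,
  .o9 4,
  .o9 0,
  .o9 0,
  .cj 4 [25,13],
  .cj 5 [9,29,26,14,6],
  .cj 4 [36,34,6,10],
  .o9 4,
  .o9 4,
  .o9 4,
  .o9 4,
  .o9 4,
  .o9 4,
  .o9 4,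
  .o9 0,
  .o9 0,
  .o9 4,
  .o9 0,
  .o9 0,
  .o9 4,
  .o9 0,
  .o9 0,
  .o9 4,
  .o9 0,
  .o9 0,
  .o9 4,
  .o9 0,
  .o9 0,
  .o9 4,
  .o9 0,
  .o9 0,
  .cj 3 [10,9],
  .o9 4,
  .o9 4,
  .o9 4,
  .o9 4,
  .cj 5 [14,11,17,6],
  .o9 4,
  .cj 3 [9,34,11,10,7],
  .o9 4,
  .o9 5,
  .o9 0,
  .o9 0,
  .o9 4,
  .o9 0,
  .o9 0,
  .o9 4,
  .o9 0,
  .o9 0,
  .o9 5,
  .o9 0,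
  .o9 0,
  .o9 4,
  .o9 0,
  .o9 0,
  .o9 4,
  .o9 0,
  .o9 0,
  .cj 2 [13,8,7],
  .o9 4,
  .o9 4,
  .o9 4,
  .o9 4,
  .cj 6 [36,11,35,9,8],
  .o9 4,
  .cj 6 [14,11,17,6,8],
  .o9 4,
  .o9 4,
  .o9 0,
  .o9 0,
  .o9 4,
  .o9 0,
  .o9 0,
  .o9 4,
  .o9 0,
  .o9 0,
  .o9 4,
  .o9 0,
  .o9 0,
  .o9 4,
  .o9 0,
  .o9 0,
  .o9 4,
  .o9 0,
  .o9 0,
  .cj 4 [25,13,9],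
  .o9 4,
  .o9 4,
  .o9 4,
  .o9 4,
  .cj 4 [36,9,34,6,10],
  .o9 4,
  .cj 5 [13,11,8,24,1],
  .o9 4,
  .o9 4,
  .o9 0,
  .o9 0,
  .o9 4,
  .o9 0,
  .o9 0,
  .o9 4,
  .o9 0,
  .o9 0,
  .o9 4,
  .o9 0,
  .o9 0,
  .o9 4,
  .o9 0,
  .o9 0,
  .o9 4,
  .o9 0,
  .o9 0,
  .cj 3 [27,10],
  .o9 4,
  .o9 4,
  .o9 4,
  .cj 3 [27,34,11,10,7],
  .o9 4,
  .o9 4,
  .o9 4,
  .cj 5 [31,29,35,24],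
  .o9 5,
  .o9 0,
  .o9 0,
  .o9 4,
  .o9 0,
  .o9 0,
  .o9 4,
  .o9 0,
  .o9 0,
  .o9 5,
  .o9 0,
  .o9 0,
  .o9 4,
  .o9 0,
  .o9 0,
  .o9 4,
  .o9 0,
  .o9 0,
  .cj 2 [26,13,7],
  .o9 4,
  .o9 4,
  .o9 4,
  .cj 6 [36,25,29,17,8],
  .o9 4,
  .o9 4,
  .o9 4,
  .cj 6 [32,29,35,24,8],
  .o9 4,
  .o9 0,
  .o9 0,
  .o9 4,
  .o9 0,
  .o9 0,
  .o9 4,
  .o9 0,
  .o9 0,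
  .o9 4,
  .o9 0,
  .o9 0,
  .o9 4,
  .o9 0,
  .o9 0,
  .o9 4,
  .o9 0,
  .o9 0,
  .cj 4 [8,25,13],
  .o9 4,
  .o9 4,
  .o9 4,
  .cj 5 [29,26,14,6],
  .o9 4,
  .o9 4,
  .o9 4,
  .cj 4 [11,9,16,13],
  .o9 4,
  .o9 0,
  .o9 0,
  .o9 4,
  .o9 0,
  .o9 0,
  .o9 4,
  .o9 0,
  .o9 0,
  .o9 4,
  .o9 0,
  .o9 0,
  .o9 4,
  .o9 0,
  .o9 0,
  .o9 4,
  .o9 0,
  .o9 0,
  .cj 4 [36,10],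
  .cj 4 [25,12,16,13],
  .cj 5 [27,24,11,26,14,6],
  .o9 4,
  .o9 4,
  .o9 4,
  .o9 4,
  .o9 4,
  .o9 4,
  .o9 5,
  .o9 0,
  .o9 0,
  .o9 4,
  .o9 0,
  .o9 0,
  .o9 4,
  .o9 0,
  .o9 0,
  .o9 5,
  .o9 0,
  .o9 0,
  .o9 4,
  .o9 0,
  .o9 0,
  .o9 4,
  .o9 0,
  .o9 0,
  .cj 3 [10,7],
  .cj 5 [27,13,11,35,6],
  .cj 3 [16,6,10],
  .o9 4,
  .o9 4,
  .o9 4,
  .o9 4,
  .o9 4,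
  .o9 4,
  .o9 4,
  .o9 0,
  .o9 0,
  .o9 4,
  .o9 0,
  .o9 0,
  .o9 4,
  .o9 0,
  .o9 0,
  .o9 4,
  .o9 0,
  .o9 0,
  .o9 4,
  .o9 0,
  .o9 0,
  .o9 4,
  .o9 0,
  .o9 0,
  .cj 2 [16,13,7],
  .cj 6 [27,13,11,35,6,8],
  .cj 6 [36,27,11,17,9,8],
  .o9 4,
  .o9 4,
  .o9 4,
  .o9 4,
  .o9 4,
  .o9 4,
  .o9 4,
  .o9 0,
  .o9 0,
  .o9 4,
  .o9 0,
  .o9 0,
  .o9 4,
  .o9 0,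
  .o9 0,
  .o9 4,
  .o9 0,
  .o9 0,
  .o9 4,
  .o9 0,
  .o9 0,
  .o9 4,
  .o9 0,
  .o9 0,
  .cj 4 [36,27,10],
  .o9 4,
  .o9 4,
  .o9 4,
  .cj 4 [24,27,16,13,7],
  .o9 4,
  .o9 4,
  .o9 4,
  .cj 5 [36,31,29,26,6],
  .o9 5,
  .o9 0,
  .o9 0,
  .o9 4,
  .o9 0,
  .o9 0,
  .o9 4,
  .o9 0,
  .o9 0,
  .o9 5,
  .o9 0,
  .o9 0,
  .o9 4,
  .o9 0,
  .o9 0,
  .o9 4,
  .o9 0,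
  .o9 0,
  .cj 3 [10,8,7],
  .o9 4,
  .o9 4,
  .o9 4,
  .cj 5 [29,24,14,17],
  .o9 4,
  .o9 4,
  .o9 4,
  .cj 3 [27,16,6,10],
  .o9 4,
  .o9 0,
  .o9 0,
  .o9 4,
  .o9 0,
  .o9 0,
  .o9 4,
  .o9 0,
  .o9 0,
  .o9 4,
  .o9 0,
  .o9 0,
  .o9 4,
  .o9 0,
  .o9 0,
  .o9 4,
  .o9 0,
  .o9 0,
  .cj 2 [26,16,13,7],
  .o9 4,
  .o9 4,
  .o9 4,
  .cj 6 [36,25,29,35,8],
  .o9 4,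
  .o9 4,
  .o9 4,
  .cj 6 [29,24,14,17,8],
  .o9 4,
  .o9 0,
  .o9 0,
  .o9 4,
  .o9 0,
  .o9 0,
  .o9 4,
  .o9 0,
  .o9 0,
  .o9 4,
  .o9 0,
  .o9 0,
  .o9 4,
  .o9 0,
  .o9 0,
  .o9 4,
  .o9 0,
  .o9 0,
  .cj 4 [36,10,9],
  .o9 4,
  .o9 4,
  .o9 4,
  .o9 4,
  .cj 5 [24,11,26,14,6],
  .o9 4,
  .cj 4 [24,9,16,13],
  .o9 4,
  .o9 5,
  .o9 0,
  .o9 0,
  .o9 4,
  .o9 0,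
  .o9 0,
  .o9 4,
  .o9 0,
  .o9 0,
  .o9 5,
  .o9 0,
  .o9 0,
  .o9 4,
  .o9 0,
  .o9 0,
  .o9 4,
  .o9 0,
  .o9 0,
  .cj 3 [9,10,7],
  .o9 4,
  .o9 4,
  .o9 4,
  .o9 4,
  .cj 3 [9,16,6,10],
  .o9 4,
  .cj 5 [13,11,35,6],
  .o9 4,
  .o9 4,
  .o9 0,
  .o9 0,
  .o9 4,
  .o9 0,
  .o9 0,
  .o9 4,
  .o9 0,
  .o9 0,
  .o9 4,
  .o9 0,
  .o9 0,
  .o9 4,
  .o9 0,
  .o9 0,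
  .o9 4,
  .o9 0,
  .o9 0,
  .cj 2 [36,31,8,7],
  .o9 4,
  .o9 4,
  .o9 4,
  .o9 4,
  .cj 6 [36,11,17,9,8],
  .o9 4,
  .cj 6 [13,11,35,6,8],
  .o9 4,
  .o9 4,
  .o9 0,
  .o9 0,
  .o9 4,
  .o9 0,
  .o9 0,
  .o9 4,
  .o9 0,
  .o9 0,
  .o9 4,
  .o9 0,
  .o9 0,
  .o9 4,
  .o9 0,
  .o9 0,
  .o9 4,
  .o9 0,
  .o9 0]

theorem h28_len_19 : h28_certs_19.length = 729 := by decide +kernel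

theorem h28_chk_19 : chkAll 13851 h28_certs_19 = true := by decide +kernel

end Cfsg.Agent.Lib.Helper28.O73C
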