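import Cfsg.Agent.Lib.Helper28.O73C.Comp

/-! Project O73C (S5514): certificates for the parameters 14580 to 15308 (generated, helper28). -/

set_option autoImplicit false
set_option maxRecDepth 100000

namespace Cfsg.Agent.Lib.Helper28.O73C

/-- certificates, chunk 20 -/
def h28_certs_20 : List Cert :=
  [.cj 0 [10,7],
  .cj 6 [36,9,29,8,24],
  .cj 6 [27,11,26,6,1],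
  .cj 6 [6,26,6,1],
  .cj 6 [36,29,8,24],
  .cj 6 [11,26,6,1],
  .cj 6 [14,17,14,9],
  .cj 6 [17,14,13,1,5],
  .cj 6 [9,11,26,6,1],
  .cj 1 [1],
  .o9 4,
  .o9 4,
  .cj 6 [6,26,1],
  .o9 4,
  .o9 4,
  .cj 6 [26,14,17,14,9],
  .o9 4,
  .o9 4,
  .cj 2 [17,29,8,12,9],
  .o9 4,
  .o9 4,
  .cj 6 [36,24,8],
  .o9 4,
  .o9 4,
  .cj 6 [14,17,14,9,8],
  .o9 4,
  .o9 4,
  .cj 4 [28,7],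
  .cj 6 [17,14,31,2,5],
  .cj 6 [9,7,29,17,14],
  .cj 6 [26,14,6,1],
  .cj 6 [35,32,20,5],
  .cj 6 [25,11,26,14,6],
  .cj 6 [17,14,2,6],
  .cj 6 [17,14,9,5],
  .cj 6 [7,29,17,14],
  .cj 6 [35,14,8,6],
  .o9 4,
  .o9 4,
  .cj 5 [6,26,14,13],
  .o9 4,
  .o9 4,
  .cj 5 [32,24,8],
  .o9 4,
  .o9 4,
  .cj 5 [35,6,26,14,6,1],
  .o9 4,
  .o9 4,
  .cj 4 [17,12,28,8,7],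
  .o9 4,
  .o9 4,
  .cj 4 [35,11,26,13,7],
  .o9 4,
  .o9 4,
  .cj 3 [36,28,7],
  .cj 6 [35,32,13,2,5],
  .cj 6 [17,31,7,14,23],
  .cj 6 [32,26,6,1],
  .cj 6 [17,20,14,5],
  .cj 6 [32,25,11,26,6],
  .cj 6 [35,32,2,6],
  .cj 6 [35,32,9,5],
  .cj 6 [35,32,19,23],
  .cj 6 [17,32,8,6],
  .o9 4,
  .o9 4,
  .cj 5 [36,35,8,1],
  .o9 4,
  .o9 4,
  .cj 5 [36,26,17],
  .o9 4,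
  .o9 4,
  .cj 5 [36,13],
  .o9 4,
  .o9 4,
  .cj 3 [35,10,8,25],
  .o9 4,
  .o9 4,
  .cj 3 [17,10,25,10,9],
  .o9 4,
  .o9 4,
  .cj 2 [29,8,12,9],
  .o9 4,
  .o9 4,
  .cj 6 [36,35,24,8],
  .o9 4,
  .o9 4,
  .cj 6 [14,17,9,8],
  .o9 4,
  .o9 4,
  .cj 0 [35,10,7],
  .cj 6 [20,14,1,5],
  .cj 6 [14,1,23],
  .cj 6 [35,6,26,6,1],
  .cj 6 [17,32,24,5],
  .cj 6 [9,14,1,23],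
  .cj 6 [14,17,9],
  .cj 6 [13,24,14,5],
  .cj 6 [27,14,1,23],
  .cj 1 [35,1],
  .o9 4,
  .o9 4,
  .cj 6 [35,6,26,1],
  .o9 4,
  .o9 4,
  .cj 6 [26,14,17,9],
  .o9 4,
  .o9 4,
  .cj 4 [28,8,7],
  .o9 4,
  .o9 4,
  .cj 4 [12,17,28,26,7],
  .o9 4,
  .o9 4,
  .cj 5 [32,8,24,8],
  .o9 4,
  .o9 4,
  .cj 6 [35,26,14,6],
  .cj 6 [14,13,1,5],
  .cj 6 [31,14,23],
  .cj 6 [14,6,1],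
  .cj 6 [14,2,1,5,1],
  .cj 6 [14,2,23,9],
  .cj 4 [35,28,13,7],
  .cj 6 [31,24,14,5],
  .cj 6 [17,32,23],
  .cj 5 [35,6,26,14,1],
  .o9 4,
  .o9 4,
  .cj 5 [36,24,14,8,1],
  .o9 4,
  .o9 4,
  .cj 6 [17,14,8,2,6],
  .o9 4,
  .o9 4,
  .cj 3 [36,28,26,7],
  .o9 4,
  .o9 4,
  .cj 5 [36,35,1],
  .o9 4,
  .o9 4,
  .cj 3 [11,27,25,16,10],
  .o9 4,
  .o9 4,
  .cj 6 [17,32,6],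
  .cj 6 [27,14,6,5,1],
  .cj 6 [13,14,1,23],
  .cj 3 [35,10,25],
  .cj 6 [24,9,14,5],
  .cj 6 [14,31,23,6],
  .cj 6 [14,5,20,6,5],
  .cj 6 [14,6,5,1],
  .cj 6 [20,14,1,23,1],
  .cj 5 [36,26,13],
  .o9 4,
  .o9 4,
  .cj 6 [32,8,6,1],
  .o9 4,
  .o9 4,
  .cj 5 [36,17,8],
  .o9 4,
  .o9 4,
  .cj 2 [11,27,24,13],
  .o9 4,
  .o9 4,
  .cj 6 [36,24,17,8],
  .o9 4,
  .o9 4,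
  .cj 6 [32,35,9,8],
  .o9 4,
  .o9 4,
  .cj 0 [17,10,7],
  .cj 6 [32,20,1,5],
  .cj 6 [32,1,23],
  .cj 6 [6,26,17,6,1],
  .cj 6 [35,24,14,5],
  .cj 6 [9,32,1,23],
  .cj 6 [32,35,9],
  .cj 6 [31,32,24,5],
  .cj 6 [27,32,1,23],
  .cj 1 [17,1],
  .o9 4,
  .o9 4,
  .cj 6 [6,26,17,1],
  .o9 4,
  .o9 4,
  .cj 6 [32,35,26,9],
  .o9 4,
  .o9 4,
  .cj 4 [28,26,7],
  .o9 4,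
  .o9 4,
  .cj 5 [6,26,14,2,6],
  .o9 4,
  .o9 4,
  .cj 4 [35,28,13,8,7],
  .o9 4,
  .o9 4,
  .cj 6 [35,14,6],
  .cj 6 [27,32,6,5,1],
  .cj 6 [31,32,1,23],
  .cj 4 [1,17,28,7],
  .cj 6 [24,9,32,5],
  .cj 6 [32,13,23,6],
  .cj 6 [32,5,20,6,5],
  .cj 6 [32,6,5,1],
  .cj 6 [32,20,1,23,1],
  .cj 5 [17,32,24,8,1],
  .o9 4,
  .o9 4,
  .cj 6 [14,8,6,1],
  .o9 4,
  .o9 4,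
  .cj 5 [32,24,8,6],
  .o9 4,
  .o9 4,
  .cj 3 [36,28,8,7],
  .o9 4,
  .o9 4,
  .cj 3 [35,10,24,9],
  .o9 4,
  .o9 4,
  .cj 5 [36,17],
  .o9 4,
  .o9 4,
  .cj 6 [17,32,26,6],
  .cj 6 [32,31,1,5],
  .cj 6 [13,32,23],
  .cj 6 [32,6,1],
  .cj 6 [32,2,1,5,1],
  .cj 6 [32,2,23,9],
  .cj 3 [17,10,25,10],
  .cj 6 [13,32,24,5],
  .cj 6 [32,23,17],
  .cj 5 [36,13,8],
  .o9 4,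
  .o9 4,
  .cj 5 [36,35,26,1],
  .o9 4,
  .o9 4,
  .cj 6 [35,32,8,2,6],
  .o9 4,
  .o9 4,
  .cj 4 [13],
  .cj 5 [27,11,26,17,14,6],
  .cj 4 [34,28,25,11],
  .o9 4,
  .o9 4,
  .o9 4,
  .o9 4,
  .o9 4,
  .o9 4,
  .o9 5,
  .o9 0,
  .o9 0,
  .o9 4,
  .o9 0,
  .o9 0,
  .o9 4,
  .o9 0,
  .o9 0,
  .o9 5,
  .o9 0,
  .o9 0,
  .o9 4,
  .o9 0,
  .o9 0,
  .o9 4,
  .o9 0,
  .o9 0,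
  .cj 3 [13,7],
  .cj 3 [36,34,26,12],
  .cj 5 [36,9,29,17,6],
  .o9 4,
  .o9 4,
  .o9 4,
  .o9 4,
  .o9 4,
  .o9 4,
  .o9 4,
  .o9 0,
  .o9 0,
  .o9 4,
  .o9 0,
  .o9 0,
  .o9 4,
  .o9 0,
  .o9 0,
  .o9 4,
  .o9 0,
  .o9 0,
  .o9 4,
  .o9 0,
  .o9 0,
  .o9 4,
  .o9 0,
  .o9 0,
  .cj 2 [25,13],
  .cj 6 [36,9,29,17,8],
  .cj 6 [27,11,35,26,24,1],
  .o9 4,
  .o9 4,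
  .o9 4,
  .o9 4,
  .o9 4,
  .o9 4,
  .o9 4,
  .o9 0,
  .o9 0,
  .o9 4,
  .o9 0,
  .o9 0,
  .o9 4,
  .o9 0,
  .o9 0,
  .o9 4,
  .o9 0,
  .o9 0,
  .o9 4,
  .o9 0,
  .o9 0,
  .o9 4,
  .o9 0,
  .o9 0,
  .cj 4 [13,9],
  .o9 4,
  .o9 4,
  .o9 4,
  .o9 4,
  .cj 4 [36,6,9,34,10],
  .o9 4,
  .cj 5 [11,26,17,14,6],
  .o9 4,
  .o9 5,
  .o9 0,
  .o9 0,
  .o9 4,
  .o9 0,
  .o9 0,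
  .o9 4,
  .o9 0,
  .o9 0,
  .o9 5,
  .o9 0,
  .o9 0,
  .o9 4,
  .o9 0,
  .o9 0,
  .o9 4,
  .o9 0,
  .o9 0,
  .cj 3 [13,8,7],
  .o9 4,
  .o9 4,
  .o9 4,
  .o9 4,
  .cj 5 [31,24,11,17],
  .o9 4,
  .cj 3 [29,27,16,11,10],
  .o9 4,
  .o9 4,
  .o9 0,
  .o9 0,
  .o9 4,
  .o9 0,
  .o9 0,
  .o9 4,
  .o9 0,
  .o9 0,
  .o9 4,
  .o9 0,
  .o9 0,
  .o9 4,
  .o9 0,
  .o9 0,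
  .o9 4,
  .o9 0,
  .o9 0,
  .cj 2 [25,13,9],
  .o9 4,
  .o9 4,
  .o9 4,
  .o9 4,
  .cj 6 [11,35,26,24,1],
  .o9 4,
  .cj 6 [14,25,11,17,8],
  .o9 4,
  .o9 4,
  .o9 0,
  .o9 0,
  .o9 4,
  .o9 0,
  .o9 0,
  .o9 4,
  .o9 0,
  .o9 0,
  .o9 4,
  .o9 0,
  .o9 0,
  .o9 4,
  .o9 0,
  .o9 0,
  .o9 4,
  .o9 0,
  .o9 0,
  .cj 4 [27,13],
  .o9 4,
  .o9 4,
  .o9 4,
  .cj 5 [7,29,26,14,6],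
  .o9 4,
  .o9 4,
  .o9 4,
  .cj 4 [27,34,28,25,11],
  .o9 5,
  .o9 0,
  .o9 0,
  .o9 4,
  .o9 0,
  .o9 0,
  .o9 4,
  .o9 0,
  .o9 0,
  .o9 5,
  .o9 0,
  .o9 0,
  .o9 4,
  .o9 0,
  .o9 0,
  .o9 4,
  .o9 0,
  .o9 0,
  .cj 3 [26,13,7],
  .o9 4,
  .o9 4,
  .o9 4,
  .cj 3 [11,9,16,10],
  .o9 4,
  .o9 4,
  .o9 4,
  .cj 5 [36,29,17,6],
  .o9 4,
  .o9 0,
  .o9 0,
  .o9 4,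
  .o9 0,
  .o9 0,
  .o9 4,
  .o9 0,
  .o9 0,
  .o9 4,
  .o9 0,
  .o9 0,
  .o9 4,
  .o9 0,
  .o9 0,
  .o9 4,
  .o9 0,
  .o9 0,
  .cj 2 [8,25,13],
  .o9 4,
  .o9 4,
  .o9 4,
  .cj 6 [36,29,17,8],
  .o9 4,
  .o9 4,
  .o9 4,
  .cj 6 [31,25,29,35,8],
  .o9 4,
  .o9 0,
  .o9 0,
  .o9 4,
  .o9 0,
  .o9 0,
  .o9 4,
  .o9 0,
  .o9 0,
  .o9 4,
  .o9 0,
  .o9 0,
  .o9 4,
  .o9 0,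
  .o9 0,
  .o9 4,
  .o9 0,
  .o9 0,
  .cj 3 [36,28],
  .cj 5 [13,9,29,17,6],
  .cj 3 [16,13,12,7],
  .o9 4,
  .o9 4,
  .o9 4,
  .o9 4,
  .o9 4,
  .o9 4,
  .o9 5,
  .o9 0,
  .o9 0,
  .o9 4,
  .o9 0,
  .o9 0,
  .o9 4,
  .o9 0,
  .o9 0,
  .o9 5,
  .o9 0,
  .o9 0,
  .o9 4,
  .o9 0,
  .o9 0,
  .o9 4,
  .o9 0,
  .o9 0,
  .cj 2 [31,10,7],
  .cj 6 [36,9,29,35,8],
  .cj 6 [27,11,26,24,17,1],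
  .o9 4,
  .o9 4,
  .o9 4,
  .o9 4,
  .o9 4,
  .o9 4,
  .o9 4,
  .o9 0,
  .o9 0,
  .o9 4,
  .o9 0,
  .o9 0,
  .o9 4,
  .o9 0,
  .o9 0,
  .o9 4,
  .o9 0,
  .o9 0,
  .o9 4,
  .o9 0,
  .o9 0,
  .o9 4,
  .o9 0,
  .o9 0,
  .cj 4 [28,25],
  .cj 4 [12,16,13],
  .cj 5 [31,9,29,8,24],
  .o9 4,
  .o9 4,
  .o9 4,
  .o9 4,
  .o9 4,
  .o9 4,
  .o9 4,
  .o9 0,
  .o9 0,
  .o9 4,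
  .o9 0,
  .o9 0,
  .o9 4,
  .o9 0,
  .o9 0,
  .o9 4,
  .o9 0,
  .o9 0,
  .o9 4,
  .o9 0,
  .o9 0,
  .o9 4,
  .o9 0,
  .o9 0,
  .cj 3 [36,28,27],
  .o9 4,
  .o9 4,
  .o9 4,
  .cj 5 [13,29,17,6],
  .o9 4,
  .o9 4,
  .o9 4,
  .cj 3 [27,16,13,12,7],
  .o9 5,
  .o9 0,
  .o9 0,
  .o9 4,
  .o9 0,
  .o9 0,
  .o9 4,
  .o9 0,
  .o9 0,
  .o9 5,
  .o9 0,
  .o9 0,
  .o9 4,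
  .o9 0,
  .o9 0,
  .o9 4,
  .o9 0,
  .o9 0,
  .cj 2 [31,10,8,7],
  .o9 4,
  .o9 4,
  .o9 4,
  .cj 6 [36,29,35,8],
  .o9 4,
  .o9 4,
  .o9 4,
  .cj 6 [25,13,29,17,8],
  .o9 4,
  .o9 0,
  .o9 0,
  .o9 4,
  .o9 0,
  .o9 0,
  .o9 4,
  .o9 0,
  .o9 0,
  .o9 4,
  .o9 0,
  .o9 0,
  .o9 4,
  .o9 0,
  .o9 0,
  .o9 4,
  .o9 0,
  .o9 0,
  .cj 4 [28,24,9],
  .o9 4,
  .o9 4,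
  .o9 4,
  .cj 4 [27,12,16,13],
  .o9 4,
  .o9 4,
  .o9 4,
  .cj 5 [31,29,8,24],
  .o9 4,
  .o9 0,
  .o9 0,
  .o9 4,
  .o9 0,
  .o9 0,
  .o9 4,
  .o9 0,
  .o9 0,
  .o9 4,
  .o9 0,
  .o9 0,
  .o9 4,
  .o9 0,
  .o9 0,
  .o9 4,
  .o9 0,
  .o9 0,
  .cj 3 [36,14,9],
  .o9 4,
  .o9 4,
  .o9 4,
  .o9 4,
  .cj 3 [6,9,16,10],
  .o9 4,
  .cj 5 [36,24,11,17],
  .o9 4,
  .o9 5,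
  .o9 0,
  .o9 0,
  .o9 4,
  .o9 0,
  .o9 0,
  .o9 4,
  .o9 0,
  .o9 0,
  .o9 5,
  .o9 0,
  .o9 0,
  .o9 4,
  .o9 0,
  .o9 0,
  .o9 4,
  .o9 0,
  .o9 0,
  .cj 2 [31,9,10,7],
  .o9 4,
  .o9 4,
  .o9 4,
  .o9 4,
  .cj 6 [11,26,24,17,1],
  .o9 4,
  .cj 6 [24,13,11,35,8],
  .o9 4,
  .o9 4,
  .o9 0,
  .o9 0,
  .o9 4,
  .o9 0,
  .o9 0,
  .o9 4,
  .o9 0,
  .o9 0,
  .o9 4,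
  .o9 0,
  .o9 0,
  .o9 4,
  .o9 0,
  .o9 0,
  .o9 4,
  .o9 0,
  .o9 0,
  .cj 4 [28,8,25],
  .o9 4,
  .o9 4,
  .o9 4,
  .o9 4,
  .cj 5 [11,26,14,2,6],
  .o9 4,
  .cj 4 [12,9,16,13],
  .o9 4,
  .o9 4,
  .o9 0,
  .o9 0,
  .o9 4,
  .o9 0,
  .o9 0,
  .o9 4,
  .o9 0,
  .o9 0,
  .o9 4,
  .o9 0,
  .o9 0,
  .o9 4,
  .o9 0,
  .o9 0,
  .o9 4,
  .o9 0,
  .o9 0]

theorem h28_len_20 : h28_certs_20.length = 729 := by decide +kernel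

theorem h28_chk_20 : chkAll 14580 h28_certs_20 = true := by decide +kernel

end Cfsg.Agent.Lib.Helper28.O73C
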