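import Cfsg.Agent.Lib.Helper28.O73C.Comp

/-! Project O73C (S5514): certificates for the parameters 15309 to 16037 (generated, helper28). -/

set_option autoImplicit false
set_option maxRecDepth 100000

namespace Cfsg.Agent.Lib.Helper28.O73C

/-- certificates, chunk 21 -/
def h28_certs_21 : List Cert :=
  [.cj 0 [8,6],
  .cj 6 [17,14,2,5],
  .cj 6 [27,7,11,26,6],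
  .cj 6 [26,6],
  .cj 6 [29,26,6],
  .cj 6 [11,26,6],
  .cj 6 [24,14,17,14,1],
  .cj 6 [14,17,14,1,5],
  .cj 6 [25,9,11,26,6],
  .cj 6 [26],
  .o9 4,
  .o9 4,
  .cj 6 [6,8,5,20,5],
  .o9 4,
  .o9 4,
  .cj 1 [24],
  .o9 4,
  .o9 4,
  .cj 6 [36,26,5,20,5,1],
  .o9 4,
  .o9 4,
  .cj 2 [35,11,26,14,7],
  .o9 4,
  .o9 4,
  .cj 6 [26,24],
  .o9 4,
  .o9 4,
  .cj 4 [28,14,13,7],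
  .cj 6 [27,17,14,6,5],
  .cj 6 [31,27,11,26,6],
  .cj 6 [24,26,14,6],
  .cj 6 [17,6,9,14,5],
  .cj 6 [24,11,26,14,6],
  .cj 6 [17,14,1],
  .cj 6 [17,14,5,1],
  .cj 6 [29,17,14,1],
  .cj 5 [26,14,1],
  .o9 4,
  .o9 4,
  .cj 5 [32,2,6,8],
  .o9 4,
  .o9 4,
  .cj 6 [35,24,14,8,2,6],
  .o9 4,
  .o9 4,
  .cj 4 [35,11,8,25,13],
  .o9 4,
  .o9 4,
  .cj 5 [35,26,14,6],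
  .o9 4,
  .o9 4,
  .cj 4 [17,29,13,9],
  .o9 4,
  .o9 4,
  .cj 3 [10,25,11,10],
  .cj 6 [17,13,14,6,5],
  .cj 6 [27,13,11,26,6],
  .cj 6 [32,24,26,6],
  .cj 6 [17,20,24,14,5],
  .cj 6 [25,13,11,26,6],
  .cj 6 [35,32,1],
  .cj 6 [35,32,5,1],
  .cj 6 [35,32,23,1],
  .cj 5 [24,14,17,8,1],
  .o9 4,
  .o9 4,
  .cj 5 [17,8,2,6],
  .o9 4,
  .o9 4,
  .cj 6 [17,32,24,8,2,6],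
  .o9 4,
  .o9 4,
  .cj 3 [17,11,10,8,7],
  .o9 4,
  .o9 4,
  .cj 5 [36,24],
  .o9 4,
  .o9 4,
  .cj 3 [36,35,29,14,9],
  .o9 4,
  .o9 4,
  .cj 4 [7,29,13,9],
  .o9 4,
  .o9 4,
  .cj 4 [24,17,28,26,7],
  .o9 4,
  .o9 4,
  .cj 5 [36,32,26,6,1],
  .o9 4,
  .o9 4,
  .cj 6 [14],
  .cj 6 [14,2,5],
  .cj 6 [14,2,23],
  .cj 4 [35,25,28,14,7],
  .cj 6 [31,14,6,5],
  .cj 6 [14,13,23,6],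
  .cj 6 [17,32,5,20,1,5],
  .cj 6 [14,17,1,5],
  .cj 6 [31,24,14,23],
  .cj 6 [36,6,26,17,14],
  .o9 4,
  .o9 4,
  .cj 5 [35,26,14],
  .o9 4,
  .o9 4,
  .cj 5 [26,24,14,1],
  .o9 4,
  .o9 4,
  .cj 3 [12,11,10,8,7],
  .o9 4,
  .o9 4,
  .cj 5 [24,14,17,1],
  .o9 4,
  .o9 4,
  .cj 3 [11,27,16,10],
  .o9 4,
  .o9 4,
  .cj 3 [36,35,28,12,7],
  .cj 6 [9,14,5,1],
  .cj 6 [14,31,19,23],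
  .cj 6 [14,6,5,20,5],
  .cj 6 [14,6,5],
  .cj 6 [20,14,23,9],
  .cj 6 [17,32,9],
  .cj 6 [27,14,1,5,1],
  .cj 6 [35,11,26,6],
  .cj 5 [36,24,17,8,1],
  .o9 4,
  .o9 4,
  .cj 5 [8,6],
  .o9 4,
  .o9 4,
  .cj 6 [32,24,8,6],
  .o9 4,
  .o9 4,
  .cj 2 [10,24,13,9],
  .o9 4,
  .o9 4,
  .cj 6 [35,26,24],
  .o9 4,
  .o9 4,
  .cj 6 [24,14,17,8,1],
  .o9 4,
  .o9 4,
  .cj 6 [35,26,6],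
  .cj 6 [14,31,1,5],
  .cj 6 [9,14,23,1],
  .cj 6 [24,14,17,1],
  .cj 6 [13,14,5,1],
  .cj 6 [24,27,14,23],
  .cj 0 [35,8,6],
  .cj 6 [24,20,14,5],
  .cj 6 [24,14,23],
  .cj 6 [24,26,14,17,1],
  .o9 4,
  .o9 4,
  .cj 1 [35,24],
  .o9 4,
  .o9 4,
  .cj 6 [35,26],
  .o9 4,
  .o9 4,
  .cj 3 [11,27,11,10],
  .o9 4,
  .o9 4,
  .cj 3 [35,29,13,8,7],
  .o9 4,
  .o9 4,
  .cj 5 [36,24,17,1],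
  .o9 4,
  .o9 4,
  .cj 6 [32],
  .cj 6 [32,2,5],
  .cj 6 [32,2,23],
  .cj 3 [17,10,25,11],
  .cj 6 [13,32,6,5],
  .cj 6 [32,31,23,6],
  .cj 6 [35,14,5,20,1,5],
  .cj 6 [32,35,1,5],
  .cj 6 [13,32,24,23],
  .cj 6 [36,35,32,6,26],
  .o9 4,
  .o9 4,
  .cj 5 [36,24,8],
  .o9 4,
  .o9 4,
  .cj 5 [35,8,6,1],
  .o9 4,
  .o9 4,
  .cj 2 [11,26,14,7],
  .o9 4,
  .o9 4,
  .cj 6 [26,24,17],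
  .o9 4,
  .o9 4,
  .cj 6 [32,35,24,8,1],
  .o9 4,
  .o9 4,
  .cj 6 [26,17,6],
  .cj 6 [32,13,1,5],
  .cj 6 [9,32,23,1],
  .cj 6 [32,35,24,1],
  .cj 6 [31,32,5,1],
  .cj 6 [24,27,32,23],
  .cj 0 [17,8,6],
  .cj 6 [32,24,20,5],
  .cj 6 [32,24,23],
  .cj 6 [32,35,24,26,1],
  .o9 4,
  .o9 4,
  .cj 1 [24,17],
  .o9 4,
  .o9 4,
  .cj 6 [26,17],
  .o9 4,
  .o9 4,
  .cj 4 [24,11,26,13,7],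
  .o9 4,
  .o9 4,
  .cj 5 [26,14,6,1],
  .o9 4,
  .o9 4,
  .cj 4 [35,29,8,12,9],
  .o9 4,
  .o9 4,
  .cj 4 [17,28,14,7],
  .cj 6 [9,32,5,1],
  .cj 6 [32,19,13,23],
  .cj 6 [32,6,5,20,5],
  .cj 6 [32,6,5],
  .cj 6 [32,20,23,9],
  .cj 6 [35,14,9],
  .cj 6 [27,32,1,5,1],
  .cj 6 [17,11,26,6],
  .cj 5 [36,32,26,1],
  .o9 4,
  .o9 4,
  .cj 5 [17,32,6,8],
  .o9 4,
  .o9 4,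
  .cj 6 [24,14,8,6],
  .o9 4,
  .o9 4,
  .cj 2 [24,13],
  .cj 6 [27,14,11,17,8],
  .cj 6 [31,9,29,35,8,1],
  .o9 4,
  .o9 4,
  .o9 4,
  .o9 4,
  .o9 4,
  .o9 4,
  .o9 5,
  .o9 0,
  .o9 0,
  .o9 4,
  .o9 0,
  .o9 0,
  .o9 4,
  .o9 0,
  .o9 0,
  .o9 5,
  .o9 0,
  .o9 0,
  .o9 4,
  .o9 0,
  .o9 0,
  .o9 4,
  .o9 0,
  .o9 0,
  .cj 4 [14,13,7],
  .cj 5 [27,13,11,8,24,8],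
  .cj 4 [34,13,10,7],
  .o9 4,
  .o9 4,
  .o9 4,
  .o9 4,
  .o9 4,
  .o9 4,
  .o9 4,
  .o9 0,
  .o9 0,
  .o9 4,
  .o9 0,
  .o9 0,
  .o9 4,
  .o9 0,
  .o9 0,
  .o9 4,
  .o9 0,
  .o9 0,
  .o9 4,
  .o9 0,
  .o9 0,
  .o9 4,
  .o9 0,
  .o9 0,
  .cj 3 [25,11,10],
  .cj 3 [34,25,6,10,7],
  .cj 5 [27,14,11,17],
  .o9 4,
  .o9 4,
  .o9 4,
  .o9 4,
  .o9 4,
  .o9 4,
  .o9 4,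
  .o9 0,
  .o9 0,
  .o9 4,
  .o9 0,
  .o9 0,
  .o9 4,
  .o9 0,
  .o9 0,
  .o9 4,
  .o9 0,
  .o9 0,
  .o9 4,
  .o9 0,
  .o9 0,
  .o9 4,
  .o9 0,
  .o9 0,
  .cj 4 [30,13,9],
  .o9 4,
  .o9 4,
  .o9 4,
  .o9 4,
  .cj 4 [9,34,28,25],
  .o9 4,
  .cj 5 [36,13,11,26,6],
  .o9 4,
  .o9 5,
  .o9 0,
  .o9 0,
  .o9 4,
  .o9 0,
  .o9 0,
  .o9 4,
  .o9 0,
  .o9 0,
  .o9 5,
  .o9 0,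
  .o9 0,
  .o9 4,
  .o9 0,
  .o9 0,
  .o9 4,
  .o9 0,
  .o9 0,
  .cj 3 [32,12,8,7],
  .o9 4,
  .o9 4,
  .o9 4,
  .o9 4,
  .cj 5 [25,14,11,17],
  .o9 4,
  .cj 3 [29,27,16,10],
  .o9 4,
  .o9 4,
  .o9 0,
  .o9 0,
  .o9 4,
  .o9 0,
  .o9 0,
  .o9 4,
  .o9 0,
  .o9 0,
  .o9 4,
  .o9 0,
  .o9 0,
  .o9 4,
  .o9 0,
  .o9 0,
  .o9 4,
  .o9 0,
  .o9 0,
  .cj 2 [24,13,9],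
  .o9 4,
  .o9 4,
  .o9 4,
  .o9 4,
  .cj 6 [11,35,26,24],
  .o9 4,
  .cj 6 [25,14,11,17,8],
  .o9 4,
  .o9 4,
  .o9 0,
  .o9 0,
  .o9 4,
  .o9 0,
  .o9 0,
  .o9 4,
  .o9 0,
  .o9 0,
  .o9 4,
  .o9 0,
  .o9 0,
  .o9 4,
  .o9 0,
  .o9 0,
  .o9 4,
  .o9 0,
  .o9 0,
  .cj 3 [27,11,10],
  .o9 4,
  .o9 4,
  .o9 4,
  .cj 3 [27,34,6,10,7],
  .o9 4,
  .o9 4,
  .o9 4,
  .cj 5 [36,7,29,17],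
  .o9 5,
  .o9 0,
  .o9 0,
  .o9 4,
  .o9 0,
  .o9 0,
  .o9 4,
  .o9 0,
  .o9 0,
  .o9 5,
  .o9 0,
  .o9 0,
  .o9 4,
  .o9 0,
  .o9 0,
  .o9 4,
  .o9 0,
  .o9 0,
  .cj 2 [26,14,7],
  .o9 4,
  .o9 4,
  .o9 4,
  .cj 6 [29,26,24,17],
  .o9 4,
  .o9 4,
  .o9 4,
  .cj 6 [36,9,11,35,8],
  .o9 4,
  .o9 0,
  .o9 0,
  .o9 4,
  .o9 0,
  .o9 0,
  .o9 4,
  .o9 0,
  .o9 0,
  .o9 4,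
  .o9 0,
  .o9 0,
  .o9 4,
  .o9 0,
  .o9 0,
  .o9 4,
  .o9 0,
  .o9 0,
  .cj 4 [24,26,13,7],
  .o9 4,
  .o9 4,
  .o9 4,
  .cj 5 [29,26,14,6,1],
  .o9 4,
  .o9 4,
  .o9 4,
  .cj 4 [36,27,34,10],
  .o9 4,
  .o9 0,
  .o9 0,
  .o9 4,
  .o9 0,
  .o9 0,
  .o9 4,
  .o9 0,
  .o9 0,
  .o9 4,
  .o9 0,
  .o9 0,
  .o9 4,
  .o9 0,
  .o9 0,
  .o9 4,
  .o9 0,
  .o9 0,
  .cj 2 [36,26,12],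
  .cj 6 [27,32,11,35,8],
  .cj 6 [13,9,29,17,8,1],
  .o9 4,
  .o9 4,
  .o9 4,
  .o9 4,
  .o9 4,
  .o9 4,
  .o9 5,
  .o9 0,
  .o9 0,
  .o9 4,
  .o9 0,
  .o9 0,
  .o9 4,
  .o9 0,
  .o9 0,
  .o9 5,
  .o9 0,
  .o9 0,
  .o9 4,
  .o9 0,
  .o9 0,
  .o9 4,
  .o9 0,
  .o9 0,
  .cj 4 [13,6,10,7],
  .cj 4 [16,13,11,7],
  .cj 5 [27,11,6,26,14,6],
  .o9 4,
  .o9 4,
  .o9 4,
  .o9 4,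
  .o9 4,
  .o9 4,
  .o9 4,
  .o9 0,
  .o9 0,
  .o9 4,
  .o9 0,
  .o9 0,
  .o9 4,
  .o9 0,
  .o9 0,
  .o9 4,
  .o9 0,
  .o9 0,
  .o9 4,
  .o9 0,
  .o9 0,
  .o9 4,
  .o9 0,
  .o9 0,
  .cj 3 [25,11,10,7],
  .cj 5 [27,13,11,35,1],
  .cj 3 [25,16,10],
  .o9 4,
  .o9 4,
  .o9 4,
  .o9 4,
  .o9 4,
  .o9 4,
  .o9 4,
  .o9 0,
  .o9 0,
  .o9 4,
  .o9 0,
  .o9 0,
  .o9 4,
  .o9 0,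
  .o9 0,
  .o9 4,
  .o9 0,
  .o9 0,
  .o9 4,
  .o9 0,
  .o9 0,
  .o9 4,
  .o9 0,
  .o9 0,
  .cj 4 [30,8,11,9],
  .o9 4,
  .o9 4,
  .o9 4,
  .cj 4 [6,27,16,13],
  .o9 4,
  .o9 4,
  .o9 4,
  .cj 5 [36,32,29,26,6,1],
  .o9 5,
  .o9 0,
  .o9 0,
  .o9 4,
  .o9 0,
  .o9 0,
  .o9 4,
  .o9 0,
  .o9 0,
  .o9 5,
  .o9 0,
  .o9 0,
  .o9 4,
  .o9 0,
  .o9 0,
  .o9 4,
  .o9 0,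
  .o9 0,
  .cj 3 [12,10,8,7],
  .o9 4,
  .o9 4,
  .o9 4,
  .cj 5 [13,29,24,17],
  .o9 4,
  .o9 4,
  .o9 4,
  .cj 3 [27,16,10],
  .o9 4,
  .o9 0,
  .o9 0,
  .o9 4,
  .o9 0,
  .o9 0,
  .o9 4,
  .o9 0,
  .o9 0,
  .o9 4,
  .o9 0,
  .o9 0,
  .o9 4,
  .o9 0,
  .o9 0,
  .o9 4,
  .o9 0,
  .o9 0,
  .cj 2 [36,26,12,7],
  .o9 4,
  .o9 4,
  .o9 4,
  .cj 6 [29,35,26,24],
  .o9 4,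
  .o9 4,
  .o9 4,
  .cj 6 [36,9,11,17,8],
  .o9 4,
  .o9 0,
  .o9 0,
  .o9 4,
  .o9 0,
  .o9 0,
  .o9 4,
  .o9 0,
  .o9 0,
  .o9 4,
  .o9 0,
  .o9 0,
  .o9 4,
  .o9 0,
  .o9 0,
  .o9 4,
  .o9 0,
  .o9 0,
  .cj 3 [27,11,10,9],
  .o9 4,
  .o9 4,
  .o9 4,
  .o9 4,
  .cj 3 [9,16,13,7],
  .o9 4,
  .cj 5 [13,11,35,24],
  .o9 4,
  .o9 5,
  .o9 0,
  .o9 0,
  .o9 4,
  .o9 0,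
  .o9 0,
  .o9 4,
  .o9 0,
  .o9 0,
  .o9 5,
  .o9 0,
  .o9 0,
  .o9 4,
  .o9 0,
  .o9 0,
  .o9 4,
  .o9 0,
  .o9 0,
  .cj 2 [14,9,10,7],
  .o9 4,
  .o9 4,
  .o9 4,
  .o9 4,
  .cj 6 [11,26,24,17],
  .o9 4,
  .cj 6 [13,11,35,24,8],
  .o9 4,
  .o9 4,
  .o9 0,
  .o9 0,
  .o9 4,
  .o9 0,
  .o9 0,
  .o9 4,
  .o9 0,
  .o9 0,
  .o9 4,
  .o9 0,
  .o9 0,
  .o9 4,
  .o9 0,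
  .o9 0,
  .o9 4,
  .o9 0,
  .o9 0,
  .cj 4 [7,29,27,13],
  .o9 4,
  .o9 4,
  .o9 4,
  .o9 4,
  .cj 5 [11,26,14,6,1],
  .o9 4,
  .cj 4 [9,16,8,11],
  .o9 4,
  .o9 4,
  .o9 0,
  .o9 0,
  .o9 4,
  .o9 0,
  .o9 0,
  .o9 4,
  .o9 0,
  .o9 0,
  .o9 4,
  .o9 0,
  .o9 0,
  .o9 4,
  .o9 0,
  .o9 0,
  .o9 4,
  .o9 0,
  .o9 0]

theorem h28_len_21 : h28_certs_21.length = 729 := by decide +kernel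

theorem h28_chk_21 : chkAll 15309 h28_certs_21 = true := by decide +kernel

end Cfsg.Agent.Lib.Helper28.O73C
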