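import Cfsg.Agent.Lib.Helper28.O73C.Comp

/-! Project O73C (S5514): certificates for the parameters 16038 to 16766 (generated, helper28). -/

set_option autoImplicit false
set_option maxRecDepth 100000

namespace Cfsg.Agent.Lib.Helper28.O73C

/-- certificates, chunk 22 -/
def h28_certs_22 : List Cert :=
  [.cj 0 [7,8,6],
  .cj 6 [9,29,26,6],
  .cj 6 [27,25,11,26,6],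
  .cj 6 [26,2,6],
  .cj 6 [7,29,26,6],
  .cj 6 [7,11,26,6],
  .cj 6 [24,14,17,14],
  .cj 6 [14,17,14,5],
  .cj 6 [9,11,26,6],
  .cj 6 [26,9],
  .o9 4,
  .o9 4,
  .cj 6 [24,26,14,17,14],
  .o9 4,
  .o9 4,
  .cj 1 [24,7],
  .o9 4,
  .o9 4,
  .cj 6 [36,26,5,20,5],
  .o9 4,
  .o9 4,
  .cj 2 [35,11,26,13,7],
  .o9 4,
  .o9 4,
  .cj 6 [26,24,9],
  .o9 4,
  .o9 4,
  .cj 4 [25,28,14,7],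
  .cj 6 [27,17,14,1,5,1],
  .cj 6 [9,29,17,14,1],
  .cj 6 [24,26,14,2,6],
  .cj 6 [17,9,14,5,1],
  .cj 6 [31,11,26,6],
  .cj 6 [17,14],
  .cj 6 [17,14,6,5],
  .cj 6 [29,24,17,14],
  .cj 5 [26,14],
  .o9 4,
  .o9 4,
  .cj 5 [32,6,8,1],
  .o9 4,
  .o9 4,
  .cj 6 [36,35,6,26,14],
  .o9 4,
  .o9 4,
  .cj 4 [35,24,28,26,7],
  .o9 4,
  .o9 4,
  .cj 5 [35,26,14,2,6],
  .o9 4,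
  .o9 4,
  .cj 4 [17,7,29,13,9],
  .o9 4,
  .o9 4,
  .cj 3 [10,25,11],
  .cj 6 [17,13,14,1,5,1],
  .cj 6 [17,31,14,23,1],
  .cj 6 [32,24,26,2,6],
  .cj 6 [35,9,32,5,1],
  .cj 6 [13,11,26,6],
  .cj 6 [35,32],
  .cj 6 [35,32,6,5],
  .cj 6 [35,32,24,23],
  .cj 5 [24,14,17,8],
  .o9 4,
  .o9 4,
  .cj 5 [17,8,6,1],
  .o9 4,
  .o9 4,
  .cj 6 [36,17,32,6,26],
  .o9 4,
  .o9 4,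
  .cj 3 [17,29,13,8,7],
  .o9 4,
  .o9 4,
  .cj 5 [36,24,1],
  .o9 4,
  .o9 4,
  .cj 3 [35,11,27,11,10],
  .o9 4,
  .o9 4,
  .cj 4 [29,8,12,9],
  .o9 4,
  .o9 4,
  .cj 4 [24,11,27,16,13,7],
  .o9 4,
  .o9 4,
  .cj 5 [26,17,14,6,1],
  .o9 4,
  .o9 4,
  .cj 6 [14,9],
  .cj 6 [7,14,2,5],
  .cj 6 [7,14,2,23],
  .cj 4 [35,28,14,7],
  .cj 6 [6,31,14,5],
  .cj 6 [17,32,23,1],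
  .cj 6 [36,35,8,24,14],
  .cj 6 [14,17,5],
  .cj 6 [31,14,1,23,1],
  .cj 6 [24,17,14,8,6],
  .o9 4,
  .o9 4,
  .cj 5 [35,26,14,13],
  .o9 4,
  .o9 4,
  .cj 5 [26,24,14],
  .o9 4,
  .o9 4,
  .cj 3 [11,10,8,7],
  .o9 4,
  .o9 4,
  .cj 5 [24,14,17],
  .o9 4,
  .o9 4,
  .cj 3 [36,17,29,14,9],
  .o9 4,
  .o9 4,
  .cj 3 [35,10,25,11,10],
  .cj 6 [9,14,6,5],
  .cj 6 [14,23,17,6],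
  .cj 6 [14,5,20,24,5],
  .cj 6 [14,1,5,1],
  .cj 6 [20,24,14,23,1],
  .cj 6 [17,32,1],
  .cj 6 [27,14,5,1],
  .cj 6 [13,14,23,1],
  .cj 5 [32,35,24,8,1],
  .o9 4,
  .o9 4,
  .cj 5 [8,2,6],
  .o9 4,
  .o9 4,
  .cj 6 [32,24,8,2,6],
  .o9 4,
  .o9 4,
  .cj 2 [10,30,24,9],
  .o9 4,
  .o9 4,
  .cj 6 [35,26,24,9],
  .o9 4,
  .o9 4,
  .cj 6 [24,14,17,8],
  .o9 4,
  .o9 4,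
  .cj 6 [35,26,2,6],
  .cj 6 [14,31,5],
  .cj 6 [9,24,14,23],
  .cj 6 [24,14,17],
  .cj 6 [13,14,6,5],
  .cj 6 [27,14,23,1],
  .cj 0 [35,7,8,6],
  .cj 6 [20,24,14,5],
  .cj 6 [14,1,23,1],
  .cj 6 [24,26,14,17],
  .o9 4,
  .o9 4,
  .cj 1 [35,24,7],
  .o9 4,
  .o9 4,
  .cj 6 [35,26,9],
  .o9 4,
  .o9 4,
  .cj 3 [11,27,10],
  .o9 4,
  .o9 4,
  .cj 3 [35,12,11,10,8,7],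
  .o9 4,
  .o9 4,
  .cj 5 [32,35,24,1],
  .o9 4,
  .o9 4,
  .cj 6 [32,9],
  .cj 6 [32,19,2,5],
  .cj 6 [32,19,2,23],
  .cj 3 [36,17,28,12,7],
  .cj 6 [6,13,32,5],
  .cj 6 [32,23,17,1],
  .cj 6 [36,17,32,8,24],
  .cj 6 [32,35,5],
  .cj 6 [13,32,1,23,1],
  .cj 6 [35,32,24,8,6],
  .o9 4,
  .o9 4,
  .cj 5 [36,24,8,1],
  .o9 4,
  .o9 4,
  .cj 5 [35,8,6],
  .o9 4,
  .o9 4,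
  .cj 2 [11,26,13,7],
  .o9 4,
  .o9 4,
  .cj 6 [26,24,17,9],
  .o9 4,
  .o9 4,
  .cj 6 [32,35,24,8],
  .o9 4,
  .o9 4,
  .cj 6 [26,17,2,6],
  .cj 6 [32,13,5],
  .cj 6 [9,32,24,23],
  .cj 6 [32,35,24],
  .cj 6 [31,32,6,5],
  .cj 6 [27,32,23,1],
  .cj 0 [17,7,8,6],
  .cj 6 [32,20,24,5],
  .cj 6 [32,1,23,1],
  .cj 6 [32,35,24,26],
  .o9 4,
  .o9 4,
  .cj 1 [24,17,7],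
  .o9 4,
  .o9 4,
  .cj 6 [26,17,9],
  .o9 4,
  .o9 4,
  .cj 4 [11,8,25,13],
  .o9 4,
  .o9 4,
  .cj 5 [26,14,6],
  .o9 4,
  .o9 4,
  .cj 4 [35,29,13,9],
  .o9 4,
  .o9 4,
  .cj 4 [17,28,14,13,7],
  .cj 6 [9,32,6,5],
  .cj 6 [32,35,23,6],
  .cj 6 [32,5,20,24,5],
  .cj 6 [32,1,5,1],
  .cj 6 [32,20,24,23,1],
  .cj 6 [35,14,1],
  .cj 6 [27,32,5,1],
  .cj 6 [31,32,23,1],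
  .cj 5 [26,17,14,1],
  .o9 4,
  .o9 4,
  .cj 5 [17,32,2,6,8],
  .o9 4,
  .o9 4,
  .cj 6 [24,14,8,2,6],
  .o9 4,
  .o9 4,
  .cj 3 [11,10],
  .cj 3 [34,6,10,7],
  .cj 5 [31,27,7,11,17],
  .o9 4,
  .o9 4,
  .o9 4,
  .o9 4,
  .o9 4,
  .o9 4,
  .o9 5,
  .o9 0,
  .o9 0,
  .o9 4,
  .o9 0,
  .o9 0,
  .o9 4,
  .o9 0,
  .o9 0,
  .o9 5,
  .o9 0,
  .o9 0,
  .o9 4,
  .o9 0,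
  .o9 0,
  .o9 4,
  .o9 0,
  .o9 0,
  .cj 2 [11,13,7],
  .cj 6 [9,29,26,24,17],
  .cj 6 [36,27,11,35,8],
  .o9 4,
  .o9 4,
  .o9 4,
  .o9 4,
  .o9 4,
  .o9 4,
  .o9 4,
  .o9 0,
  .o9 0,
  .o9 4,
  .o9 0,
  .o9 0,
  .o9 4,
  .o9 0,
  .o9 0,
  .o9 4,
  .o9 0,
  .o9 0,
  .o9 4,
  .o9 0,
  .o9 0,
  .o9 4,
  .o9 0,
  .o9 0,
  .cj 4 [25,24,13],
  .cj 5 [27,13,11,8,24],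
  .cj 4 [36,34,10],
  .o9 4,
  .o9 4,
  .o9 4,
  .o9 4,
  .o9 4,
  .o9 4,
  .o9 4,
  .o9 0,
  .o9 0,
  .o9 4,
  .o9 0,
  .o9 0,
  .o9 4,
  .o9 0,
  .o9 0,
  .o9 4,
  .o9 0,
  .o9 0,
  .o9 4,
  .o9 0,
  .o9 0,
  .o9 4,
  .o9 0,
  .o9 0,
  .cj 2 [30,13,9],
  .o9 4,
  .o9 4,
  .o9 4,
  .o9 4,
  .cj 6 [36,25,11,35,8],
  .o9 4,
  .cj 6 [14,11,17,8],
  .o9 4,
  .o9 5,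
  .o9 0,
  .o9 0,
  .o9 4,
  .o9 0,
  .o9 0,
  .o9 4,
  .o9 0,
  .o9 0,
  .o9 5,
  .o9 0,
  .o9 0,
  .o9 4,
  .o9 0,
  .o9 0,
  .o9 4,
  .o9 0,
  .o9 0,
  .cj 4 [32,12,8,7],
  .o9 4,
  .o9 4,
  .o9 4,
  .o9 4,
  .cj 4 [9,34,13,10,7],
  .o9 4,
  .cj 5 [13,11,8,24,8],
  .o9 4,
  .o9 4,
  .o9 0,
  .o9 0,
  .o9 4,
  .o9 0,
  .o9 0,
  .o9 4,
  .o9 0,
  .o9 0,
  .o9 4,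
  .o9 0,
  .o9 0,
  .o9 4,
  .o9 0,
  .o9 0,
  .o9 4,
  .o9 0,
  .o9 0,
  .cj 3 [24,10,9],
  .o9 4,
  .o9 4,
  .o9 4,
  .o9 4,
  .cj 5 [14,11,17],
  .o9 4,
  .cj 3 [7,29,27,16,10],
  .o9 4,
  .o9 4,
  .o9 0,
  .o9 0,
  .o9 4,
  .o9 0,
  .o9 0,
  .o9 4,
  .o9 0,
  .o9 0,
  .o9 4,
  .o9 0,
  .o9 0,
  .o9 4,
  .o9 0,
  .o9 0,
  .o9 4,
  .o9 0,
  .o9 0,
  .cj 4 [27,24,13],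
  .o9 4,
  .o9 4,
  .o9 4,
  .cj 5 [29,24,26,14,6],
  .o9 4,
  .o9 4,
  .o9 4,
  .cj 4 [27,34,28,25],
  .o9 5,
  .o9 0,
  .o9 0,
  .o9 4,
  .o9 0,
  .o9 0,
  .o9 4,
  .o9 0,
  .o9 0,
  .o9 5,
  .o9 0,
  .o9 0,
  .o9 4,
  .o9 0,
  .o9 0,
  .o9 4,
  .o9 0,
  .o9 0,
  .cj 3 [26,11,7],
  .o9 4,
  .o9 4,
  .o9 4,
  .cj 3 [11,9,16,6,10],
  .o9 4,
  .o9 4,
  .o9 4,
  .cj 5 [36,25,29,17],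
  .o9 4,
  .o9 0,
  .o9 0,
  .o9 4,
  .o9 0,
  .o9 0,
  .o9 4,
  .o9 0,
  .o9 0,
  .o9 4,
  .o9 0,
  .o9 0,
  .o9 4,
  .o9 0,
  .o9 0,
  .o9 4,
  .o9 0,
  .o9 0,
  .cj 2 [24,26,13,7],
  .o9 4,
  .o9 4,
  .o9 4,
  .cj 6 [36,29,17,9,8],
  .o9 4,
  .o9 4,
  .o9 4,
  .cj 6 [31,29,35,6,8],
  .o9 4,
  .o9 0,
  .o9 0,
  .o9 4,
  .o9 0,
  .o9 0,
  .o9 4,
  .o9 0,
  .o9 0,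
  .o9 4,
  .o9 0,
  .o9 0,
  .o9 4,
  .o9 0,
  .o9 0,
  .o9 4,
  .o9 0,
  .o9 0,
  .cj 4 [36,11,10],
  .cj 4 [25,16,8,11],
  .cj 5 [27,25,11,26,14,6,1],
  .o9 4,
  .o9 4,
  .o9 4,
  .o9 4,
  .o9 4,
  .o9 4,
  .o9 5,
  .o9 0,
  .o9 0,
  .o9 4,
  .o9 0,
  .o9 0,
  .o9 4,
  .o9 0,
  .o9 0,
  .o9 5,
  .o9 0,
  .o9 0,
  .o9 4,
  .o9 0,
  .o9 0,
  .o9 4,
  .o9 0,
  .o9 0,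
  .cj 3 [11,10,7],
  .cj 5 [36,27,11,17,6],
  .cj 3 [16,10],
  .o9 4,
  .o9 4,
  .o9 4,
  .o9 4,
  .o9 4,
  .o9 4,
  .o9 4,
  .o9 0,
  .o9 0,
  .o9 4,
  .o9 0,
  .o9 0,
  .o9 4,
  .o9 0,
  .o9 0,
  .o9 4,
  .o9 0,
  .o9 0,
  .o9 4,
  .o9 0,
  .o9 0,
  .o9 4,
  .o9 0,
  .o9 0,
  .cj 2 [36,31,12,7],
  .cj 6 [9,29,35,26,24],
  .cj 6 [36,27,11,17,8],
  .o9 4,
  .o9 4,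
  .o9 4,
  .o9 4,
  .o9 4,
  .o9 4,
  .o9 4,
  .o9 0,
  .o9 0,
  .o9 4,
  .o9 0,
  .o9 0,
  .o9 4,
  .o9 0,
  .o9 0,
  .o9 4,
  .o9 0,
  .o9 0,
  .o9 4,
  .o9 0,
  .o9 0,
  .o9 4,
  .o9 0,
  .o9 0,
  .cj 3 [11,10,9],
  .o9 4,
  .o9 4,
  .o9 4,
  .cj 5 [29,14,17,6],
  .o9 4,
  .o9 4,
  .o9 4,
  .cj 3 [27,16,13,7],
  .o9 5,
  .o9 0,
  .o9 0,
  .o9 4,
  .o9 0,
  .o9 0,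
  .o9 4,
  .o9 0,
  .o9 0,
  .o9 5,
  .o9 0,
  .o9 0,
  .o9 4,
  .o9 0,
  .o9 0,
  .o9 4,
  .o9 0,
  .o9 0,
  .cj 2 [11,13,8,7],
  .o9 4,
  .o9 4,
  .o9 4,
  .cj 6 [36,29,35,9,8],
  .o9 4,
  .o9 4,
  .o9 4,
  .cj 6 [29,14,17,6,8],
  .o9 4,
  .o9 0,
  .o9 0,
  .o9 4,
  .o9 0,
  .o9 0,
  .o9 4,
  .o9 0,
  .o9 0,
  .o9 4,
  .o9 0,
  .o9 0,
  .o9 4,
  .o9 0,
  .o9 0,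
  .o9 4,
  .o9 0,
  .o9 0,
  .cj 4 [36,26,11,7],
  .o9 4,
  .o9 4,
  .o9 4,
  .cj 4 [27,16,8,11],
  .o9 4,
  .o9 4,
  .o9 4,
  .cj 5 [31,29,8,24,1],
  .o9 4,
  .o9 0,
  .o9 0,
  .o9 4,
  .o9 0,
  .o9 0,
  .o9 4,
  .o9 0,
  .o9 0,
  .o9 4,
  .o9 0,
  .o9 0,
  .o9 4,
  .o9 0,
  .o9 0,
  .o9 4,
  .o9 0,
  .o9 0,
  .cj 2 [36,10,12,9],
  .o9 4,
  .o9 4,
  .o9 4,
  .o9 4,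
  .cj 6 [36,25,11,17,8],
  .o9 4,
  .cj 6 [32,11,35,8],
  .o9 4,
  .o9 5,
  .o9 0,
  .o9 0,
  .o9 4,
  .o9 0,
  .o9 0,
  .o9 4,
  .o9 0,
  .o9 0,
  .o9 5,
  .o9 0,
  .o9 0,
  .o9 4,
  .o9 0,
  .o9 0,
  .o9 4,
  .o9 0,
  .o9 0,
  .cj 4 [10,27,14,7],
  .o9 4,
  .o9 4,
  .o9 4,
  .o9 4,
  .cj 5 [11,6,26,14,6],
  .o9 4,
  .cj 4 [6,9,16,13],
  .o9 4,
  .o9 4,
  .o9 0,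
  .o9 0,
  .o9 4,
  .o9 0,
  .o9 0,
  .o9 4,
  .o9 0,
  .o9 0,
  .o9 4,
  .o9 0,
  .o9 0,
  .o9 4,
  .o9 0,
  .o9 0,
  .o9 4,
  .o9 0,
  .o9 0,
  .cj 3 [24,9,10,7],
  .o9 4,
  .o9 4,
  .o9 4,
  .o9 4,
  .cj 3 [25,9,16,10],
  .o9 4,
  .cj 5 [13,11,35,1],
  .o9 4,
  .o9 4,
  .o9 0,
  .o9 0,
  .o9 4,
  .o9 0,
  .o9 0,
  .o9 4,
  .o9 0,
  .o9 0,
  .o9 4,
  .o9 0,
  .o9 0,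
  .o9 4,
  .o9 0,
  .o9 0,
  .o9 4,
  .o9 0,
  .o9 0]

theorem h28_len_22 : h28_certs_22.length = 729 := by decide +kernel

theorem h28_chk_22 : chkAll 16038 h28_certs_22 = true := by decide +kernel

end Cfsg.Agent.Lib.Helper28.O73C
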