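import Cfsg.Agent.Lib.Helper28.O73C.Comp

/-! Project O73C (S5514): certificates for the parameters 16767 to 17495 (generated, helper28). -/

set_option autoImplicit false
set_option maxRecDepth 100000

namespace Cfsg.Agent.Lib.Helper28.O73C

/-- certificates, chunk 23 -/
def h28_certs_23 : List Cert :=
  [.cj 0 [8,7,6],
  .cj 6 [17,14,2,1,5],
  .cj 6 [27,11,26,6],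
  .cj 6 [26,6,1],
  .cj 6 [25,29,26,6],
  .cj 6 [25,11,26,6],
  .cj 6 [24,14,17,14,9],
  .cj 6 [27,29,26,6],
  .cj 6 [35,32,13,23],
  .cj 6 [26,1],
  .o9 4,
  .o9 4,
  .cj 6 [36,26,5,20,6,5],
  .o9 4,
  .o9 4,
  .cj 1 [24,1],
  .o9 4,
  .o9 4,
  .cj 6 [6,8,5,20,1,5],
  .o9 4,
  .o9 4,
  .cj 2 [35,28,27,14,7],
  .o9 4,
  .o9 4,
  .cj 6 [26,24,1],
  .o9 4,
  .o9 4,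
  .cj 4 [28,14,7],
  .cj 6 [27,17,14,5,1],
  .cj 6 [9,29,24,17,14],
  .cj 6 [36,8,24,14],
  .cj 6 [13,29,26,6],
  .cj 6 [35,32,2,23],
  .cj 6 [17,14,9],
  .cj 6 [17,14,1,5,1],
  .cj 6 [25,29,17,14,1],
  .cj 5 [26,14,13],
  .o9 4,
  .o9 4,
  .cj 5 [32,6,8],
  .o9 4,
  .o9 4,
  .cj 6 [35,24,14,8,6],
  .o9 4,
  .o9 4,
  .cj 4 [35,24,11,26,13,7],
  .o9 4,
  .o9 4,
  .cj 5 [35,26,14,6,1],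
  .o9 4,
  .o9 4,
  .cj 4 [17,29,8,12,9],
  .o9 4,
  .o9 4,
  .cj 3 [36,28,12,7],
  .cj 6 [17,13,14,5,1],
  .cj 6 [17,31,24,14,23],
  .cj 6 [36,32,8,24],
  .cj 6 [31,29,26,6],
  .cj 6 [17,14,2,23],
  .cj 6 [35,32,9],
  .cj 6 [35,32,1,5,1],
  .cj 6 [35,32,1,23,1],
  .cj 5 [36,35,24,8,1],
  .o9 4,
  .o9 4,
  .cj 5 [17,8,6],
  .o9 4,
  .o9 4,
  .cj 6 [17,32,24,8,6],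
  .o9 4,
  .o9 4,
  .cj 3 [17,12,11,10,8,7],
  .o9 4,
  .o9 4,
  .cj 5 [36,24,13],
  .o9 4,
  .o9 4,
  .cj 3 [35,11,27,10],
  .o9 4,
  .o9 4,
  .cj 4 [29,13,9],
  .o9 4,
  .o9 4,
  .cj 4 [11,27,25,16,13],
  .o9 4,
  .o9 4,
  .cj 5 [26,17,14,6],
  .o9 4,
  .o9 4,
  .cj 6 [14,1],
  .cj 6 [14,2,1,5],
  .cj 6 [14,2,1,23],
  .cj 4 [35,28,14,13,7],
  .cj 6 [31,14,5,1],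
  .cj 6 [17,32,24,23],
  .cj 6 [35,24,26,14,6],
  .cj 6 [7,14,17,5],
  .cj 6 [31,14,23,1],
  .cj 6 [24,17,14,8,2,6],
  .o9 4,
  .o9 4,
  .cj 5 [35,26,14,1],
  .o9 4,
  .o9 4,
  .cj 5 [26,24,14,13],
  .o9 4,
  .o9 4,
  .cj 3 [29,13,8,7],
  .o9 4,
  .o9 4,
  .cj 5 [36,35,24,1],
  .o9 4,
  .o9 4,
  .cj 3 [11,27,16,11,10],
  .o9 4,
  .o9 4,
  .cj 3 [35,10,25,11],
  .cj 6 [6,9,14,5],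
  .cj 6 [14,31,23],
  .cj 6 [14,5,20,1,5],
  .cj 6 [14,5,1],
  .cj 6 [20,14,23,6],
  .cj 6 [17,32],
  .cj 6 [27,14,6,5],
  .cj 6 [13,24,14,23],
  .cj 5 [36,24,17,8],
  .o9 4,
  .o9 4,
  .cj 5 [8,6,1],
  .o9 4,
  .o9 4,
  .cj 6 [36,32,6,26],
  .o9 4,
  .o9 4,
  .cj 2 [29,25,13,9],
  .o9 4,
  .o9 4,
  .cj 6 [35,26,24,1],
  .o9 4,
  .o9 4,
  .cj 6 [24,14,17,9,8],
  .o9 4,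
  .o9 4,
  .cj 6 [35,26,6,1],
  .cj 6 [17,32,6,5],
  .cj 6 [9,14,1,23,1],
  .cj 6 [24,14,17,9],
  .cj 6 [13,14,1,5,1],
  .cj 6 [27,24,14,23],
  .cj 0 [35,8,7,6],
  .cj 6 [20,14,9,5],
  .cj 6 [14,23,1],
  .cj 6 [24,26,14,17,9],
  .o9 4,
  .o9 4,
  .cj 1 [35,24,1],
  .o9 4,
  .o9 4,
  .cj 6 [35,26,1],
  .o9 4,
  .o9 4,
  .cj 3 [36,29,14,9],
  .o9 4,
  .o9 4,
  .cj 3 [35,11,10,8,7],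
  .o9 4,
  .o9 4,
  .cj 5 [36,24,17],
  .o9 4,
  .o9 4,
  .cj 6 [32,1],
  .cj 6 [32,2,1,5],
  .cj 6 [32,2,1,23],
  .cj 3 [17,10,25,11,10],
  .cj 6 [13,32,5,1],
  .cj 6 [32,24,23,17],
  .cj 6 [17,32,24,26,6],
  .cj 6 [32,35,19,5],
  .cj 6 [13,32,23,1],
  .cj 6 [35,32,24,8,2,6],
  .o9 4,
  .o9 4,
  .cj 5 [6,26,24,1],
  .o9 4,
  .o9 4,
  .cj 5 [35,8,2,6],
  .o9 4,
  .o9 4,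
  .cj 2 [28,27,14,7],
  .o9 4,
  .o9 4,
  .cj 6 [26,24,17,1],
  .o9 4,
  .o9 4,
  .cj 6 [32,35,24,9,8],
  .o9 4,
  .o9 4,
  .cj 6 [26,17,6,1],
  .cj 6 [35,14,6,5],
  .cj 6 [9,32,1,23,1],
  .cj 6 [32,35,24,9],
  .cj 6 [31,32,1,5,1],
  .cj 6 [27,32,24,23],
  .cj 0 [17,8,7,6],
  .cj 6 [32,20,9,5],
  .cj 6 [32,23,1],
  .cj 6 [32,35,24,26,9],
  .o9 4,
  .o9 4,
  .cj 1 [24,17,1],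
  .o9 4,
  .o9 4,
  .cj 6 [26,17,1],
  .o9 4,
  .o9 4,
  .cj 4 [24,28,26,7],
  .o9 4,
  .o9 4,
  .cj 5 [26,14,2,6],
  .o9 4,
  .o9 4,
  .cj 4 [35,7,29,13,9],
  .o9 4,
  .o9 4,
  .cj 4 [1,17,28,14,7],
  .cj 6 [6,9,32,5],
  .cj 6 [32,13,23],
  .cj 6 [32,5,20,1,5],
  .cj 6 [32,5,1],
  .cj 6 [32,20,23,6],
  .cj 6 [35,14],
  .cj 6 [27,32,6,5],
  .cj 6 [31,32,24,23],
  .cj 5 [26,17,14],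
  .o9 4,
  .o9 4,
  .cj 5 [17,32,6,8,1],
  .o9 4,
  .o9 4,
  .cj 6 [36,6,26,14],
  .o9 4,
  .o9 4,
  .cj 4 [24,13],
  .cj 5 [9,29,24,26,14,6],
  .cj 4 [34,28,25],
  .o9 4,
  .o9 4,
  .o9 4,
  .o9 4,
  .o9 4,
  .o9 4,
  .o9 5,
  .o9 0,
  .o9 0,
  .o9 4,
  .o9 0,
  .o9 0,
  .o9 4,
  .o9 0,
  .o9 0,
  .o9 5,
  .o9 0,
  .o9 0,
  .o9 4,
  .o9 0,
  .o9 0,
  .o9 4,
  .o9 0,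
  .o9 0,
  .cj 3 [13,11,7],
  .cj 3 [36,34,8,11],
  .cj 5 [27,25,14,11,17],
  .o9 4,
  .o9 4,
  .o9 4,
  .o9 4,
  .o9 4,
  .o9 4,
  .o9 4,
  .o9 0,
  .o9 0,
  .o9 4,
  .o9 0,
  .o9 0,
  .o9 4,
  .o9 0,
  .o9 0,
  .o9 4,
  .o9 0,
  .o9 0,
  .o9 4,
  .o9 0,
  .o9 0,
  .o9 4,
  .o9 0,
  .o9 0,
  .cj 2 [25,24,13],
  .cj 6 [36,9,29,17,9,8],
  .cj 6 [27,11,35,26,24],
  .o9 4,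
  .o9 4,
  .o9 4,
  .o9 4,
  .o9 4,
  .o9 4,
  .o9 4,
  .o9 0,
  .o9 0,
  .o9 4,
  .o9 0,
  .o9 0,
  .o9 4,
  .o9 0,
  .o9 0,
  .o9 4,
  .o9 0,
  .o9 0,
  .o9 4,
  .o9 0,
  .o9 0,
  .o9 4,
  .o9 0,
  .o9 0,
  .cj 3 [30,10,9],
  .o9 4,
  .o9 4,
  .o9 4,
  .o9 4,
  .cj 5 [31,7,11,17],
  .o9 4,
  .cj 3 [9,34,6,10,7],
  .o9 4,
  .o9 5,
  .o9 0,
  .o9 0,
  .o9 4,
  .o9 0,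
  .o9 0,
  .o9 4,
  .o9 0,
  .o9 0,
  .o9 5,
  .o9 0,
  .o9 0,
  .o9 4,
  .o9 0,
  .o9 0,
  .o9 4,
  .o9 0,
  .o9 0,
  .cj 2 [32,12,8,7],
  .o9 4,
  .o9 4,
  .o9 4,
  .o9 4,
  .cj 6 [36,11,35,8],
  .o9 4,
  .cj 6 [7,14,11,17,8],
  .o9 4,
  .o9 4,
  .o9 0,
  .o9 0,
  .o9 4,
  .o9 0,
  .o9 0,
  .o9 4,
  .o9 0,
  .o9 0,
  .o9 4,
  .o9 0,
  .o9 0,
  .o9 4,
  .o9 0,
  .o9 0,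
  .o9 4,
  .o9 0,
  .o9 0,
  .cj 4 [24,13,9],
  .o9 4,
  .o9 4,
  .o9 4,
  .o9 4,
  .cj 4 [36,9,34,10],
  .o9 4,
  .cj 5 [13,11,8,24],
  .o9 4,
  .o9 4,
  .o9 0,
  .o9 0,
  .o9 4,
  .o9 0,
  .o9 0,
  .o9 4,
  .o9 0,
  .o9 0,
  .o9 4,
  .o9 0,
  .o9 0,
  .o9 4,
  .o9 0,
  .o9 0,
  .o9 4,
  .o9 0,
  .o9 0,
  .cj 2 [27,24,13],
  .o9 4,
  .o9 4,
  .o9 4,
  .cj 6 [9,14,11,17,8],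
  .o9 4,
  .o9 4,
  .o9 4,
  .cj 6 [31,29,35,8,1],
  .o9 5,
  .o9 0,
  .o9 0,
  .o9 4,
  .o9 0,
  .o9 0,
  .o9 4,
  .o9 0,
  .o9 0,
  .o9 5,
  .o9 0,
  .o9 0,
  .o9 4,
  .o9 0,
  .o9 0,
  .o9 4,
  .o9 0,
  .o9 0,
  .cj 4 [26,14,7],
  .o9 4,
  .o9 4,
  .o9 4,
  .cj 5 [25,29,26,14,6,1],
  .o9 4,
  .o9 4,
  .o9 4,
  .cj 4 [27,34,13,10,7],
  .o9 4,
  .o9 0,
  .o9 0,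
  .o9 4,
  .o9 0,
  .o9 0,
  .o9 4,
  .o9 0,
  .o9 0,
  .o9 4,
  .o9 0,
  .o9 0,
  .o9 4,
  .o9 0,
  .o9 0,
  .o9 4,
  .o9 0,
  .o9 0,
  .cj 3 [7,26,11,7],
  .o9 4,
  .o9 4,
  .o9 4,
  .cj 3 [6,27,34,10,7],
  .o9 4,
  .o9 4,
  .o9 4,
  .cj 5 [36,29,17],
  .o9 4,
  .o9 0,
  .o9 0,
  .o9 4,
  .o9 0,
  .o9 0,
  .o9 4,
  .o9 0,
  .o9 0,
  .o9 4,
  .o9 0,
  .o9 0,
  .o9 4,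
  .o9 0,
  .o9 0,
  .o9 4,
  .o9 0,
  .o9 0,
  .cj 3 [36,26,12],
  .cj 5 [9,29,14,17,6],
  .cj 3 [16,13,7],
  .o9 4,
  .o9 4,
  .o9 4,
  .o9 4,
  .o9 4,
  .o9 4,
  .o9 5,
  .o9 0,
  .o9 0,
  .o9 4,
  .o9 0,
  .o9 0,
  .o9 4,
  .o9 0,
  .o9 0,
  .o9 5,
  .o9 0,
  .o9 0,
  .o9 4,
  .o9 0,
  .o9 0,
  .o9 4,
  .o9 0,
  .o9 0,
  .cj 2 [31,12,10,7],
  .cj 6 [36,9,29,35,9,8],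
  .cj 6 [27,11,26,24,17],
  .o9 4,
  .o9 4,
  .o9 4,
  .o9 4,
  .o9 4,
  .o9 4,
  .o9 4,
  .o9 0,
  .o9 0,
  .o9 4,
  .o9 0,
  .o9 0,
  .o9 4,
  .o9 0,
  .o9 0,
  .o9 4,
  .o9 0,
  .o9 0,
  .o9 4,
  .o9 0,
  .o9 0,
  .o9 4,
  .o9 0,
  .o9 0,
  .cj 4 [12,28,25],
  .cj 4 [16,8,11],
  .cj 5 [27,11,26,14,6,1],
  .o9 4,
  .o9 4,
  .o9 4,
  .o9 4,
  .o9 4,
  .o9 4,
  .o9 4,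
  .o9 0,
  .o9 0,
  .o9 4,
  .o9 0,
  .o9 0,
  .o9 4,
  .o9 0,
  .o9 0,
  .o9 4,
  .o9 0,
  .o9 0,
  .o9 4,
  .o9 0,
  .o9 0,
  .o9 4,
  .o9 0,
  .o9 0,
  .cj 2 [26,12,11,9],
  .o9 4,
  .o9 4,
  .o9 4,
  .cj 6 [36,29,35,24,8],
  .o9 4,
  .o9 4,
  .o9 4,
  .cj 6 [13,29,17,8,1],
  .o9 5,
  .o9 0,
  .o9 0,
  .o9 4,
  .o9 0,
  .o9 0,
  .o9 4,
  .o9 0,
  .o9 0,
  .o9 5,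
  .o9 0,
  .o9 0,
  .o9 4,
  .o9 0,
  .o9 0,
  .o9 4,
  .o9 0,
  .o9 0,
  .cj 4 [14,10,8,7],
  .o9 4,
  .o9 4,
  .o9 4,
  .cj 4 [27,16,13,11,7],
  .o9 4,
  .o9 4,
  .o9 4,
  .cj 5 [32,29,8,24,8],
  .o9 4,
  .o9 0,
  .o9 0,
  .o9 4,
  .o9 0,
  .o9 0,
  .o9 4,
  .o9 0,
  .o9 0,
  .o9 4,
  .o9 0,
  .o9 0,
  .o9 4,
  .o9 0,
  .o9 0,
  .o9 4,
  .o9 0,
  .o9 0,
  .cj 3 [36,26,12,7],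
  .o9 4,
  .o9 4,
  .o9 4,
  .cj 5 [36,29,35,1],
  .o9 4,
  .o9 4,
  .o9 4,
  .cj 3 [27,25,16,10],
  .o9 4,
  .o9 0,
  .o9 0,
  .o9 4,
  .o9 0,
  .o9 0,
  .o9 4,
  .o9 0,
  .o9 0,
  .o9 4,
  .o9 0,
  .o9 0,
  .o9 4,
  .o9 0,
  .o9 0,
  .o9 4,
  .o9 0,
  .o9 0,
  .cj 4 [29,27,13],
  .o9 4,
  .o9 4,
  .o9 4,
  .o9 4,
  .cj 5 [25,11,26,14,6,1],
  .o9 4,
  .cj 4 [6,9,16,13,7],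
  .o9 4,
  .o9 5,
  .o9 0,
  .o9 0,
  .o9 4,
  .o9 0,
  .o9 0,
  .o9 4,
  .o9 0,
  .o9 0,
  .o9 5,
  .o9 0,
  .o9 0,
  .o9 4,
  .o9 0,
  .o9 0,
  .o9 4,
  .o9 0,
  .o9 0,
  .cj 3 [12,9,10,7],
  .o9 4,
  .o9 4,
  .o9 4,
  .o9 4,
  .cj 3 [9,16,10],
  .o9 4,
  .cj 5 [36,11,17,6],
  .o9 4,
  .o9 4,
  .o9 0,
  .o9 0,
  .o9 4,
  .o9 0,
  .o9 0,
  .o9 4,
  .o9 0,
  .o9 0,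
  .o9 4,
  .o9 0,
  .o9 0,
  .o9 4,
  .o9 0,
  .o9 0,
  .o9 4,
  .o9 0,
  .o9 0,
  .cj 2 [29,8,25,13],
  .o9 4,
  .o9 4,
  .o9 4,
  .o9 4,
  .cj 6 [36,11,17,8],
  .o9 4,
  .cj 6 [6,13,11,35,8],
  .o9 4,
  .o9 4,
  .o9 0,
  .o9 0,
  .o9 4,
  .o9 0,
  .o9 0,
  .o9 4,
  .o9 0,
  .o9 0,
  .o9 4,
  .o9 0,
  .o9 0,
  .o9 4,
  .o9 0,
  .o9 0,
  .o9 4,
  .o9 0,
  .o9 0]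

theorem h28_len_23 : h28_certs_23.length = 729 := by decide +kernel

theorem h28_chk_23 : chkAll 16767 h28_certs_23 = true := by decide +kernel

end Cfsg.Agent.Lib.Helper28.O73C
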