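import Cfsg.Agent.Lib.Helper28.O73C.Comp

/-! Project O73C (S5514): certificates for the parameters 17496 to 18224 (generated, helper28). -/

set_option autoImplicit false
set_option maxRecDepth 100000

namespace Cfsg.Agent.Lib.Helper28.O73C

/-- certificates, chunk 24 -/
def h28_certs_24 : List Cert :=
  [.cj 0 [36,6],
  .cj 6 [17,14,9,2,5],
  .cj 6 [17,20,14,23],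
  .cj 6 [24,26,6],
  .cj 6 [29,24,26,6],
  .cj 6 [24,11,26,6],
  .cj 6 [14,17,14,6,1],
  .cj 6 [27,29,26,6,1],
  .cj 6 [9,11,26,2,6],
  .cj 6 [8,5,20,5],
  .o9 4,
  .o9 4,
  .cj 1 [6],
  .o9 4,
  .o9 4,
  .cj 6 [24,26],
  .o9 4,
  .o9 4,
  .cj 6 [36,8,1],
  .o9 4,
  .o9 4,
  .cj 6 [8,6,5,20,5],
  .o9 4,
  .o9 4,
  .cj 2 [17,32,28,8,7],
  .o9 4,
  .o9 4,
  .cj 4 [28,13,11,7],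
  .cj 6 [27,17,7,14,5],
  .cj 6 [9,29,17,14,6],
  .cj 6 [6,26,14,6],
  .cj 6 [17,9,14,5],
  .cj 6 [35,32,2,23,1],
  .cj 6 [24,17,14,1],
  .cj 6 [17,14,1,5],
  .cj 6 [29,24,17,14,1],
  .cj 5 [32,13,8],
  .o9 4,
  .o9 4,
  .cj 6 [36,35,26,14,9],
  .o9 4,
  .o9 4,
  .cj 5 [24,26,14,1],
  .o9 4,
  .o9 4,
  .cj 4 [17,6,28,8,7],
  .o9 4,
  .o9 4,
  .cj 4 [36,35,29,10,9],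
  .o9 4,
  .o9 4,
  .cj 5 [17,32,8,24],
  .o9 4,
  .o9 4,
  .cj 3 [10,25,6,10],
  .cj 6 [17,13,7,14,5],
  .cj 6 [17,31,14,23,6],
  .cj 6 [32,6,26,6],
  .cj 6 [35,9,32,5],
  .cj 6 [17,14,2,23,1],
  .cj 6 [35,32,24,1],
  .cj 6 [35,32,1,5],
  .cj 6 [35,32,24,23,1],
  .cj 5 [36,6,26,17,1],
  .o9 4,
  .o9 4,
  .cj 6 [36,17,32,26,9],
  .o9 4,
  .o9 4,
  .cj 5 [35,26,24,1],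
  .o9 4,
  .o9 4,
  .cj 3 [35,28,27,12,7],
  .o9 4,
  .o9 4,
  .cj 3 [17,29,10,9],
  .o9 4,
  .o9 4,
  .cj 5 [36,6],
  .o9 4,
  .o9 4,
  .cj 3 [29,12,10,9],
  .o9 4,
  .o9 4,
  .cj 5 [14,17,6,1],
  .o9 4,
  .o9 4,
  .cj 3 [17,8,29,8,7],
  .o9 4,
  .o9 4,
  .cj 6 [14,5,20,5],
  .cj 6 [14,5],
  .cj 6 [20,14,23],
  .cj 6 [17,32,24,9],
  .cj 6 [27,14,1,5],
  .cj 6 [6,13,14,23],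
  .cj 3 [36,35,28,11,7],
  .cj 6 [9,7,14,5],
  .cj 6 [14,1,23,17],
  .cj 6 [36,32,26,1],
  .o9 4,
  .o9 4,
  .cj 5 [26,24,17,13],
  .o9 4,
  .o9 4,
  .cj 5 [24,8,6],
  .o9 4,
  .o9 4,
  .cj 2 [32,28,8,7],
  .o9 4,
  .o9 4,
  .cj 6 [36,35,8,1],
  .o9 4,
  .o9 4,
  .cj 6 [14,17,6,8,1],
  .o9 4,
  .o9 4,
  .cj 6 [14,17,6,1],
  .cj 6 [13,14,5],
  .cj 6 [6,27,14,23],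
  .cj 0 [36,35,6],
  .cj 6 [6,20,14,5],
  .cj 6 [14,23,6],
  .cj 6 [35,24,26,6],
  .cj 6 [17,32,19,5],
  .cj 6 [9,14,23,9],
  .cj 6 [35,24,26],
  .o9 4,
  .o9 4,
  .cj 6 [6,26,14,17,1],
  .o9 4,
  .o9 4,
  .cj 1 [35,6],
  .o9 4,
  .o9 4,
  .cj 4 [10,6,13,8,7],
  .o9 4,
  .o9 4,
  .cj 4 [11,27,16,13],
  .o9 4,
  .o9 4,
  .cj 5 [32,8,24,13],
  .o9 4,
  .o9 4,
  .cj 4 [35,9,28,11,7],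
  .cj 6 [31,14,1,5],
  .cj 6 [14,13,23],
  .cj 6 [14,5,20,13,5],
  .cj 6 [14,13,6,5],
  .cj 6 [31,24,14,23,1],
  .cj 6 [24,14],
  .cj 6 [14,9,2,5],
  .cj 6 [24,14,2,23],
  .cj 5 [35,32,8,1],
  .o9 4,
  .o9 4,
  .cj 6 [36,26,17,14],
  .o9 4,
  .o9 4,
  .cj 5 [17,32,8,6],
  .o9 4,
  .o9 4,
  .cj 4 [11,27,8,11],
  .o9 4,
  .o9 4,
  .cj 5 [24,26,14,6,1],
  .o9 4,
  .o9 4,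
  .cj 4 [35,10,24,12,9],
  .o9 4,
  .o9 4,
  .cj 6 [32,5,20,5],
  .cj 6 [32,5],
  .cj 6 [32,20,23],
  .cj 6 [35,24,14,9],
  .cj 6 [27,32,1,5],
  .cj 6 [6,31,32,23],
  .cj 4 [17,28,11,7],
  .cj 6 [9,32,19,5],
  .cj 6 [32,35,1,23],
  .cj 6 [36,26,14,1],
  .o9 4,
  .o9 4,
  .cj 5 [32,8,2,6],
  .o9 4,
  .o9 4,
  .cj 5 [17,32,8],
  .o9 4,
  .o9 4,
  .cj 3 [11,8,12,8,7],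
  .o9 4,
  .o9 4,
  .cj 3 [35,7,29,10,9],
  .o9 4,
  .o9 4,
  .cj 5 [36,17,6,1],
  .o9 4,
  .o9 4,
  .cj 3 [17,10,25,12],
  .cj 6 [13,32,1,5],
  .cj 6 [32,31,23],
  .cj 6 [32,5,31,20,5],
  .cj 6 [32,31,6,5],
  .cj 6 [13,32,24,23,1],
  .cj 6 [32,24],
  .cj 6 [32,9,2,5],
  .cj 6 [32,24,2,23],
  .cj 5 [35,24,8,6,1],
  .o9 4,
  .o9 4,
  .cj 6 [36,35,32,26],
  .o9 4,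
  .o9 4,
  .cj 5 [26,24],
  .o9 4,
  .o9 4,
  .cj 2 [10,8,25,12],
  .o9 4,
  .o9 4,
  .cj 6 [36,17,8,1],
  .o9 4,
  .o9 4,
  .cj 6 [32,35,6,8,1],
  .o9 4,
  .o9 4,
  .cj 6 [32,35,6,1],
  .cj 6 [31,32,5],
  .cj 6 [6,27,32,23],
  .cj 0 [36,17,6],
  .cj 6 [32,6,20,5],
  .cj 6 [32,23,6],
  .cj 6 [24,26,17,6],
  .cj 6 [35,7,14,5],
  .cj 6 [9,32,23,9],
  .cj 6 [24,26,17],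
  .o9 4,
  .o9 4,
  .cj 6 [32,35,6,26,1],
  .o9 4,
  .o9 4,
  .cj 1 [17,6],
  .o9 4,
  .o9 4,
  .cj 2 [8,12],
  .cj 6 [31,27,11,17,8],
  .cj 6 [9,32,29,35,8],
  .o9 4,
  .o9 4,
  .o9 4,
  .o9 4,
  .o9 4,
  .o9 4,
  .o9 5,
  .o9 0,
  .o9 0,
  .o9 4,
  .o9 0,
  .o9 0,
  .o9 4,
  .o9 0,
  .o9 0,
  .o9 5,
  .o9 0,
  .o9 0,
  .o9 4,
  .o9 0,
  .o9 0,
  .o9 4,
  .o9 0,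
  .o9 0,
  .cj 4 [13,11,7],
  .cj 5 [9,29,6,26,14,6],
  .cj 4 [34,13,6,10,7],
  .o9 4,
  .o9 4,
  .o9 4,
  .o9 4,
  .o9 4,
  .o9 4,
  .o9 4,
  .o9 0,
  .o9 0,
  .o9 4,
  .o9 0,
  .o9 0,
  .o9 4,
  .o9 0,
  .o9 0,
  .o9 4,
  .o9 0,
  .o9 0,
  .o9 4,
  .o9 0,
  .o9 0,
  .o9 4,
  .o9 0,
  .o9 0,
  .cj 3 [25,6,10],
  .cj 3 [34,25,10,7],
  .cj 5 [36,27,11,35,1],
  .o9 4,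
  .o9 4,
  .o9 4,
  .o9 4,
  .o9 4,
  .o9 4,
  .o9 4,
  .o9 0,
  .o9 0,
  .o9 4,
  .o9 0,
  .o9 0,
  .o9 4,
  .o9 0,
  .o9 0,
  .o9 4,
  .o9 0,
  .o9 0,
  .o9 4,
  .o9 0,
  .o9 0,
  .o9 4,
  .o9 0,
  .o9 0,
  .cj 3 [12,10,9],
  .o9 4,
  .o9 4,
  .o9 4,
  .o9 4,
  .cj 5 [31,11,17,6],
  .o9 4,
  .cj 3 [9,34,10,7],
  .o9 4,
  .o9 5,
  .o9 0,
  .o9 0,
  .o9 4,
  .o9 0,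
  .o9 0,
  .o9 4,
  .o9 0,
  .o9 0,
  .o9 5,
  .o9 0,
  .o9 0,
  .o9 4,
  .o9 0,
  .o9 0,
  .o9 4,
  .o9 0,
  .o9 0,
  .cj 2 [32,8,7],
  .o9 4,
  .o9 4,
  .o9 4,
  .o9 4,
  .cj 6 [36,11,35,8,1],
  .o9 4,
  .cj 6 [14,7,11,17,8],
  .o9 4,
  .o9 4,
  .o9 0,
  .o9 0,
  .o9 4,
  .o9 0,
  .o9 0,
  .o9 4,
  .o9 0,
  .o9 0,
  .o9 4,
  .o9 0,
  .o9 0,
  .o9 4,
  .o9 0,
  .o9 0,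
  .o9 4,
  .o9 0,
  .o9 0,
  .cj 4 [6,13,8,7],
  .o9 4,
  .o9 4,
  .o9 4,
  .o9 4,
  .cj 4 [29,27,16,13],
  .o9 4,
  .cj 5 [13,11,8,24,13],
  .o9 4,
  .o9 4,
  .o9 0,
  .o9 0,
  .o9 4,
  .o9 0,
  .o9 0,
  .o9 4,
  .o9 0,
  .o9 0,
  .o9 4,
  .o9 0,
  .o9 0,
  .o9 4,
  .o9 0,
  .o9 0,
  .o9 4,
  .o9 0,
  .o9 0,
  .cj 4 [27,8,11],
  .o9 4,
  .o9 4,
  .o9 4,
  .cj 5 [29,24,26,14,6,1],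
  .o9 4,
  .o9 4,
  .o9 4,
  .cj 4 [36,24,27,34,10],
  .o9 5,
  .o9 0,
  .o9 0,
  .o9 4,
  .o9 0,
  .o9 0,
  .o9 4,
  .o9 0,
  .o9 0,
  .o9 5,
  .o9 0,
  .o9 0,
  .o9 4,
  .o9 0,
  .o9 0,
  .o9 4,
  .o9 0,
  .o9 0,
  .cj 3 [8,12,8,7],
  .o9 4,
  .o9 4,
  .o9 4,
  .cj 3 [36,27,34,28],
  .o9 4,
  .o9 4,
  .o9 4,
  .cj 5 [31,29,35,6],
  .o9 4,
  .o9 0,
  .o9 0,
  .o9 4,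
  .o9 0,
  .o9 0,
  .o9 4,
  .o9 0,
  .o9 0,
  .o9 4,
  .o9 0,
  .o9 0,
  .o9 4,
  .o9 0,
  .o9 0,
  .o9 4,
  .o9 0,
  .o9 0,
  .cj 2 [8,25,12],
  .o9 4,
  .o9 4,
  .o9 4,
  .cj 6 [36,29,17,8,1],
  .o9 4,
  .o9 4,
  .o9 4,
  .cj 6 [6,31,29,35,8],
  .o9 4,
  .o9 0,
  .o9 0,
  .o9 4,
  .o9 0,
  .o9 0,
  .o9 4,
  .o9 0,
  .o9 0,
  .o9 4,
  .o9 0,
  .o9 0,
  .o9 4,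
  .o9 0,
  .o9 0,
  .o9 4,
  .o9 0,
  .o9 0,
  .cj 2 [15,8,12],
  .cj 6 [27,13,11,35,8],
  .cj 6 [9,29,14,17,8],
  .o9 4,
  .o9 4,
  .o9 4,
  .o9 4,
  .o9 4,
  .o9 4,
  .o9 5,
  .o9 0,
  .o9 0,
  .o9 4,
  .o9 0,
  .o9 0,
  .o9 4,
  .o9 0,
  .o9 0,
  .o9 5,
  .o9 0,
  .o9 0,
  .o9 4,
  .o9 0,
  .o9 0,
  .o9 4,
  .o9 0,
  .o9 0,
  .cj 4 [13,11,10,7],
  .cj 4 [16,13,7],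
  .cj 5 [27,7,11,26,14,6],
  .o9 4,
  .o9 4,
  .o9 4,
  .o9 4,
  .o9 4,
  .o9 4,
  .o9 4,
  .o9 0,
  .o9 0,
  .o9 4,
  .o9 0,
  .o9 0,
  .o9 4,
  .o9 0,
  .o9 0,
  .o9 4,
  .o9 0,
  .o9 0,
  .o9 4,
  .o9 0,
  .o9 0,
  .o9 4,
  .o9 0,
  .o9 0,
  .cj 3 [25,6,10,7],
  .cj 5 [36,27,11,17],
  .cj 3 [25,16,11,10],
  .o9 4,
  .o9 4,
  .o9 4,
  .o9 4,
  .o9 4,
  .o9 4,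
  .o9 4,
  .o9 0,
  .o9 0,
  .o9 4,
  .o9 0,
  .o9 0,
  .o9 4,
  .o9 0,
  .o9 0,
  .o9 4,
  .o9 0,
  .o9 0,
  .o9 4,
  .o9 0,
  .o9 0,
  .o9 4,
  .o9 0,
  .o9 0,
  .cj 3 [12,11,10,9],
  .o9 4,
  .o9 4,
  .o9 4,
  .cj 5 [25,29,14,17],
  .o9 4,
  .o9 4,
  .o9 4,
  .cj 3 [24,27,16,10],
  .o9 5,
  .o9 0,
  .o9 0,
  .o9 4,
  .o9 0,
  .o9 0,
  .o9 4,
  .o9 0,
  .o9 0,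
  .o9 5,
  .o9 0,
  .o9 0,
  .o9 4,
  .o9 0,
  .o9 0,
  .o9 4,
  .o9 0,
  .o9 0,
  .cj 2 [32,10,8,7],
  .o9 4,
  .o9 4,
  .o9 4,
  .cj 6 [36,29,35,8,1],
  .o9 4,
  .o9 4,
  .o9 4,
  .cj 6 [25,29,14,17,8],
  .o9 4,
  .o9 0,
  .o9 0,
  .o9 4,
  .o9 0,
  .o9 0,
  .o9 4,
  .o9 0,
  .o9 0,
  .o9 4,
  .o9 0,
  .o9 0,
  .o9 4,
  .o9 0,
  .o9 0,
  .o9 4,
  .o9 0,
  .o9 0,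
  .cj 4 [31,7,11,9],
  .o9 4,
  .o9 4,
  .o9 4,
  .cj 4 [27,16,13],
  .o9 4,
  .o9 4,
  .o9 4,
  .cj 5 [9,11,26,14,6],
  .o9 4,
  .o9 0,
  .o9 0,
  .o9 4,
  .o9 0,
  .o9 0,
  .o9 4,
  .o9 0,
  .o9 0,
  .o9 4,
  .o9 0,
  .o9 0,
  .o9 4,
  .o9 0,
  .o9 0,
  .o9 4,
  .o9 0,
  .o9 0,
  .cj 4 [36,30,10,9],
  .o9 4,
  .o9 4,
  .o9 4,
  .o9 4,
  .cj 5 [25,11,26,14,6],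
  .o9 4,
  .cj 4 [25,9,16,13],
  .o9 4,
  .o9 5,
  .o9 0,
  .o9 0,
  .o9 4,
  .o9 0,
  .o9 0,
  .o9 4,
  .o9 0,
  .o9 0,
  .o9 5,
  .o9 0,
  .o9 0,
  .o9 4,
  .o9 0,
  .o9 0,
  .o9 4,
  .o9 0,
  .o9 0,
  .cj 3 [9,6,10,7],
  .o9 4,
  .o9 4,
  .o9 4,
  .o9 4,
  .cj 3 [9,16,11,10],
  .o9 4,
  .cj 5 [36,7,11,17],
  .o9 4,
  .o9 4,
  .o9 0,
  .o9 0,
  .o9 4,
  .o9 0,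
  .o9 0,
  .o9 4,
  .o9 0,
  .o9 0,
  .o9 4,
  .o9 0,
  .o9 0,
  .o9 4,
  .o9 0,
  .o9 0,
  .o9 4,
  .o9 0,
  .o9 0,
  .cj 2 [36,14,8,7],
  .o9 4,
  .o9 4,
  .o9 4,
  .o9 4,
  .cj 6 [36,11,17,8,1],
  .o9 4,
  .cj 6 [13,7,11,35,8],
  .o9 4,
  .o9 4,
  .o9 0,
  .o9 0,
  .o9 4,
  .o9 0,
  .o9 0,
  .o9 4,
  .o9 0,
  .o9 0,
  .o9 4,
  .o9 0,
  .o9 0,
  .o9 4,
  .o9 0,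
  .o9 0,
  .o9 4,
  .o9 0,
  .o9 0]

theorem h28_len_24 : h28_certs_24.length = 729 := by decide +kernel

theorem h28_chk_24 : chkAll 17496 h28_certs_24 = true := by decide +kernel

end Cfsg.Agent.Lib.Helper28.O73C
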