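import Cfsg.Agent.Lib.Helper28.O73C.Comp

/-! Project O73C (S5514): certificates for the parameters 18225 to 18953 (generated, helper28). -/

set_option autoImplicit false
set_option maxRecDepth 100000

namespace Cfsg.Agent.Lib.Helper28.O73C

/-- certificates, chunk 25 -/
def h28_certs_25 : List Cert :=
  [.cj 0 [36,7,6],
  .cj 6 [9,29,26,6,1],
  .cj 6 [27,24,11,26,6],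
  .cj 6 [24,26,2,6],
  .cj 6 [17,31,14,5],
  .cj 6 [11,26,2,6],
  .cj 6 [14,17,14,6],
  .cj 6 [31,17,14,1,5],
  .cj 6 [29,14,17,14],
  .cj 6 [8,5,20,5,1],
  .o9 4,
  .o9 4,
  .cj 1 [2,6],
  .o9 4,
  .o9 4,
  .cj 6 [24,26,9],
  .o9 4,
  .o9 4,
  .cj 6 [36,9,8],
  .o9 4,
  .o9 4,
  .cj 6 [8,5,20,24,5],
  .o9 4,
  .o9 4,
  .cj 2 [17,29,13,8,7],
  .o9 4,
  .o9 4,
  .cj 4 [9,28,11,7],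
  .cj 6 [27,17,14,1,5],
  .cj 6 [9,29,17,14,9],
  .cj 6 [6,26,14,2,6],
  .cj 6 [13,29,26,6,1],
  .cj 6 [31,24,11,26,6],
  .cj 6 [24,17,14],
  .cj 6 [17,14,5],
  .cj 6 [29,17,14,6],
  .cj 5 [32,8,1],
  .o9 4,
  .o9 4,
  .cj 6 [36,35,26,14],
  .o9 4,
  .o9 4,
  .cj 5 [24,26,14],
  .o9 4,
  .o9 4,
  .cj 4 [17,10,6,13,8,7],
  .o9 4,
  .o9 4,
  .cj 4 [35,11,27,13],
  .o9 4,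
  .o9 4,
  .cj 5 [17,32,8,24,13],
  .o9 4,
  .o9 4,
  .cj 3 [10,25,12],
  .cj 6 [17,13,14,1,5],
  .cj 6 [17,31,14,23,9],
  .cj 6 [32,6,26,2,6],
  .cj 6 [31,29,26,6,1],
  .cj 6 [24,13,11,26,6],
  .cj 6 [35,32,24],
  .cj 6 [35,32,5],
  .cj 6 [35,32,23,6],
  .cj 5 [24,17,8,6,1],
  .o9 4,
  .o9 4,
  .cj 6 [36,17,32,26],
  .o9 4,
  .o9 4,
  .cj 5 [35,26,24],
  .o9 4,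
  .o9 4,
  .cj 3 [35,11,8,12,8,7],
  .o9 4,
  .o9 4,
  .cj 3 [17,7,29,10,9],
  .o9 4,
  .o9 4,
  .cj 5 [36,6,1],
  .o9 4,
  .o9 4,
  .cj 3 [29,10,9],
  .o9 4,
  .o9 4,
  .cj 5 [14,17,6],
  .o9 4,
  .o9 4,
  .cj 3 [17,28,27,12,7],
  .o9 4,
  .o9 4,
  .cj 6 [14,5,20,5,1],
  .cj 6 [7,14,5],
  .cj 6 [20,7,14,23],
  .cj 6 [17,32,24,1],
  .cj 6 [27,14,5],
  .cj 6 [13,14,23,6],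
  .cj 3 [35,10,25,6,10],
  .cj 6 [9,14,1,5],
  .cj 6 [14,23,17],
  .cj 6 [36,32,26,9],
  .o9 4,
  .o9 4,
  .cj 5 [26,24,17,1],
  .o9 4,
  .o9 4,
  .cj 5 [36,6,26,1],
  .o9 4,
  .o9 4,
  .cj 2 [29,13,8,7],
  .o9 4,
  .o9 4,
  .cj 6 [36,35,9,8],
  .o9 4,
  .o9 4,
  .cj 6 [14,17,6,8],
  .o9 4,
  .o9 4,
  .cj 6 [14,17,6],
  .cj 6 [13,7,14,5],
  .cj 6 [27,14,23,6],
  .cj 0 [36,35,7,6],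
  .cj 6 [20,14,5,1],
  .cj 6 [14,23,9],
  .cj 6 [35,24,26,2,6],
  .cj 6 [17,32,1,5],
  .cj 6 [9,24,14,23,1],
  .cj 6 [35,24,26,9],
  .o9 4,
  .o9 4,
  .cj 6 [6,26,14,17],
  .o9 4,
  .o9 4,
  .cj 1 [35,2,6],
  .o9 4,
  .o9 4,
  .cj 4 [10,24,12,9],
  .o9 4,
  .o9 4,
  .cj 4 [11,27,16,8,11],
  .o9 4,
  .o9 4,
  .cj 5 [32,8,24,1],
  .o9 4,
  .o9 4,
  .cj 4 [35,28,11,7],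
  .cj 6 [31,14,5],
  .cj 6 [7,14,13,23],
  .cj 6 [17,32,5,20,5],
  .cj 6 [24,14,17,5],
  .cj 6 [31,14,23,6],
  .cj 6 [24,14,9],
  .cj 6 [14,2,6,5,1],
  .cj 6 [14,2,23,1],
  .cj 5 [36,14,8],
  .o9 4,
  .o9 4,
  .cj 6 [36,26,17,14,1],
  .o9 4,
  .o9 4,
  .cj 5 [17,32,8,2,6],
  .o9 4,
  .o9 4,
  .cj 4 [36,29,10,9],
  .o9 4,
  .o9 4,
  .cj 5 [24,26,14,6],
  .o9 4,
  .o9 4,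
  .cj 4 [35,6,28,8,7],
  .o9 4,
  .o9 4,
  .cj 6 [32,5,20,5,1],
  .cj 6 [32,19,5],
  .cj 6 [32,20,19,23],
  .cj 6 [35,24,14,1],
  .cj 6 [27,32,5],
  .cj 6 [31,32,23,6],
  .cj 4 [17,28,13,11,7],
  .cj 6 [9,32,1,5],
  .cj 6 [32,35,23],
  .cj 6 [36,26,14,9],
  .o9 4,
  .o9 4,
  .cj 5 [32,8,6,1],
  .o9 4,
  .o9 4,
  .cj 5 [17,32,13,8],
  .o9 4,
  .o9 4,
  .cj 3 [8,29,8,7],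
  .o9 4,
  .o9 4,
  .cj 3 [35,29,12,10,9],
  .o9 4,
  .o9 4,
  .cj 5 [32,35,6,1],
  .o9 4,
  .o9 4,
  .cj 3 [36,17,28,11,7],
  .cj 6 [13,32,5],
  .cj 6 [32,31,19,23],
  .cj 6 [35,14,5,20,5],
  .cj 6 [32,35,24,5],
  .cj 6 [13,32,23,6],
  .cj 6 [32,24,9],
  .cj 6 [32,2,6,5,1],
  .cj 6 [32,2,23,1],
  .cj 5 [35,24,8,6],
  .o9 4,
  .o9 4,
  .cj 6 [36,35,32,26,1],
  .o9 4,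
  .o9 4,
  .cj 5 [26,24,13],
  .o9 4,
  .o9 4,
  .cj 2 [10,27,25,12],
  .o9 4,
  .o9 4,
  .cj 6 [36,17,9,8],
  .o9 4,
  .o9 4,
  .cj 6 [32,35,6,8],
  .o9 4,
  .o9 4,
  .cj 6 [32,35,6],
  .cj 6 [31,32,19,5],
  .cj 6 [27,32,23,6],
  .cj 0 [36,17,7,6],
  .cj 6 [32,20,5,1],
  .cj 6 [32,23,9],
  .cj 6 [24,26,17,2,6],
  .cj 6 [35,14,1,5],
  .cj 6 [9,32,24,23,1],
  .cj 6 [24,26,17,9],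
  .o9 4,
  .o9 4,
  .cj 6 [32,35,6,26],
  .o9 4,
  .o9 4,
  .cj 1 [17,2,6],
  .o9 4,
  .o9 4,
  .cj 3 [6,10],
  .cj 3 [34,10,7],
  .cj 5 [31,27,11,17,6],
  .o9 4,
  .o9 4,
  .o9 4,
  .o9 4,
  .o9 4,
  .o9 4,
  .o9 5,
  .o9 0,
  .o9 0,
  .o9 4,
  .o9 0,
  .o9 0,
  .o9 4,
  .o9 0,
  .o9 0,
  .o9 5,
  .o9 0,
  .o9 0,
  .o9 4,
  .o9 0,
  .o9 0,
  .o9 4,
  .o9 0,
  .o9 0,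
  .cj 2 [13,12,7],
  .cj 6 [9,29,26,24,17,1],
  .cj 6 [36,27,11,35,8,1],
  .o9 4,
  .o9 4,
  .o9 4,
  .o9 4,
  .o9 4,
  .o9 4,
  .o9 4,
  .o9 0,
  .o9 0,
  .o9 4,
  .o9 0,
  .o9 0,
  .o9 4,
  .o9 0,
  .o9 0,
  .o9 4,
  .o9 0,
  .o9 0,
  .o9 4,
  .o9 0,
  .o9 0,
  .o9 4,
  .o9 0,
  .o9 0,
  .cj 4 [25,8,11],
  .cj 5 [9,29,26,14,2,6],
  .cj 4 [36,34,11,10],
  .o9 4,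
  .o9 4,
  .o9 4,
  .o9 4,
  .o9 4,
  .o9 4,
  .o9 4,
  .o9 0,
  .o9 0,
  .o9 4,
  .o9 0,
  .o9 0,
  .o9 4,
  .o9 0,
  .o9 0,
  .o9 4,
  .o9 0,
  .o9 0,
  .o9 4,
  .o9 0,
  .o9 0,
  .o9 4,
  .o9 0,
  .o9 0,
  .cj 4 [8,12,9],
  .o9 4,
  .o9 4,
  .o9 4,
  .o9 4,
  .cj 4 [7,29,27,16,13],
  .o9 4,
  .cj 5 [11,26,17,14,6,1],
  .o9 4,
  .o9 5,
  .o9 0,
  .o9 0,
  .o9 4,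
  .o9 0,
  .o9 0,
  .o9 4,
  .o9 0,
  .o9 0,
  .o9 5,
  .o9 0,
  .o9 0,
  .o9 4,
  .o9 0,
  .o9 0,
  .o9 4,
  .o9 0,
  .o9 0,
  .cj 3 [32,8,7],
  .o9 4,
  .o9 4,
  .o9 4,
  .o9 4,
  .cj 5 [24,14,11,17],
  .o9 4,
  .cj 3 [36,9,34,28],
  .o9 4,
  .o9 4,
  .o9 0,
  .o9 0,
  .o9 4,
  .o9 0,
  .o9 0,
  .o9 4,
  .o9 0,
  .o9 0,
  .o9 4,
  .o9 0,
  .o9 0,
  .o9 4,
  .o9 0,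
  .o9 0,
  .o9 4,
  .o9 0,
  .o9 0,
  .cj 2 [6,13,8,7],
  .o9 4,
  .o9 4,
  .o9 4,
  .o9 4,
  .cj 6 [11,35,26,24,9],
  .o9 4,
  .cj 6 [24,14,11,17,8],
  .o9 4,
  .o9 4,
  .o9 0,
  .o9 0,
  .o9 4,
  .o9 0,
  .o9 0,
  .o9 4,
  .o9 0,
  .o9 0,
  .o9 4,
  .o9 0,
  .o9 0,
  .o9 4,
  .o9 0,
  .o9 0,
  .o9 4,
  .o9 0,
  .o9 0,
  .cj 2 [27,8,12],
  .o9 4,
  .o9 4,
  .o9 4,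
  .cj 6 [31,9,11,17,8],
  .o9 4,
  .o9 4,
  .o9 4,
  .cj 6 [32,29,35,8],
  .o9 5,
  .o9 0,
  .o9 0,
  .o9 4,
  .o9 0,
  .o9 0,
  .o9 4,
  .o9 0,
  .o9 0,
  .o9 5,
  .o9 0,
  .o9 0,
  .o9 4,
  .o9 0,
  .o9 0,
  .o9 4,
  .o9 0,
  .o9 0,
  .cj 4 [8,12,8,7],
  .o9 4,
  .o9 4,
  .o9 4,
  .cj 5 [29,6,26,14,6],
  .o9 4,
  .o9 4,
  .o9 4,
  .cj 4 [29,35,28,8,7],
  .o9 4,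
  .o9 0,
  .o9 0,
  .o9 4,
  .o9 0,
  .o9 0,
  .o9 4,
  .o9 0,
  .o9 0,
  .o9 4,
  .o9 0,
  .o9 0,
  .o9 4,
  .o9 0,
  .o9 0,
  .o9 4,
  .o9 0,
  .o9 0,
  .cj 3 [6,27,10],
  .o9 4,
  .o9 4,
  .o9 4,
  .cj 3 [27,34,25,10,7],
  .o9 4,
  .o9 4,
  .o9 4,
  .cj 5 [31,29,35,1],
  .o9 4,
  .o9 0,
  .o9 0,
  .o9 4,
  .o9 0,
  .o9 0,
  .o9 4,
  .o9 0,
  .o9 0,
  .o9 4,
  .o9 0,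
  .o9 0,
  .o9 4,
  .o9 0,
  .o9 0,
  .o9 4,
  .o9 0,
  .o9 0,
  .cj 4 [36,6,10],
  .cj 4 [25,16,13],
  .cj 5 [9,29,26,17,14,6],
  .o9 4,
  .o9 4,
  .o9 4,
  .o9 4,
  .o9 4,
  .o9 4,
  .o9 5,
  .o9 0,
  .o9 0,
  .o9 4,
  .o9 0,
  .o9 0,
  .o9 4,
  .o9 0,
  .o9 0,
  .o9 5,
  .o9 0,
  .o9 0,
  .o9 4,
  .o9 0,
  .o9 0,
  .o9 4,
  .o9 0,
  .o9 0,
  .cj 3 [6,10,7],
  .cj 5 [36,27,7,11,17],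
  .cj 3 [16,11,10],
  .o9 4,
  .o9 4,
  .o9 4,
  .o9 4,
  .o9 4,
  .o9 4,
  .o9 4,
  .o9 0,
  .o9 0,
  .o9 4,
  .o9 0,
  .o9 0,
  .o9 4,
  .o9 0,
  .o9 0,
  .o9 4,
  .o9 0,
  .o9 0,
  .o9 4,
  .o9 0,
  .o9 0,
  .o9 4,
  .o9 0,
  .o9 0,
  .cj 2 [16,13,12,7],
  .cj 6 [9,29,35,26,24,1],
  .cj 6 [36,27,11,17,8,1],
  .o9 4,
  .o9 4,
  .o9 4,
  .o9 4,
  .o9 4,
  .o9 4,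
  .o9 4,
  .o9 0,
  .o9 0,
  .o9 4,
  .o9 0,
  .o9 0,
  .o9 4,
  .o9 0,
  .o9 0,
  .o9 4,
  .o9 0,
  .o9 0,
  .o9 4,
  .o9 0,
  .o9 0,
  .o9 4,
  .o9 0,
  .o9 0,
  .cj 2 [8,30,11,9],
  .o9 4,
  .o9 4,
  .o9 4,
  .cj 6 [13,9,11,35,8],
  .o9 4,
  .o9 4,
  .o9 4,
  .cj 6 [29,14,17,8],
  .o9 5,
  .o9 0,
  .o9 0,
  .o9 4,
  .o9 0,
  .o9 0,
  .o9 4,
  .o9 0,
  .o9 0,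
  .o9 5,
  .o9 0,
  .o9 0,
  .o9 4,
  .o9 0,
  .o9 0,
  .o9 4,
  .o9 0,
  .o9 0,
  .cj 4 [31,11,8,7],
  .o9 4,
  .o9 4,
  .o9 4,
  .cj 4 [27,16,13,7],
  .o9 4,
  .o9 4,
  .o9 4,
  .cj 5 [32,29,8,24,8,1],
  .o9 4,
  .o9 0,
  .o9 0,
  .o9 4,
  .o9 0,
  .o9 0,
  .o9 4,
  .o9 0,
  .o9 0,
  .o9 4,
  .o9 0,
  .o9 0,
  .o9 4,
  .o9 0,
  .o9 0,
  .o9 4,
  .o9 0,
  .o9 0,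
  .cj 3 [6,10,8,7],
  .o9 4,
  .o9 4,
  .o9 4,
  .cj 5 [29,14,17],
  .o9 4,
  .o9 4,
  .o9 4,
  .cj 3 [24,27,16,13,7],
  .o9 4,
  .o9 0,
  .o9 0,
  .o9 4,
  .o9 0,
  .o9 0,
  .o9 4,
  .o9 0,
  .o9 0,
  .o9 4,
  .o9 0,
  .o9 0,
  .o9 4,
  .o9 0,
  .o9 0,
  .o9 4,
  .o9 0,
  .o9 0,
  .cj 3 [29,27,10],
  .o9 4,
  .o9 4,
  .o9 4,
  .o9 4,
  .cj 3 [9,16,13,11,7],
  .o9 4,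
  .cj 5 [36,25,11,17],
  .o9 4,
  .o9 5,
  .o9 0,
  .o9 0,
  .o9 4,
  .o9 0,
  .o9 0,
  .o9 4,
  .o9 0,
  .o9 0,
  .o9 5,
  .o9 0,
  .o9 0,
  .o9 4,
  .o9 0,
  .o9 0,
  .o9 4,
  .o9 0,
  .o9 0,
  .cj 2 [10,27,12,7],
  .o9 4,
  .o9 4,
  .o9 4,
  .o9 4,
  .cj 6 [11,26,24,17,9],
  .o9 4,
  .cj 6 [32,11,35,24,8],
  .o9 4,
  .o9 4,
  .o9 0,
  .o9 0,
  .o9 4,
  .o9 0,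
  .o9 0,
  .o9 4,
  .o9 0,
  .o9 0,
  .o9 4,
  .o9 0,
  .o9 0,
  .o9 4,
  .o9 0,
  .o9 0,
  .o9 4,
  .o9 0,
  .o9 0,
  .cj 4 [36,14,8,7],
  .o9 4,
  .o9 4,
  .o9 4,
  .o9 4,
  .cj 5 [11,26,14,6],
  .o9 4,
  .cj 4 [9,16,13],
  .o9 4,
  .o9 4,
  .o9 0,
  .o9 0,
  .o9 4,
  .o9 0,
  .o9 0,
  .o9 4,
  .o9 0,
  .o9 0,
  .o9 4,
  .o9 0,
  .o9 0,
  .o9 4,
  .o9 0,
  .o9 0,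
  .o9 4,
  .o9 0,
  .o9 0]

theorem h28_len_25 : h28_certs_25.length = 729 := by decide +kernel

theorem h28_chk_25 : chkAll 18225 h28_certs_25 = true := by decide +kernel

end Cfsg.Agent.Lib.Helper28.O73C
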