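import Cfsg.Agent.Lib.Helper28.O73C.Comp

/-! Project O73C (S5514): certificates for the parameters 18954 to 19682 (generated, helper28). -/

set_option autoImplicit false
set_option maxRecDepth 100000

namespace Cfsg.Agent.Lib.Helper28.O73C

/-- certificates, chunk 26 -/
def h28_certs_26 : List Cert :=
  [.cj 0 [36,9,6],
  .cj 6 [17,2,24,14,5],
  .cj 6 [27,11,26,2,6],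
  .cj 6 [36,8,24],
  .cj 6 [29,26,6,1],
  .cj 6 [11,6,26,6,1],
  .cj 6 [8,5,20,6,5],
  .cj 6 [31,17,14,5],
  .cj 6 [9,24,11,26,6],
  .cj 6 [8,5,20,9,5],
  .o9 4,
  .o9 4,
  .cj 1 [6,1],
  .o9 4,
  .o9 4,
  .cj 6 [24,26,1],
  .o9 4,
  .o9 4,
  .cj 6 [36,8],
  .o9 4,
  .o9 4,
  .cj 6 [8,5,20,1,5],
  .o9 4,
  .o9 4,
  .cj 2 [17,28,12,8,7],
  .o9 4,
  .o9 4,
  .cj 4 [28,11,7],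
  .cj 6 [27,17,14,5],
  .cj 6 [9,29,24,17,14,1],
  .cj 6 [6,26,14,6,1],
  .cj 6 [17,9,14,1,5],
  .cj 6 [11,26,14,6,1],
  .cj 6 [24,17,14,9],
  .cj 6 [17,7,14,5],
  .cj 6 [29,17,14,9],
  .cj 5 [32,8],
  .o9 4,
  .o9 4,
  .cj 6 [36,35,26,14,1],
  .o9 4,
  .o9 4,
  .cj 5 [24,26,14,13],
  .o9 4,
  .o9 4,
  .cj 4 [17,10,24,12,9],
  .o9 4,
  .o9 4,
  .cj 4 [35,11,27,8,11],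
  .o9 4,
  .o9 4,
  .cj 5 [17,32,8,24,1],
  .o9 4,
  .o9 4,
  .cj 3 [36,28,11,7],
  .cj 6 [17,13,14,5],
  .cj 6 [17,31,24,14,23,1],
  .cj 6 [32,6,26,6,1],
  .cj 6 [35,9,32,1,5],
  .cj 6 [32,11,26,6,1],
  .cj 6 [35,32,24,9],
  .cj 6 [35,32,19,5],
  .cj 6 [35,32,23,9],
  .cj 5 [24,17,8,6],
  .o9 4,
  .o9 4,
  .cj 6 [36,17,32,26,1],
  .o9 4,
  .o9 4,
  .cj 5 [35,26,24,13],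
  .o9 4,
  .o9 4,
  .cj 3 [35,8,29,8,7],
  .o9 4,
  .o9 4,
  .cj 3 [17,29,12,10,9],
  .o9 4,
  .o9 4,
  .cj 5 [36,2,6],
  .o9 4,
  .o9 4,
  .cj 3 [7,29,10,9],
  .o9 4,
  .o9 4,
  .cj 5 [36,35,6,1],
  .o9 4,
  .o9 4,
  .cj 3 [17,11,8,12,8,7],
  .o9 4,
  .o9 4,
  .cj 6 [14,5,20,9,5],
  .cj 6 [14,1,5],
  .cj 6 [20,14,1,23],
  .cj 6 [17,32,24],
  .cj 6 [27,7,14,5],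
  .cj 6 [13,14,23,9],
  .cj 3 [35,10,25,12],
  .cj 6 [9,14,5],
  .cj 6 [7,14,23,17],
  .cj 6 [36,32,26],
  .o9 4,
  .o9 4,
  .cj 5 [26,24,17],
  .o9 4,
  .o9 4,
  .cj 5 [24,8,6,1],
  .o9 4,
  .o9 4,
  .cj 2 [28,12,8,7],
  .o9 4,
  .o9 4,
  .cj 6 [36,35,8],
  .o9 4,
  .o9 4,
  .cj 6 [14,17,2,6,8],
  .o9 4,
  .o9 4,
  .cj 6 [14,17,2,6],
  .cj 6 [13,14,1,5],
  .cj 6 [27,14,23,9],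
  .cj 0 [36,35,9,6],
  .cj 6 [20,14,6,5],
  .cj 6 [24,14,23,1],
  .cj 6 [36,35,8,24],
  .cj 6 [17,32,5],
  .cj 6 [9,14,23,6],
  .cj 6 [35,24,26,1],
  .o9 4,
  .o9 4,
  .cj 6 [8,5,20,13,5],
  .o9 4,
  .o9 4,
  .cj 1 [35,6,1],
  .o9 4,
  .o9 4,
  .cj 4 [6,28,8,7],
  .o9 4,
  .o9 4,
  .cj 4 [36,17,29,10,9],
  .o9 4,
  .o9 4,
  .cj 5 [32,8,24],
  .o9 4,
  .o9 4,
  .cj 4 [35,28,13,11,7],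
  .cj 6 [31,7,14,5],
  .cj 6 [17,32,23,6],
  .cj 6 [14,5,20,17,5],
  .cj 6 [14,13,5,1],
  .cj 6 [31,14,23,9],
  .cj 6 [24,14,1],
  .cj 6 [2,24,14,5],
  .cj 6 [2,24,14,23],
  .cj 5 [36,14,8,1],
  .o9 4,
  .o9 4,
  .cj 6 [36,26,17,14,9],
  .o9 4,
  .o9 4,
  .cj 5 [17,32,8,6,1],
  .o9 4,
  .o9 4,
  .cj 4 [11,27,13],
  .o9 4,
  .o9 4,
  .cj 5 [36,8,24,14,1],
  .o9 4,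
  .o9 4,
  .cj 4 [35,10,6,13,8,7],
  .o9 4,
  .o9 4,
  .cj 6 [32,5,20,9,5],
  .cj 6 [32,1,5],
  .cj 6 [32,20,1,23],
  .cj 6 [35,24,14],
  .cj 6 [27,32,19,5],
  .cj 6 [31,32,23,9],
  .cj 4 [17,9,28,11,7],
  .cj 6 [9,32,5],
  .cj 6 [32,24,13,23],
  .cj 6 [36,26,14],
  .o9 4,
  .o9 4,
  .cj 5 [32,8,6],
  .o9 4,
  .o9 4,
  .cj 5 [17,32,8,1],
  .o9 4,
  .o9 4,
  .cj 3 [28,27,12,7],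
  .o9 4,
  .o9 4,
  .cj 3 [35,29,10,9],
  .o9 4,
  .o9 4,
  .cj 5 [36,17,6],
  .o9 4,
  .o9 4,
  .cj 3 [17,10,25,6,10],
  .cj 6 [13,32,19,5],
  .cj 6 [32,23,17,6],
  .cj 6 [32,5,20,35,5],
  .cj 6 [32,31,5,1],
  .cj 6 [13,32,23,9],
  .cj 6 [32,24,1],
  .cj 6 [32,2,24,5],
  .cj 6 [32,2,24,23],
  .cj 5 [36,35,6,26,1],
  .o9 4,
  .o9 4,
  .cj 6 [36,35,32,26,9],
  .o9 4,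
  .o9 4,
  .cj 5 [26,24,1],
  .o9 4,
  .o9 4,
  .cj 2 [11,8,25,13],
  .o9 4,
  .o9 4,
  .cj 6 [36,17,8],
  .o9 4,
  .o9 4,
  .cj 6 [32,35,2,6,8],
  .o9 4,
  .o9 4,
  .cj 6 [32,35,2,6],
  .cj 6 [31,32,1,5],
  .cj 6 [27,32,23,9],
  .cj 0 [36,17,9,6],
  .cj 6 [32,20,6,5],
  .cj 6 [32,24,23,1],
  .cj 6 [36,8,24,17],
  .cj 6 [35,14,5],
  .cj 6 [9,32,23,6],
  .cj 6 [24,26,17,1],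
  .o9 4,
  .o9 4,
  .cj 6 [8,5,31,20,5],
  .o9 4,
  .o9 4,
  .cj 1 [17,6,1],
  .o9 4,
  .o9 4,
  .cj 4 [8,11],
  .cj 5 [27,11,26,17,14,6,1],
  .cj 4 [34,12,28,25],
  .o9 4,
  .o9 4,
  .o9 4,
  .o9 4,
  .o9 4,
  .o9 4,
  .o9 5,
  .o9 0,
  .o9 0,
  .o9 4,
  .o9 0,
  .o9 0,
  .o9 4,
  .o9 0,
  .o9 0,
  .o9 5,
  .o9 0,
  .o9 0,
  .o9 4,
  .o9 0,
  .o9 0,
  .o9 4,
  .o9 0,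
  .o9 0,
  .cj 3 [13,12,7],
  .cj 3 [36,34,28],
  .cj 5 [31,9,29,35,6],
  .o9 4,
  .o9 4,
  .o9 4,
  .o9 4,
  .o9 4,
  .o9 4,
  .o9 4,
  .o9 0,
  .o9 0,
  .o9 4,
  .o9 0,
  .o9 0,
  .o9 4,
  .o9 0,
  .o9 0,
  .o9 4,
  .o9 0,
  .o9 0,
  .o9 4,
  .o9 0,
  .o9 0,
  .o9 4,
  .o9 0,
  .o9 0,
  .cj 2 [25,8,12],
  .cj 6 [36,9,29,17,8,1],
  .cj 6 [9,6,31,29,35,8],
  .o9 4,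
  .o9 4,
  .o9 4,
  .o9 4,
  .o9 4,
  .o9 4,
  .o9 4,
  .o9 0,
  .o9 0,
  .o9 4,
  .o9 0,
  .o9 0,
  .o9 4,
  .o9 0,
  .o9 0,
  .o9 4,
  .o9 0,
  .o9 0,
  .o9 4,
  .o9 0,
  .o9 0,
  .o9 4,
  .o9 0,
  .o9 0,
  .cj 2 [8,12,9],
  .o9 4,
  .o9 4,
  .o9 4,
  .o9 4,
  .cj 6 [36,11,35,24,8],
  .o9 4,
  .cj 6 [31,11,17,8],
  .o9 4,
  .o9 5,
  .o9 0,
  .o9 0,
  .o9 4,
  .o9 0,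
  .o9 0,
  .o9 4,
  .o9 0,
  .o9 0,
  .o9 5,
  .o9 0,
  .o9 0,
  .o9 4,
  .o9 0,
  .o9 0,
  .o9 4,
  .o9 0,
  .o9 0,
  .cj 4 [32,8,7],
  .o9 4,
  .o9 4,
  .o9 4,
  .o9 4,
  .cj 4 [36,24,9,34,10],
  .o9 4,
  .cj 5 [32,11,8,24,8],
  .o9 4,
  .o9 4,
  .o9 0,
  .o9 0,
  .o9 4,
  .o9 0,
  .o9 0,
  .o9 4,
  .o9 0,
  .o9 0,
  .o9 4,
  .o9 0,
  .o9 0,
  .o9 4,
  .o9 0,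
  .o9 0,
  .o9 4,
  .o9 0,
  .o9 0,
  .cj 3 [6,13,8,7],
  .o9 4,
  .o9 4,
  .o9 4,
  .o9 4,
  .cj 5 [36,11,35,1],
  .o9 4,
  .cj 3 [9,34,25,10,7],
  .o9 4,
  .o9 4,
  .o9 0,
  .o9 0,
  .o9 4,
  .o9 0,
  .o9 0,
  .o9 4,
  .o9 0,
  .o9 0,
  .o9 4,
  .o9 0,
  .o9 0,
  .o9 4,
  .o9 0,
  .o9 0,
  .o9 4,
  .o9 0,
  .o9 0,
  .cj 3 [27,6,10],
  .o9 4,
  .o9 4,
  .o9 4,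
  .cj 3 [27,34,10,7],
  .o9 4,
  .o9 4,
  .o9 4,
  .cj 5 [36,29,24,17],
  .o9 5,
  .o9 0,
  .o9 0,
  .o9 4,
  .o9 0,
  .o9 0,
  .o9 4,
  .o9 0,
  .o9 0,
  .o9 5,
  .o9 0,
  .o9 0,
  .o9 4,
  .o9 0,
  .o9 0,
  .o9 4,
  .o9 0,
  .o9 0,
  .cj 2 [8,12,8,7],
  .o9 4,
  .o9 4,
  .o9 4,
  .cj 6 [29,26,24,17,1],
  .o9 4,
  .o9 4,
  .o9 4,
  .cj 6 [31,29,35,24,8],
  .o9 4,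
  .o9 0,
  .o9 0,
  .o9 4,
  .o9 0,
  .o9 0,
  .o9 4,
  .o9 0,
  .o9 0,
  .o9 4,
  .o9 0,
  .o9 0,
  .o9 4,
  .o9 0,
  .o9 0,
  .o9 4,
  .o9 0,
  .o9 0,
  .cj 4 [8,25,11],
  .o9 4,
  .o9 4,
  .o9 4,
  .cj 5 [29,26,14,2,6],
  .o9 4,
  .o9 4,
  .o9 4,
  .cj 4 [36,27,34,11,10],
  .o9 4,
  .o9 0,
  .o9 0,
  .o9 4,
  .o9 0,
  .o9 0,
  .o9 4,
  .o9 0,
  .o9 0,
  .o9 4,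
  .o9 0,
  .o9 0,
  .o9 4,
  .o9 0,
  .o9 0,
  .o9 4,
  .o9 0,
  .o9 0,
  .cj 3 [36,8,11],
  .cj 5 [36,27,25,11,17],
  .cj 3 [16,13,11,7],
  .o9 4,
  .o9 4,
  .o9 4,
  .o9 4,
  .o9 4,
  .o9 4,
  .o9 5,
  .o9 0,
  .o9 0,
  .o9 4,
  .o9 0,
  .o9 0,
  .o9 4,
  .o9 0,
  .o9 0,
  .o9 5,
  .o9 0,
  .o9 0,
  .o9 4,
  .o9 0,
  .o9 0,
  .o9 4,
  .o9 0,
  .o9 0,
  .cj 2 [31,30,10,7],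
  .cj 6 [36,9,29,35,8,1],
  .cj 6 [25,9,29,14,17,8],
  .o9 4,
  .o9 4,
  .o9 4,
  .o9 4,
  .o9 4,
  .o9 4,
  .o9 4,
  .o9 0,
  .o9 0,
  .o9 4,
  .o9 0,
  .o9 0,
  .o9 4,
  .o9 0,
  .o9 0,
  .o9 4,
  .o9 0,
  .o9 0,
  .o9 4,
  .o9 0,
  .o9 0,
  .o9 4,
  .o9 0,
  .o9 0,
  .cj 4 [28,25,11],
  .cj 4 [16,13],
  .cj 5 [27,11,26,14,6],
  .o9 4,
  .o9 4,
  .o9 4,
  .o9 4,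
  .o9 4,
  .o9 4,
  .o9 4,
  .o9 0,
  .o9 0,
  .o9 4,
  .o9 0,
  .o9 0,
  .o9 4,
  .o9 0,
  .o9 0,
  .o9 4,
  .o9 0,
  .o9 0,
  .o9 4,
  .o9 0,
  .o9 0,
  .o9 4,
  .o9 0,
  .o9 0,
  .cj 4 [8,11,9],
  .o9 4,
  .o9 4,
  .o9 4,
  .cj 4 [27,25,16,13],
  .o9 4,
  .o9 4,
  .o9 4,
  .cj 5 [29,26,17,14,6],
  .o9 5,
  .o9 0,
  .o9 0,
  .o9 4,
  .o9 0,
  .o9 0,
  .o9 4,
  .o9 0,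
  .o9 0,
  .o9 5,
  .o9 0,
  .o9 0,
  .o9 4,
  .o9 0,
  .o9 0,
  .o9 4,
  .o9 0,
  .o9 0,
  .cj 3 [30,10,8,7],
  .o9 4,
  .o9 4,
  .o9 4,
  .cj 5 [7,29,14,17],
  .o9 4,
  .o9 4,
  .o9 4,
  .cj 3 [27,16,11,10],
  .o9 4,
  .o9 0,
  .o9 0,
  .o9 4,
  .o9 0,
  .o9 0,
  .o9 4,
  .o9 0,
  .o9 0,
  .o9 4,
  .o9 0,
  .o9 0,
  .o9 4,
  .o9 0,
  .o9 0,
  .o9 4,
  .o9 0,
  .o9 0,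
  .cj 2 [28,24,12,9],
  .o9 4,
  .o9 4,
  .o9 4,
  .cj 6 [29,35,26,24,1],
  .o9 4,
  .o9 4,
  .o9 4,
  .cj 6 [7,29,14,17,8],
  .o9 4,
  .o9 0,
  .o9 0,
  .o9 4,
  .o9 0,
  .o9 0,
  .o9 4,
  .o9 0,
  .o9 0,
  .o9 4,
  .o9 0,
  .o9 0,
  .o9 4,
  .o9 0,
  .o9 0,
  .o9 4,
  .o9 0,
  .o9 0,
  .cj 2 [15,8,12,9],
  .o9 4,
  .o9 4,
  .o9 4,
  .o9 4,
  .cj 6 [36,24,11,17,8],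
  .o9 4,
  .cj 6 [13,11,35,8],
  .o9 4,
  .o9 5,
  .o9 0,
  .o9 0,
  .o9 4,
  .o9 0,
  .o9 0,
  .o9 4,
  .o9 0,
  .o9 0,
  .o9 5,
  .o9 0,
  .o9 0,
  .o9 4,
  .o9 0,
  .o9 0,
  .o9 4,
  .o9 0,
  .o9 0,
  .cj 4 [8,11,8,7],
  .o9 4,
  .o9 4,
  .o9 4,
  .o9 4,
  .cj 5 [7,11,26,14,6],
  .o9 4,
  .cj 4 [9,16,13,7],
  .o9 4,
  .o9 4,
  .o9 0,
  .o9 0,
  .o9 4,
  .o9 0,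
  .o9 0,
  .o9 4,
  .o9 0,
  .o9 0,
  .o9 4,
  .o9 0,
  .o9 0,
  .o9 4,
  .o9 0,
  .o9 0,
  .o9 4,
  .o9 0,
  .o9 0,
  .cj 3 [36,14,8,7],
  .o9 4,
  .o9 4,
  .o9 4,
  .o9 4,
  .cj 3 [24,9,16,10],
  .o9 4,
  .cj 5 [36,11,17],
  .o9 4,
  .o9 4,
  .o9 0,
  .o9 0,
  .o9 4,
  .o9 0,
  .o9 0,
  .o9 4,
  .o9 0,
  .o9 0,
  .o9 4,
  .o9 0,
  .o9 0,
  .o9 4,
  .o9 0,
  .o9 0,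
  .o9 4,
  .o9 0,
  .o9 0]

theorem h28_len_26 : h28_certs_26.length = 729 := by decide +kernel

theorem h28_chk_26 : chkAll 18954 h28_certs_26 = true := by decide +kernel

end Cfsg.Agent.Lib.Helper28.O73C
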